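import Mathlib.Data.Rat.Lemmas
import Mathlib.Tactic

/-!
The arithmetic of the last step of the case IIb.
-/

set_option autoImplicit false

namespace CfsgLib.GW.IIbFinal

/-- The orbit bound against the order formula when `4 * k` is at most `q - e`. -/
theorem small_case {ρ : ℚ} (hρ : ρ ≤ 15 / 8) {k q : ℕ} {e : ℤ} (he : e = 1 ∨ e = -1) (hk : 3 ≤ k)
    (hd : 4 * (k : ℤ) ≤ (q : ℤ) - e)
    (hb : ((k : ℚ) - 1) * ((q : ℚ) * ((q : ℚ) + e)) ^ 2 < 2 * ρ * (k : ℚ) ^ 3 * ((q : ℚ) - e) ^ 2) :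
    False := by
  have hk' : (3 : ℚ) ≤ k := by exact_mod_cast hk
  have hd' : 4 * (k : ℚ) ≤ (q : ℚ) - e := by exact_mod_cast hd
  set d := (q : ℚ) - e with hdd
  set Q2 := (q : ℚ) * ((q : ℚ) + e) with hQ2
  have hq : (11 : ℚ) ≤ q := by
    rcases he with rfl | rfl <;> push_cast at hdd <;> linarith
  have hlow : 7 / 10 * d ^ 2 ≤ Q2 := by
    rw [hQ2, hdd]
    rcases he with rfl | rfl <;> push_cast <;> nlinarith
  have hd0 : 0 < d := by linarith
  have h1 : 2 * ρ * (k : ℚ) ^ 3 * d ^ 2 ≤ 15 / 4 * (k : ℚ) ^ 3 * d ^ 2 := by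
    have : 0 ≤ (k : ℚ) ^ 3 * d ^ 2 := by positivity
    nlinarith
  have h2 : 2 / 3 * (k : ℚ) * Q2 ^ 2 < 15 / 4 * (k : ℚ) ^ 3 * d ^ 2 := by
    nlinarith [sq_nonneg Q2]
  have h3 : (7 / 10 * d ^ 2) ^ 2 ≤ Q2 ^ 2 := pow_le_pow_left₀ (by positivity) hlow 2
  have h4 : (k : ℚ) ^ 2 ≤ d ^ 2 / 16 := by nlinarith
  have h5 : 2 / 3 * Q2 ^ 2 < 15 / 4 * (k : ℚ) ^ 2 * d ^ 2 := by
    refine lt_of_mul_lt_mul_left ?_ (show (0 : ℚ) ≤ k by linarith)
    linarith
  have h6 : (k : ℚ) ^ 2 * d ^ 2 ≤ d ^ 2 / 16 * d ^ 2 := mul_le_mul_of_nonneg_right h4 (sq_nonneg d)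
  have h7 : 0 < d ^ 4 := by positivity
  linarith

/-- The bound on `q - e` in the extraspecial case. -/
theorem large_d_lt {ρ : ℚ} (hρ : ρ ≤ 15 / 8) {k q : ℕ} {e : ℤ} (he : e = 1 ∨ e = -1) (hk : 15 ≤ k)
    (hb : ((k : ℚ) - 1) * ((q : ℚ) * ((q : ℚ) + e)) ^ 2 < 2 * ρ * (k : ℚ) ^ 3 * ((q : ℚ) - e) ^ 2) :
    20 * ((q : ℤ) - e) < 47 * (k : ℤ) := by
  by_contra hc
  push Not at hc
  have hk' : (15 : ℚ) ≤ k := by exact_mod_cast hk
  have hd' : 47 * (k : ℚ) ≤ 20 * ((q : ℚ) - e) := by exact_mod_cast hc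
  set d := (q : ℚ) - e with hdd
  set Q2 := (q : ℚ) * ((q : ℚ) + e) with hQ2
  have hq : (30 : ℚ) ≤ q := by
    rcases he with rfl | rfl <;> push_cast at hdd <;> linarith
  have hlow : 9 / 10 * d ^ 2 ≤ Q2 := by
    rw [hQ2, hdd]
    rcases he with rfl | rfl <;> push_cast <;> nlinarith
  have hd0 : 0 < d := by linarith
  have h1 : 2 * ρ * (k : ℚ) ^ 3 * d ^ 2 ≤ 15 / 4 * (k : ℚ) ^ 3 * d ^ 2 := by
    have : 0 ≤ (k : ℚ) ^ 3 * d ^ 2 := by positivity
    nlinarith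
  have h2 : 14 / 15 * (k : ℚ) * Q2 ^ 2 < 15 / 4 * (k : ℚ) ^ 3 * d ^ 2 := by
    nlinarith [sq_nonneg Q2]
  have h3 : (9 / 10 * d ^ 2) ^ 2 ≤ Q2 ^ 2 := pow_le_pow_left₀ (by positivity) hlow 2
  have h4 : (k : ℚ) ^ 2 ≤ 400 / 2209 * d ^ 2 := by nlinarith
  have h5 : 14 / 15 * Q2 ^ 2 < 15 / 4 * (k : ℚ) ^ 2 * d ^ 2 := by
    refine lt_of_mul_lt_mul_left ?_ (show (0 : ℚ) ≤ k by linarith)
    linarith
  have h6 : (k : ℚ) ^ 2 * d ^ 2 ≤ 400 / 2209 * d ^ 2 * d ^ 2 :=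
    mul_le_mul_of_nonneg_right h4 (sq_nonneg d)
  have h7 : 0 < d ^ 4 := by positivity
  linarith

/-- The congruence endgame: `k = p r`, `q - e = 2 m p D`. -/
theorem cong_final {p r m D q N n x : ℕ} {e δ : ℤ} (hp : p.Prime) (hr : Odd r) (hr3 : 3 ≤ r)
    (hrp : 2 * r ≤ p + 1) (hm : 2 ≤ m) (hD : 0 < D) (he : e = 1 ∨ e = -1) (hq : IsPrimePow q)
    (hpq : ¬ p ∣ q) (hd : (q : ℤ) - e = 2 * m * (p * D))
    (hlt : 20 * ((q : ℤ) - e) < 47 * ((p : ℤ) * r))
    (hN : (p : ℤ) ^ 2 ∣ (N : ℤ) - 1) (hδ : δ = 1 ∨ δ = -1) (hx : 1 < x)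
    (hdvd : 2 * (m : ℤ) ∣ (x : ℤ) - δ)
    (hG : 2 * (N : ℤ) * ((x : ℤ) - δ) ^ 2 =
      (x : ℤ) * (x + δ) * ((p : ℤ) * r) ^ 2 * ((q : ℤ) - e) ^ 2)
    (hn : (n : ℤ) * (q * ((q : ℤ) + e)) * ((x : ℤ) - δ) ^ 2 =
      (x : ℤ) * (x + δ) * ((p : ℤ) * r) ^ 3 * ((q : ℤ) - e) ^ 2) :
    False := by
  have hp5 : 5 ≤ p := by
    by_contra hc
    have : p = 2 ∨ p = 3 ∨ p = 4 := by have := hp.two_le; omega
    rcases this with rfl | rfl | rfl
    · omega
    · omega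
    · norm_num at hp
  set u : ℤ := (x : ℤ) - δ with hu
  have hu0 : 0 < u := by rcases hδ with rfl | rfl <;> omega
  have hxu : (x : ℤ) * (x + δ) = (u + δ) * (u + 2 * δ) := by rw [hu]; ring
  obtain ⟨u₁, hu₁⟩ := hdvd
  set P : ℤ := (p : ℤ) with hP
  have hp0 : (0 : ℤ) < P := by rw [hP]; exact_mod_cast hp.pos
  have hm0 : (0 : ℤ) < 2 * m := by omega
  -- remove the common power of two
  have h1 : 2 * (N : ℤ) * u₁ ^ 2 = (u + δ) * (u + 2 * δ) * (P ^ 2 * (r * D)) ^ 2 := by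
    apply mul_left_cancel₀ (pow_ne_zero 2 hm0.ne')
    rw [hd, hu₁, hxu] at hG
    linear_combination hG
  -- the square of p
  have hcop : IsCoprime (P ^ 4) (2 * (N : ℤ)) := by
    refine IsCoprime.pow_left ?_
    refine IsCoprime.mul_right ?_ ?_
    · rw [Int.isCoprime_iff_nat_coprime]
      simp only [hP, Int.natAbs_natCast]
      exact (Nat.Prime.coprime_iff_not_dvd hp).2 fun h => by
        have := Nat.le_of_dvd two_pos (show p ∣ 2 from h); omega
    · rw [Int.isCoprime_iff_nat_coprime]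
      simp only [hP, Int.natAbs_natCast]
      refine (Nat.Prime.coprime_iff_not_dvd hp).2 fun h => ?_
      have h' : P ∣ (N : ℤ) := by rw [hP]; exact_mod_cast h
      have h'' : P ∣ (1 : ℤ) := by
        have := dvd_sub h' ((dvd_pow_self P two_ne_zero).trans hN)
        rwa [sub_sub_cancel] at this
      have := Int.le_of_dvd one_pos h''
      omega
  obtain ⟨j, hj⟩ : P ^ 2 ∣ u₁ := by
    have h : P ^ 4 ∣ 2 * (N : ℤ) * u₁ ^ 2 := by
      rw [h1]; exact ⟨(u + δ) * (u + 2 * δ) * ((r : ℤ) * D) ^ 2, by ring⟩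
    have h2 : (P ^ 2) ^ 2 ∣ u₁ ^ 2 := by rw [← pow_mul]; exact hcop.dvd_of_dvd_mul_left h
    exact (Int.pow_dvd_pow_iff two_ne_zero).1 h2
  set w : ℤ := (m : ℤ) * P ^ 2 * j with hw
  have huw : u = 2 * w := by rw [hw, hu₁, hj]; ring
  have h2 : (N : ℤ) * j ^ 2 = (2 * w + δ) * (w + δ) * ((r : ℤ) * D) ^ 2 := by
    have h0 : (2 : ℤ) * (P ^ 2) ^ 2 ≠ 0 := by positivity
    apply mul_left_cancel₀ h0
    rw [huw, hj] at h1
    linear_combination h1
  have hδu : IsUnit δ := by rcases hδ with rfl | rfl <;> decide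
  have hjw : j ∣ w := ⟨(m : ℤ) * P ^ 2, by rw [hw]; ring⟩
  have hc1 : ∀ a : ℤ, IsCoprime j (a * w + δ) := fun a => by
    obtain ⟨c, hc⟩ := hjw
    refine ⟨-(a * c) * δ, δ, ?_⟩
    rcases hδ with rfl | rfl <;> rw [hc] <;> ring
  have hjr : j ∣ (r : ℤ) * D := by
    have h : j ^ 2 ∣ (2 * w + δ) * (w + δ) * ((r : ℤ) * D) ^ 2 := h2 ▸ dvd_mul_left _ _
    refine (Int.pow_dvd_pow_iff two_ne_zero).1 ?_
    refine IsCoprime.dvd_of_dvd_mul_left ?_ h
    refine IsCoprime.pow_left (IsCoprime.mul_right (hc1 2) ?_)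
    simpa using hc1 1
  obtain ⟨i, hi⟩ := hjr
  have hu₁0 : 0 < u₁ := by
    by_contra hc
    nlinarith
  have hj0 : 0 < j := by
    by_contra hc
    have : P ^ 2 * j ≤ 0 := mul_nonpos_of_nonneg_of_nonpos (sq_nonneg P) (not_lt.1 hc)
    omega
  have hrD : (0 : ℤ) < (r : ℤ) * D := by positivity
  have hi0 : 0 < i := by
    by_contra hc
    have : j * i ≤ 0 := mul_nonpos_of_nonneg_of_nonpos hj0.le (not_lt.1 hc)
    omega
  have h3 : (N : ℤ) = (2 * w + δ) * (w + δ) * i ^ 2 := by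
    apply mul_right_cancel₀ (pow_ne_zero 2 hj0.ne')
    rw [h2, hi]; ring
  -- the bound on `i`
  have hdr : 20 * (2 * (m : ℤ) * D) < 47 * r := by
    refine lt_of_mul_lt_mul_left ?_ hp0.le
    rw [hd] at hlt
    linarith
  have hDr : 80 * (D : ℤ) < 47 * r := by
    have h4 : 4 * (D : ℤ) ≤ 2 * m * D := mul_le_mul_of_nonneg_right (by omega) (Int.natCast_nonneg D)
    linarith
  have hile : i ≤ (r : ℤ) * D := by
    rw [hi]; exact le_mul_of_one_le_left hi0.le hj0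
  have hip : i + 1 < P ^ 2 := by
    have hr' : 2 * (r : ℤ) ≤ P + 1 := by rw [hP]; exact_mod_cast hrp
    have hp' : (5 : ℤ) ≤ P := by rw [hP]; exact_mod_cast hp5
    have e1 : (r : ℤ) * (80 * (D : ℤ)) ≤ (r : ℤ) * (47 * r) :=
      mul_le_mul_of_nonneg_left hDr.le (Int.natCast_nonneg r)
    have e2 : (2 * (r : ℤ)) ^ 2 ≤ (P + 1) ^ 2 := pow_le_pow_left₀ (by omega) hr' 2
    have e3 : 5 * P ≤ P ^ 2 := by rw [sq]; exact mul_le_mul_of_nonneg_right hp' hp0.le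
    linarith
  have hi1 : i = 1 := by
    have h : P ^ 2 ∣ (i - 1) * (i + 1) := by
      have e1 : P ^ 2 ∣ (2 * w + δ) * (w + δ) * i ^ 2 - i ^ 2 := by
        obtain ⟨c, hc⟩ : P ^ 2 ∣ w := ⟨(m : ℤ) * j, by rw [hw]; ring⟩
        refine ⟨(2 * P ^ 2 * c * c + 3 * c * δ) * i ^ 2, ?_⟩
        rcases hδ with rfl | rfl <;> rw [hc] <;> ring
      rw [h3] at hN
      have e2 := dvd_sub hN e1
      rw [show (2 * w + δ) * (w + δ) * i ^ 2 - 1 - ((2 * w + δ) * (w + δ) * i ^ 2 - i ^ 2) =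
        (i - 1) * (i + 1) by ring] at e2
      exact e2
    have hprime : Prime P := by rw [hP]; exact Nat.prime_iff_prime_int.1 hp
    rcases hprime.dvd_or_dvd ((dvd_pow_self P two_ne_zero).trans h) with ha | ha
    · have hb : ¬ P ∣ i + 1 := fun hb => by
        have := Int.le_of_dvd (by norm_num) (show P ∣ 2 by simpa using dvd_sub hb ha)
        omega
      have h' := ((hprime.coprime_iff_not_dvd.2 hb).pow_left (m := 2)).dvd_of_dvd_mul_right h
      rcases lt_or_eq_of_le (show (1 : ℤ) ≤ i by omega) with hgt | heq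
      · have := Int.le_of_dvd (by omega) h'; omega
      · omega
    · have hb : ¬ P ∣ i - 1 := fun hb => by
        have := Int.le_of_dvd (by norm_num) (show P ∣ 2 by simpa using dvd_sub ha hb)
        omega
      have h' := ((hprime.coprime_iff_not_dvd.2 hb).pow_left (m := 2)).dvd_of_dvd_mul_left h
      have := Int.le_of_dvd (by omega) h'
      omega
  -- so `u = k (q - e)`
  have hku : u = P * r * ((q : ℤ) - e) := by
    rw [hi1, mul_one] at hi
    rw [hu₁, hj, ← hi, hd]; ring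
  have hn' : (n : ℤ) * (q * ((q : ℤ) + e)) = (u + δ) * (u + 2 * δ) * (P * r) := by
    apply mul_right_cancel₀ (pow_ne_zero 2 hu0.ne')
    rw [hn, hxu, hku]; ring
  obtain ⟨l, f, hl, hf, rfl⟩ := hq
  have hl' : l.Prime := Nat.prime_iff.2 hl
  have hlp : l ≠ p := fun e => hpq (e ▸ dvd_pow_self l hf.ne')
  have hdvdq : ((l ^ f : ℕ) : ℤ) ∣ (u + δ) * (u + 2 * δ) * (P * r) :=
    hn' ▸ (dvd_mul_right _ _).mul_left _
  have hqbig : 4 * P - 1 ≤ ((l ^ f : ℕ) : ℤ) := by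
    have : (2 : ℤ) * 2 * (P * 1) ≤ 2 * m * (P * D) := by gcongr <;> omega
    rcases he with rfl | rfl <;> rw [hP] at * <;> omega
  set q : ℤ := ((l ^ f : ℕ) : ℤ) with hqdef
  have hr' : 2 * (r : ℤ) ≤ P + 1 := by rw [hP]; exact_mod_cast hrp
  have hlP : IsCoprime q P := by
    rw [hqdef, hP, Int.isCoprime_iff_nat_coprime]
    simpa using ((Nat.coprime_primes hl' hp).2 hlp).pow_left f
  by_cases hlr : l ∣ r
  · have hlodd : l ≠ 2 := fun e => by
      subst e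
      exact (Nat.not_even_iff_odd.2 hr) (even_iff_two_dvd.2 hlr)
    have hlu : (l : ℤ) ∣ u := by
      rw [hku]
      exact ((Int.natCast_dvd_natCast.2 hlr).mul_left _).mul_right _
    have hc : ∀ c : ℤ, (c = 1 ∨ c = 2) → IsCoprime q (u + c * δ) := by
      intro c hc
      rw [hqdef, Nat.cast_pow]
      refine IsCoprime.pow_left ?_
      refine (Nat.prime_iff_prime_int.1 hl').coprime_iff_not_dvd.2 fun hd => ?_
      have h' : (l : ℤ) ∣ c * δ := by simpa using dvd_sub hd hlu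
      have h'' : (l : ℤ) ∣ c := (IsUnit.dvd_mul_right hδu).1 h'
      have := Int.le_of_dvd (by omega) h''
      have := hl'.two_le
      rcases hc with rfl | rfl
      · omega
      · exact hlodd (by omega)
    have h' : q ∣ (r : ℤ) := by
      refine hlP.dvd_of_dvd_mul_left ?_
      refine IsCoprime.dvd_of_dvd_mul_left ?_ hdvdq
      exact IsCoprime.mul_right (by simpa using hc 1 (Or.inl rfl)) (hc 2 (Or.inr rfl))
    have := Int.le_of_dvd (by omega) h'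
    omega
  · have hqr : IsCoprime q (P * r) := by
      refine hlP.mul_right ?_
      rw [hqdef, Int.isCoprime_iff_nat_coprime]
      simpa using (hl'.coprime_iff_not_dvd.2 hlr).pow_left f
    have hdvd2 := hqr.dvd_of_dvd_mul_right hdvdq
    obtain ⟨c, hc, hcd⟩ : ∃ c : ℤ, (c = 1 ∨ c = 2) ∧ q ∣ u + c * δ := by
      have hco : IsCoprime (u + δ) (u + 2 * δ) :=
        ⟨-δ, δ, by rcases hδ with rfl | rfl <;> ring⟩
      rw [hqdef, Nat.cast_pow] at hdvd2 ⊢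
      have hlz := Nat.prime_iff_prime_int.1 hl'
      by_cases h : (l : ℤ) ∣ u + δ
      · refine ⟨1, Or.inl rfl, ?_⟩
        rw [one_mul]
        refine IsCoprime.dvd_of_dvd_mul_right ?_ hdvd2
        refine (hlz.coprime_iff_not_dvd.2 fun h2 => ?_).pow_left
        exact hlz.not_isUnit (hco.isUnit_of_dvd' h h2)
      · exact ⟨2, Or.inr rfl, (hlz.coprime_iff_not_dvd.2 h).pow_left.dvd_of_dvd_mul_left hdvd2⟩
    have he2 : e * e = 1 := by rcases he with rfl | rfl <;> norm_num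
    have hA : q ∣ (r : ℤ) + c * δ * (2 * m * D) := by
      -- multiply by `2 m D` and reduce modulo `q`
      have h := hcd.mul_left (2 * (m : ℤ) * D)
      have e1 : (2 * (m : ℤ) * D) * (u + c * δ) =
          (r : ℤ) * (q - e) * (q - e) + c * δ * (2 * m * D) := by
        rw [hku]
        have := hd
        linear_combination (-(r : ℤ) * (q - e)) * this
      rw [e1] at h
      have h2 : q ∣ (r : ℤ) * q * (q - 2 * e) := (dvd_mul_left q _).mul_right _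
      have h3 := dvd_sub h h2
      have e3 : (r : ℤ) * (q - e) * (q - e) + c * δ * (2 * m * D) - (r : ℤ) * q * (q - 2 * e) =
          (r : ℤ) + c * δ * (2 * m * D) := by linear_combination (r : ℤ) * he2
      rwa [e3] at h3
    have hne : (r : ℤ) + c * δ * (2 * m * D) ≠ 0 := by
      intro h0
      obtain ⟨a, ha⟩ := hr
      have : (2 : ℤ) * (a + c * δ * (m * D)) = -1 := by
        subst ha; push_cast at h0; linear_combination h0
      omega
    have hA' := Int.le_of_dvd (abs_pos.2 hne) ((dvd_abs _ _).2 hA)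
    have habs : |(r : ℤ) + c * δ * (2 * m * D)| ≤ r + 2 * (2 * m * D) := by
      have hpos : (0 : ℤ) ≤ 2 * m * D := by positivity
      rw [abs_le]
      rcases hc with rfl | rfl <;> rcases hδ with rfl | rfl <;> constructor <;> omega
    omega

end CfsgLib.GW.IIbFinal
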