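import Cfsg.Agent.Lib.GW.IIb.FinalCount
import Cfsg.Agent.Lib.GW.IIb.Arith

/-!
(IIb), step 7: the case `⟨a, z⟩` normal in `C`.
-/

set_option autoImplicit false
set_option linter.unusedSectionVars false
set_option linter.style.haveILetI false

namespace CfsgLib.GW.IIbData

open Cfsg
open CfsgLib.BenderMax (OO FF)
open scoped commutatorElement

universe u

variable {G : Type u} [Group G] [Finite G] (D : IIbData G)

/-- `p ∣ q - e` and `4 p ∣ q - e`. -/
theorem four_p_dvd : (4 * (D.p : ℤ)) ∣ (D.q : ℤ) - D.e := by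
  have hp := D.conf.hp
  have hp2 := D.conf.hp2
  have hne : OO D.p (centI D.t) ≠ ⊥ := fun e => D.A_ne (le_bot_iff.mp (D.A_le_P.trans e.le))
  obtain ⟨z, hz, hzo⟩ := IIbFit.exists_order hp
    ((BenderMax.OO_isPGroup D.p (centI D.t)).to_le ((D.Q_le D.p hp hp2).trans inf_le_left))
    (D.Q_ne D.p hp hp2 hne)
  refine IsCoprime.mul_dvd ?_ D.hq4 ?_
  · rw [show (4 : ℤ) = ((4 : ℕ) : ℤ) from rfl, Int.isCoprime_iff_nat_coprime, Int.natAbs_natCast, Int.natAbs_natCast]
    exact Nat.Coprime.pow_left 2 (Nat.coprime_two_left.mpr (hp.odd_of_ne_two hp2))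
  · exact (Int.natCast_dvd_natCast.mpr (hzo.symm.dvd.trans (Subgroup.orderOf_dvd_natCard _ hz))).trans
      (D.Q_dvd D.p hp hp2)

/-- `k` is bounded by the number of subgroups of order `p` of a normal `⟨a, z⟩`. -/
theorem kk_le {a z : G} (ha : a ∈ D.A) (hao : orderOf a = D.p) (hz : z ∈ D.Q D.p) (hzo : orderOf z = D.p)
    (hE : centI D.t ≤ Subgroup.normalizer ((Subgroup.zpowers a ⊔ Subgroup.zpowers z : Subgroup G) : Set G)) :
    D.kk ≤ D.p := by
  classical
  have hp := D.conf.hp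
  have hp2 := D.conf.hp2
  set C := centI D.t
  set V := Subgroup.zpowers a ⊔ Subgroup.zpowers z
  have hza : a * z = z * a := (D.comm_W (D.A_le_W ha) (D.Q_le D.p hp hp2 hz).2).symm
  have hmeet : Subgroup.zpowers a ⊓ Subgroup.zpowers z = ⊥ := le_bot_iff.mp
    ((inf_le_inf (Subgroup.zpowers_le.mpr (D.A_le_W ha)) (Subgroup.zpowers_le.mpr hz)).trans
      ((inf_comm _ _).le.trans (D.Q_meet D.p hp hp2).le))
  obtain ⟨hV, -⟩ := IIbFit.card_pair hza hao hzo hmeet
  have hapow : ∀ i : ℕ, 0 < i → i < D.p → a ^ i ≠ 1 := fun i h0 hi e => by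
    have := Nat.le_of_dvd h0 (orderOf_dvd_of_pow_eq_one e)
    omega
  let X := ↥C ⧸ D.H.subgroupOf C
  let f : X × Fin (D.p - 1) → {y : V // y ≠ 1} := fun c =>
    ⟨⟨(c.1.out : G) * a ^ (c.2.1 + 1) * (c.1.out : G)⁻¹,
      (Subgroup.mem_normalizer_iff.mp (hE c.1.out.2) _).mp
        (Subgroup.mem_sup_left (Subgroup.pow_mem _ (Subgroup.mem_zpowers a) _))⟩, fun e => by
      have e' : (c.1.out : G) * a ^ (c.2.1 + 1) * (c.1.out : G)⁻¹ = 1 := congrArg Subtype.val e
      exact hapow _ (Nat.succ_pos _) (by have := c.2.2; omega) (conj_eq_one_iff.mp e')⟩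
  have hf : Function.Injective f := by
    rintro ⟨x, i⟩ ⟨y, j⟩ e
    have e' : (x.out : G) * a ^ (i.1 + 1) * (x.out : G)⁻¹ = (y.out : G) * a ^ (j.1 + 1) * (y.out : G)⁻¹ :=
      congrArg (fun w : {y : V // y ≠ 1} => ((w.1 : V) : G)) e
    have hxy : x = y := by
      rw [← x.out_eq', ← y.out_eq']
      refine QuotientGroup.eq.mpr ?_
      show (x.out : G)⁻¹ * y.out ∈ D.H
      by_contra hn
      have h := D.meet_conj _ (mul_mem (inv_mem x.out.2) y.out.2) hn (a ^ (j.1 + 1)) (pow_mem ha _) (by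
        rw [show (x.out : G)⁻¹ * y.out * a ^ (j.1 + 1) * ((x.out : G)⁻¹ * y.out)⁻¹ =
          (x.out : G)⁻¹ * ((y.out : G) * a ^ (j.1 + 1) * (y.out : G)⁻¹) * x.out by group, ← e']
        simp only [mul_assoc, inv_mul_cancel, mul_one, inv_mul_cancel_left]
        exact pow_mem ha _)
      exact hapow _ (Nat.succ_pos _) (by have := j.2; omega) h
    subst hxy
    have h := mul_left_cancel (mul_right_cancel e')
    have hij : i.1 + 1 = j.1 + 1 := pow_injOn_Iio_orderOf (x := a)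
      (by show i.1 + 1 < orderOf a; have := i.2; omega) (by show j.1 + 1 < orderOf a; have := j.2; omega) h
    exact Prod.ext rfl (Fin.ext (Nat.add_right_cancel hij))
  have h := Nat.card_le_card_of_injective f hf
  have hcV : Nat.card {y : V // y ≠ 1} = D.p ^ 2 - 1 := by
    rw [← hV]
    have h1 := Set.ncard_compl ({1} : Set V)
    rw [Set.ncard_singleton, ← Nat.card_coe_set_eq] at h1
    exact h1
  rw [Nat.card_prod, ← Subgroup.index_eq_card, Nat.card_fin, hcV] at h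
  have h' : D.kk * (D.p - 1) ≤ (D.p + 1) * (D.p - 1) := by
    refine le_trans h (le_of_eq ?_)
    rw [← Nat.sq_sub_sq, one_pow]
  have hk := Nat.le_of_mul_le_mul_right h' (by have := hp.two_le; omega)
  obtain ⟨j, hj⟩ := D.kk_odd
  obtain ⟨i, hi⟩ := hp.odd_of_ne_two hp2
  omega

/-- The case `⟨a, z⟩` normal. -/
theorem no_case_one {a z : G} (ha : a ∈ D.A) (hao : orderOf a = D.p) (hz : z ∈ D.Q D.p) (hzo : orderOf z = D.p)
    (hE : centI D.t ≤ Subgroup.normalizer ((Subgroup.zpowers a ⊔ Subgroup.zpowers z : Subgroup G) : Set G)) :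
    False := by
  obtain ⟨m, ρ, -, -, -, hρ, hn, -⟩ := D.index_formula
  have hk := D.kk_le ha hao hz hzo hE
  have h4 := Int.le_of_dvd D.q_sub_e_pos D.four_p_dvd
  exact IIbFinal.small_case hρ D.he D.three_le_kk (by omega) (D.orbit_bound hn)

/-- If `O_p(C) ≤ H` then `⟨a, z⟩` is normal. -/
theorem no_abelian (hP : OO D.p (centI D.t) ≤ D.H) : False := by
  have hp := D.conf.hp
  have hp2 := D.conf.hp2
  haveI := Fact.mk hp
  set R := OO D.p (centI D.t)
  have hR : IsPGroup D.p R := BenderMax.OO_isPGroup _ _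
  have hne : R ≠ ⊥ := fun e => D.A_ne (le_bot_iff.mp (D.A_le_P.trans e.le))
  obtain ⟨a, ha, hao⟩ := IIbFit.exists_order hp (hR.to_le D.A_le_P) D.A_ne
  obtain ⟨z, hz, hzo⟩ := IIbFit.exists_order hp (hR.to_le ((D.Q_le D.p hp hp2).trans inf_le_left))
    (D.Q_ne D.p hp hp2 hne)
  refine D.no_case_one ha hao hz hzo fun g hg => ?_
  haveI := D.core_W_cyclic D.p hp hp2
  haveI := D.Q_cyclic D.p hp hp2
  have hsplit : R = R ⊓ D.W ⊔ D.Q D.p := by
    rw [← D.core_split D.p hp hp2]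
    exact (inf_eq_left.mpr hP).symm
  have hza : a * z = z * a := (D.comm_W (D.A_le_W ha) (D.Q_le D.p hp hp2 hz).2).symm
  have hmeet : R ⊓ D.W ⊓ D.Q D.p = ⊥ :=
    le_bot_iff.mp ((le_inf inf_le_right (inf_le_left.trans inf_le_right)).trans (D.Q_meet D.p hp hp2).le)
  obtain ⟨-, hexp⟩ := IIbFit.card_pair hza hao hzo (le_bot_iff.mp
    ((inf_le_inf (Subgroup.zpowers_le.mpr (show a ∈ R ⊓ D.W from ⟨D.A_le_P ha, D.A_le_W ha⟩))
      (Subgroup.zpowers_le.mpr hz)).trans hmeet.le))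
  refine Subgroup.mem_normalizer_fintype fun x hx => ?_
  have hxR : x ∈ R := (sup_le (Subgroup.zpowers_le.mpr (D.A_le_P ha))
    (Subgroup.zpowers_le.mpr (D.Q_le D.p hp hp2 hz).1)) hx
  refine IIbFit.omega_pair (A := R ⊓ D.W) (B := D.Q D.p) (fun s hs w hw => (D.comm_W hs.2 (D.Q_le D.p hp hp2 hw).2).symm) hmeet hp.pos
    (show a ∈ R ⊓ D.W from ⟨D.A_le_P ha, D.A_le_W ha⟩) hao hz hzo (hsplit ▸ BenderMax.conj_OO hg hxR) ?_
  rw [conj_pow, hexp x hx, mul_one, mul_inv_cancel]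

end CfsgLib.GW.IIbData
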