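import Cfsg.Agent.Lib.GW.IIb.RotationAct

/-!
(IIb), the left case: the image of `O = O(C(t))` on `P / Z(P)` is cyclic of order at most `(p + 1) / 2` and prime to
`p`; its kernel is `P` times a central subgroup.
-/

set_option autoImplicit false
set_option linter.style.haveILetI false
set_option linter.unusedSectionVars false

namespace CfsgLib.GW

open Cfsg
open CfsgLib.BenderMax (OO)
open scoped commutatorElement

universe u

variable {G : Type u} [Group G] [Finite G]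

theorem IIbData.action_split (D : IIbData G) (hP : ¬ OO D.p (centI D.t) ≤ D.H)
    (hO' : coreC D.t ≤ ⁅centI D.t, centI D.t⁆)
    (hQc : ∀ y ∈ D.Q D.p, ∀ w ∈ OO D.p (centI D.t), w * y = y * w)
    (hPcard : Nat.card (OO D.p (centI D.t)) = D.p ^ 2 * Nat.card (D.Q D.p))
    {a y : G} (haPm : a ∈ OO D.p (centI D.t)) (hyP : y ∈ OO D.p (centI D.t))
    (hgen : ∀ c : G, c * a = a * c → c * y = y * c → (∀ q ∈ D.Q D.p, c * q = q * c) →
        ∀ x ∈ OO D.p (centI D.t), c * x = x * c)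
    (hab : ∀ w ∈ OO D.p (centI D.t), ∀ x ∈ OO D.p (centI D.t), x⁻¹ * (w * x * w⁻¹) ∈ D.Q D.p)
    (hpow : ∀ x ∈ OO D.p (centI D.t), x ^ D.p ∈ D.Q D.p)
    (N : Subgroup (coreC D.t))
    (hker : ∀ o : coreC D.t, o ∈ N ↔ ∀ x ∈ OO D.p (centI D.t), x⁻¹ * ((o : G) * x * (o : G)⁻¹) ∈ D.Q D.p)
    {z : G} (hz : z ∈ D.Q D.p) (hzo : orderOf z = D.p) :
    (∀ n ∈ N, ∀ x ∈ OO D.p (centI D.t), (n : G) * x * (n : G)⁻¹ * x⁻¹ ∈ Subgroup.zpowers z) ∧
    (∀ o : coreC D.t, (o : G) ∈ OO D.p (centI D.t) → o ∈ N) ∧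
    (∀ n ∈ N, ∃ w ∈ OO D.p (centI D.t), ∃ c ∈ coreC D.t,
        (∀ u ∈ coreC D.t, u * c = c * u) ∧ (n : G) = w * c) := by
  classical
  obtain ⟨-, -, -, -, -, -, -, -, hPc, -, -⟩ := D.nonab hP
  have hp := D.conf.hp
  have hp2 := D.conf.hp2
  haveI : Fact D.p.Prime := ⟨hp⟩
  have hPO : (OO D.p (centI D.t)) ≤ coreC D.t := D.OO_le_core hp hp2
  have hPC : (OO D.p (centI D.t)) ≤ (centI D.t) := D.OO_le_C D.p
  have hOC : coreC D.t ≤ (centI D.t) := D.core_le_C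
  have hQP : D.Q D.p ≤ (OO D.p (centI D.t)) := fun y hy => (D.Q_le D.p hp hp2 hy).1
  have homega : ∀ y ∈ D.Q D.p, y ^ D.p = 1 → y ∈ Subgroup.zpowers z := fun y hy h => D.omega_Q hz hzo hy h
  have hf : ∀ n ∈ N, ∀ x ∈ (OO D.p (centI D.t)),
      (n : G) * x * (n : G)⁻¹ * x⁻¹ ∈ D.Q D.p ∧ ((n : G) * x * (n : G)⁻¹ * x⁻¹) ^ D.p = 1 := by
    intro n hn x hx
    have hm : (n : G) * x * (n : G)⁻¹ ∈ (OO D.p (centI D.t)) := BenderMax.conj_OO (hOC n.2) hx
    have h' : x⁻¹ * ((n : G) * x * (n : G)⁻¹) ∈ D.Q D.p := (hker n).1 hn x hx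
    set q := x⁻¹ * ((n : G) * x * (n : G)⁻¹) with hqdef
    have hcq : Commute x q := hQc q h' x hx
    have hxq : (n : G) * x * (n : G)⁻¹ = q * x := by rw [← hcq.eq, hqdef]; group
    rw [hxq, mul_inv_cancel_right]
    refine ⟨h', ?_⟩
    have hxp : x ^ D.p ∈ D.Q D.p := hpow x hx
    have e : ((n : G) * x * (n : G)⁻¹) ^ D.p = x ^ D.p := by
      rw [conj_pow, D.core_comm_Q hP hO' hQc hxp _ n.2, mul_inv_cancel_right]
    rw [hxq, hcq.symm.mul_pow] at e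
    exact mul_eq_right.1 e
  have hf' : ∀ n ∈ N, ∀ x ∈ (OO D.p (centI D.t)), (n : G) * x * (n : G)⁻¹ * x⁻¹ ∈ Subgroup.zpowers z :=
    fun n hn x hx => homega _ (hf n hn x hx).1 (hf n hn x hx).2
  have hPN : ∀ o : coreC D.t, (o : G) ∈ (OO D.p (centI D.t)) → o ∈ N := fun o ho => (hker o).2 (hab _ ho)
  -- `N` is `P` times a central subgroup
  have hsplit : ∀ n ∈ N, ∃ w ∈ (OO D.p (centI D.t)), ∃ c ∈ coreC D.t,
      (∀ u ∈ coreC D.t, u * c = c * u) ∧ (n : G) = w * c := by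
    have hval : ∀ (u x : ↥(OO D.p (centI D.t))), (u : G) * x * (u : G)⁻¹ * (x : G)⁻¹ ∈ Subgroup.zpowers z :=
      fun u x => hf' ⟨u, hPO u.2⟩ (hPN _ u.2) x x.2
    have hzc : ∀ k ∈ Subgroup.zpowers z, ∀ w ∈ (OO D.p (centI D.t)), w * k = k * w := fun k hk w hw =>
      hQc k (Subgroup.zpowers_le.2 hz hk) w hw
    have hmul : ∀ (u u' x : ↥(OO D.p (centI D.t))), (⟨_, hval (u * u') x⟩ : Subgroup.zpowers z) = ⟨_, hval u x⟩ * ⟨_, hval u' x⟩ := by
      intro u u' x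
      refine Subtype.ext ?_
      push_cast
      have hc : (u : G) * x * (u : G)⁻¹ * (x : G)⁻¹ * ((u' : G) * x * (u' : G)⁻¹ * (x : G)⁻¹) =
          ((u' : G) * x * (u' : G)⁻¹ * (x : G)⁻¹) * ((u : G) * x * (u : G)⁻¹ * (x : G)⁻¹) :=
        (hzc _ (hval u' x) _ (Subgroup.zpowers_le.2 (hQP hz) (hval u x)))
      rw [hc]
      calc (u : G) * u' * x * ((u : G) * u')⁻¹ * (x : G)⁻¹
          = (u : G) * ((u' : G) * x * (u' : G)⁻¹ * (x : G)⁻¹) * ((x : G) * (u : G)⁻¹ * (x : G)⁻¹) := by group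
        _ = ((u' : G) * x * (u' : G)⁻¹ * (x : G)⁻¹) * ((u : G) * ((x : G) * (u : G)⁻¹ * (x : G)⁻¹)) := by
          rw [hzc _ (hval u' x) _ u.2, mul_assoc]
        _ = _ := by group
    let Φ : ↥(OO D.p (centI D.t)) →* Subgroup.zpowers z × Subgroup.zpowers z :=
      MonoidHom.mk' (fun u => (⟨_, hval u ⟨a, haPm⟩⟩, ⟨_, hval u ⟨y, hyP⟩⟩))
        fun u u' => Prod.ext (hmul u u' _) (hmul u u' _)
    have hΦ : Φ.ker ≤ (D.Q D.p).subgroupOf (OO D.p (centI D.t)) := fun u hu => by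
      have h := MonoidHom.mem_ker.1 hu
      have h1 : (u : G) * a * (u : G)⁻¹ * a⁻¹ = 1 := congrArg (fun q : Subgroup.zpowers z × Subgroup.zpowers z => (q.1 : G)) h
      have h2 : (u : G) * y * (u : G)⁻¹ * y⁻¹ = 1 := congrArg (fun q : Subgroup.zpowers z × Subgroup.zpowers z => (q.2 : G)) h
      rw [mul_inv_eq_one, mul_inv_eq_iff_eq_mul] at h1 h2
      exact hPc _ u.2 fun w hw => (hgen _ h1 h2 (fun q hq => hQc q hq _ u.2) w hw).symm
    have hsurj : Function.Surjective Φ := by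
      rw [← MonoidHom.range_eq_top]
      refine Subgroup.eq_top_of_le_card _ ?_
      rw [Nat.card_prod, Nat.card_zpowers, hzo]
      have hk : Nat.card Φ.ker * Nat.card Φ.range = D.p ^ 2 * Nat.card (D.Q D.p) := by
        rw [← hPcard, ← Subgroup.index_ker, Subgroup.card_mul_index]
      have hle : Nat.card Φ.ker ≤ Nat.card (D.Q D.p) :=
        (Subgroup.card_le_of_le hΦ).trans (Nat.card_congr (Subgroup.subgroupOfEquivOfLe hQP).toEquiv).le
      have hq0 : 0 < Nat.card (D.Q D.p) := Nat.card_pos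
      nlinarith
    intro n hn
    obtain ⟨u, hu⟩ := hsurj (⟨_, hf' n hn a haPm⟩, ⟨_, hf' n hn y hyP⟩)
    have h1 : (u : G) * a * (u : G)⁻¹ * a⁻¹ = (n : G) * a * (n : G)⁻¹ * a⁻¹ := congrArg (fun q : Subgroup.zpowers z × Subgroup.zpowers z => (q.1 : G)) hu
    have h2 : (u : G) * y * (u : G)⁻¹ * y⁻¹ = (n : G) * y * (n : G)⁻¹ * y⁻¹ := congrArg (fun q : Subgroup.zpowers z × Subgroup.zpowers z => (q.2 : G)) hu
    have hcm : (u : G)⁻¹ * n ∈ coreC D.t := mul_mem (inv_mem (hPO u.2)) n.2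
    have hcomm : ∀ g : G, (u : G) * g * (u : G)⁻¹ * g⁻¹ = (n : G) * g * (n : G)⁻¹ * g⁻¹ →
        (u : G)⁻¹ * n * g = g * ((u : G)⁻¹ * n) := fun g hg => by
      have e := mul_right_cancel hg
      calc (u : G)⁻¹ * n * g = (u : G)⁻¹ * ((n : G) * g * (n : G)⁻¹) * n := by group
        _ = (u : G)⁻¹ * ((u : G) * g * (u : G)⁻¹) * n := by rw [e]
        _ = _ := by group
    refine ⟨u, u.2, (u : G)⁻¹ * n, hcm, D.centP_central hP hO' hQc hcm fun w hw => ?_, by group⟩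
    exact (hgen _ (hcomm _ h1) (hcomm _ h2) (fun q hq => D.core_comm_Q hP hO' hQc hq _ hcm) w hw).symm
  exact ⟨hf', hPN, hsplit⟩

theorem IIbData.invert_mod (D : IIbData G)
    (hX : coreC D.t ⊓ Subgroup.centralizer ({D.v} : Set G) = D.A)
    (N : Subgroup (coreC D.t)) [N.Normal]
    (hPN : ∀ o : coreC D.t, (o : G) ∈ OO D.p (centI D.t) → o ∈ N)
    (hNv : ∀ o o' : coreC D.t, (o' : G) = D.v * o * D.v⁻¹ → o ∈ N → o' ∈ N) :
    (∀ o o' : coreC D.t, (o' : G) = D.v * o * D.v⁻¹ → o' * o ∈ N) ∧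
      ∀ x y : ↥(coreC D.t) ⧸ N, x * y = y * x := by
  classical
  have hp := D.conf.hp
  have hp2 := D.conf.hp2
  haveI : Fact D.p.Prime := ⟨hp⟩
  have hPO : (OO D.p (centI D.t)) ≤ coreC D.t := D.OO_le_core hp hp2
  have hPC : (OO D.p (centI D.t)) ≤ (centI D.t) := D.OO_le_C D.p
  have hOC : coreC D.t ≤ (centI D.t) := D.core_le_C
  have hQP : D.Q D.p ≤ (OO D.p (centI D.t)) := fun y hy => (D.Q_le D.p hp hp2 hy).1
  have hvC : D.v ∈ (centI D.t) := D.conf.v_mem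
  have hv2 : D.v * D.v = 1 := D.conf.vv
  have hvi : D.v⁻¹ = D.v := inv_eq_of_mul_eq_one_right hv2
  have hvv : ∀ g : G, D.v * (D.v * g * D.v⁻¹) * D.v⁻¹ = g := fun g => by
    calc D.v * (D.v * g * D.v⁻¹) * D.v⁻¹ = (D.v * D.v) * g * (D.v * D.v)⁻¹ := by group
      _ = g := by rw [hv2]; group
  have hoddO : ∀ g ∈ coreC D.t, Odd (orderOf g) := fun g hg =>
    ((mem_coreC D.conf.hyp.dihedral D.conf.ht).1 hg).2
  -- square roots
  have hroot : ∀ n ∈ coreC D.t, ∃ r ∈ Subgroup.zpowers n, r * r = n := fun n hn => by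
    obtain ⟨j, hj⟩ := hoddO n hn
    refine ⟨n ^ (j + 1), pow_mem (Subgroup.mem_zpowers n) _, ?_⟩
    rw [← pow_add, show j + 1 + (j + 1) = orderOf n + 1 by omega, pow_succ, pow_orderOf_eq_one, one_mul]
  let σ : coreC D.t →* coreC D.t :=
    { toFun := fun o => ⟨D.v * o * D.v⁻¹, D.core_conj hvC o.2⟩
      map_one' := Subtype.ext (by simp)
      map_mul' := fun o o' => Subtype.ext (by simp [mul_assoc]) }
  have hNσ : N ≤ N.comap σ := fun o ho => Subgroup.mem_comap.2 (hNv o (σ o) rfl ho)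
  set φ : (↥(coreC D.t) ⧸ N) →* (↥(coreC D.t) ⧸ N) := QuotientGroup.map N N σ hNσ with hφ
  have hφmk : ∀ o : coreC D.t, φ (o : ↥(coreC D.t) ⧸ N) = ((σ o : coreC D.t) : ↥(coreC D.t) ⧸ N) := fun o => rfl
  have hσσ : ∀ o, σ (σ o) = o := fun o => Subtype.ext (hvv o)
  have hinv2 : Function.Involutive φ := fun x => by
    obtain ⟨o, rfl⟩ := QuotientGroup.mk_surjective x
    rw [hφmk, hφmk, hσσ]
  have hfpf : MonoidHom.FixedPointFree φ := by
    intro x hx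
    obtain ⟨o, rfl⟩ := QuotientGroup.mk_surjective x
    rw [hφmk, eq_comm, QuotientGroup.eq] at hx
    obtain ⟨r, hr, hrr⟩ := hroot _ (o⁻¹ * σ o).2
    set n := o⁻¹ * σ o with hn
    have hninv : σ n = n⁻¹ := by rw [hn, map_mul, map_inv, hσσ]; group
    obtain ⟨k, hk⟩ := Subgroup.mem_zpowers_iff.1 hr
    have hm2 : n ^ k * n ^ k = n := Subtype.ext (by push_cast; rw [hk]; exact hrr)
    have hfix : σ (o * n ^ k) = o * n ^ k := by
      rw [map_mul, map_zpow, hninv, show σ o = o * n by rw [hn]; group, inv_zpow]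
      calc o * n * (n ^ k)⁻¹ = o * (n ^ k * n ^ k) * (n ^ k)⁻¹ := by rw [hm2]
        _ = o * n ^ k := by group
    have hA : ((o * n ^ k : coreC D.t) : G) ∈ (OO D.p (centI D.t)) := by
      have h : ((o * n ^ k : coreC D.t) : G) ∈ D.A := by
        rw [← hX]
        refine ⟨(o * n ^ k).2, Subgroup.mem_centralizer_singleton_iff.2 ?_⟩
        exact (mul_inv_eq_iff_eq_mul.1 (congrArg Subtype.val hfix)).symm
      rw [D.A_eq] at h
      exact h.1
    rw [QuotientGroup.eq_one_iff]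
    have := mul_mem (hPN _ hA) (inv_mem (zpow_mem hx k))
    rwa [mul_inv_cancel_right] at this
  have hphi : ∀ x, φ x = x⁻¹ := fun x => congrFun (hfpf.coe_eq_inv_of_involutive hinv2) x
  have hcomm := hfpf.commute_all_of_involutive hinv2
  refine ⟨fun o o' ho' => ?_, hcomm⟩
  obtain rfl : o' = σ o := Subtype.ext ho'
  rw [← QuotientGroup.eq_one_iff, QuotientGroup.mk_mul, ← hφmk, hphi, inv_mul_cancel]

theorem IIbData.pElem_mem (D : IIbData G)
    (N : Subgroup (coreC D.t)) [N.Normal]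
    (hcomm : ∀ x y : ↥(coreC D.t) ⧸ N, x * y = y * x)
    (hsplit : ∀ n ∈ N, ∃ w ∈ OO D.p (centI D.t), ∃ c ∈ coreC D.t,
        (∀ u ∈ coreC D.t, u * c = c * u) ∧ (n : G) = w * c) :
    ∀ g ∈ coreC D.t, ∀ k : ℕ, g ^ D.p ^ k = 1 → g ∈ OO D.p (centI D.t) := by
  classical
  have hp := D.conf.hp
  have hp2 := D.conf.hp2
  haveI : Fact D.p.Prime := ⟨hp⟩
  have hPO : (OO D.p (centI D.t)) ≤ coreC D.t := D.OO_le_core hp hp2
  have hPC : (OO D.p (centI D.t)) ≤ (centI D.t) := D.OO_le_C D.p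
  have hOC : coreC D.t ≤ (centI D.t) := D.core_le_C
  have hQP : D.Q D.p ≤ (OO D.p (centI D.t)) := fun y hy => (D.Q_le D.p hp hp2 hy).1
  -- `p`-elements of `O` lie in `P`
  intro g hg k hgk
  set R := Subgroup.zpowers g ⊔ (OO D.p (centI D.t)) with hR
  have hnorm : Subgroup.zpowers g ≤ Subgroup.normalizer ((OO D.p (centI D.t)) : Set G) := Subgroup.zpowers_le.2
    (Subgroup.mem_normalizer_fintype fun w hw => BenderMax.conj_OO (hOC hg) hw)
  have hgp : IsPGroup D.p (Subgroup.zpowers g) := by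
    obtain ⟨i, -, hi⟩ := (Nat.dvd_prime_pow hp).1 (orderOf_dvd_of_pow_eq_one hgk)
    exact IsPGroup.of_card (by rw [Nat.card_zpowers, hi])
  have hRp : IsPGroup D.p R := hgp.to_sup_of_normal_right' (BenderMax.OO_isPGroup D.p (centI D.t)) hnorm
  have hRO : R ≤ coreC D.t := sup_le (Subgroup.zpowers_le.2 hg) hPO
  have hRC : R ≤ (centI D.t) := hRO.trans hOC
  have hgR : g ∈ R := Subgroup.mem_sup_left (Subgroup.mem_zpowers g)
  -- a `p`-element congruent to an element of `R` modulo `N`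
  have hlift : ∀ h r : coreC D.t, (r : G) ∈ R → (h : G) ^ D.p ^ k = 1 → h * r⁻¹ ∈ N → (h : G) ∈ R := by
    intro h r hr hh hn
    obtain ⟨w, hw, c, hc, hcc, e⟩ := hsplit _ hn
    push_cast at e
    have hrw : w * (r : G) ∈ R := mul_mem (Subgroup.mem_sup_right hw) hr
    have hwr : (h : G) = w * (r : G) * c := by
      calc (h : G) = ((h : G) * (r : G)⁻¹) * r := by group
        _ = w * (c * r) := by rw [e, mul_assoc]
        _ = _ := by rw [← hcc _ r.2, mul_assoc]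
    obtain ⟨j, hj⟩ := hRp ⟨_, hrw⟩
    have hj' : (w * (r : G)) ^ D.p ^ j = 1 := congrArg Subtype.val hj
    have hcm : Commute (w * (r : G)) c := hcc _ (hRO hrw)
    have hck : c ^ D.p ^ (k + j) = 1 := by
      have h1 : (h : G) ^ D.p ^ (k + j) = 1 := by rw [pow_add, pow_mul, hh, one_pow]
      rw [hwr, hcm.mul_pow, pow_add, pow_mul', hj', one_pow, one_mul] at h1
      rw [pow_add]; exact h1
    rw [hwr]
    exact mul_mem hrw (Subgroup.mem_sup_right (D.central_pElem_mem hc hcc hck))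
  have hgrel : ∀ o : coreC D.t, (o : G) * g * (o : G)⁻¹ ∈ R := fun o => by
    refine hlift (o * ⟨g, hg⟩ * o⁻¹) ⟨g, hg⟩ hgR (by push_cast; rw [conj_pow, hgk, mul_one, mul_inv_cancel]) ?_
    rw [← QuotientGroup.eq_one_iff, QuotientGroup.mk_mul, QuotientGroup.mk_mul, QuotientGroup.mk_mul,
      QuotientGroup.mk_inv, QuotientGroup.mk_inv, hcomm (o : ↥(coreC D.t) ⧸ N), mul_inv_cancel_right, mul_inv_cancel]
  -- `R` is normal in `O`, so lies in `O_p(O) ≤ O_p(C)`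
  refine (show R ≤ OO D.p (centI D.t) from ?_) hgR
  haveI : (R.subgroupOf (coreC D.t)).Normal := ⟨fun x hx o => by
    have hle : R ≤ R.comap (MulAut.conj (o : G)).toMonoidHom :=
      sup_le (Subgroup.zpowers_le.2 (hgrel o)) fun w hw => Subgroup.mem_sup_right (BenderMax.conj_OO (hOC o.2) hw)
    exact hle hx⟩
  have hRU : R ≤ OO D.p (coreC D.t) := fun x hx => ⟨⟨x, hRO hx⟩,
    CfsgLib.le_pCore (N := R.subgroupOf (coreC D.t)) (hRp.comap_of_injective _ (coreC D.t).subtype_injective) hx, rfl⟩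
  refine hRU.trans (D.le_OO ((Subgroup.map_subtype_le _).trans hOC) (BenderMax.OO_isPGroup D.p (coreC D.t)) ?_)
  intro c hc u hu
  have h := Subgroup.mem_map_of_mem (MulAut.conj c).toMonoidHom hu
  rwa [← OO_map_conj, map_coreC D.conf.hyp.dihedral D.conf.ht, D.mem_C_comm hc, mul_inv_cancel_right] at h

theorem IIbData.core_rotation (D : IIbData G) (hP : ¬ OO D.p (centI D.t) ≤ D.H)
    (hO' : coreC D.t ≤ ⁅centI D.t, centI D.t⁆)
    (hX : coreC D.t ⊓ Subgroup.centralizer ({D.v} : Set G) = D.A)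
    (hAp : Nat.card D.A = D.p)
    (hQc : ∀ y ∈ D.Q D.p, ∀ w ∈ OO D.p (centI D.t), w * y = y * w)
    (hPcard : Nat.card (OO D.p (centI D.t)) = D.p ^ 2 * Nat.card (D.Q D.p))
    {z : G} (hz : z ∈ D.Q D.p) (hzo : orderOf z = D.p) :
    (∀ g ∈ coreC D.t, ∀ k : ℕ, g ^ D.p ^ k = 1 → g ∈ OO D.p (centI D.t)) ∧
    ∃ N : Subgroup (coreC D.t), N.Normal ∧
      (∀ b ∈ N, ∀ b' ∈ N, ((b * b' * b⁻¹ * b'⁻¹ : coreC D.t) : G) ∈ Subgroup.zpowers z) ∧
      2 * N.index ≤ D.p + 1 ∧ ¬ D.p ∣ N.index ∧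
      (∀ o : coreC D.t, (o : G) ∈ OO D.p (centI D.t) → o ∈ N) ∧
      (∀ o ∈ N, ∃ w ∈ OO D.p (centI D.t), ∃ c ∈ coreC D.t,
        (∀ u ∈ coreC D.t, u * c = c * u) ∧ (o : G) = w * c) := by
  classical
  obtain ⟨a, haPm, y, hyP, hgen, hab, hpow, MO, hkerMO, hσMO⟩ := D.exists_action hP hX hAp hQc hPcard
  obtain ⟨hf', hPN, hsplit⟩ := D.action_split hP hO' hQc hPcard haPm hyP hgen hab hpow MO.ker hkerMO hz hzo
  have hNv : ∀ o o' : coreC D.t, (o' : G) = D.v * o * D.v⁻¹ → o ∈ MO.ker → o' ∈ MO.ker := fun o o' h ho => by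
    rw [MonoidHom.mem_ker, hσMO o o' h, MonoidHom.mem_ker.1 ho, mul_one]
    ext i j; fin_cases i <;> fin_cases j <;> simp
  obtain ⟨hinv, hcomm⟩ := D.invert_mod hX MO.ker hPN hNv
  have hpel := D.pElem_mem MO.ker hcomm hsplit
  have hp := D.conf.hp
  have hp2 := D.conf.hp2
  haveI : Fact D.p.Prime := ⟨hp⟩
  have hPO : (OO D.p (centI D.t)) ≤ coreC D.t := D.OO_le_core hp hp2
  have hvC : D.v ∈ (centI D.t) := D.conf.v_mem
  let σ : coreC D.t →* coreC D.t :=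
    { toFun := fun o => ⟨D.v * o * D.v⁻¹, D.core_conj hvC o.2⟩
      map_one' := Subtype.ext (by simp)
      map_mul' := fun o o' => Subtype.ext (by simp [mul_assoc]) }
  have hσM : ∀ o, MO (σ o) = !![1, 0; 0, -1] * MO o * !![1, 0; 0, -1] := fun o => hσMO o (σ o) rfl
  -- the matrices
  have hodd : Odd (Nat.card (↥(coreC D.t) ⧸ MO.ker)) := D.core_odd.of_dvd_nat (Subgroup.card_quotient_dvd_card _)
  have hpX : ¬ D.p ∣ Nat.card (↥(coreC D.t) ⧸ MO.ker) := by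
    intro hd
    obtain ⟨x, hx⟩ := exists_prime_orderOf_dvd_card' D.p hd
    obtain ⟨g, rfl⟩ := QuotientGroup.mk_surjective x
    set m := ordCompl[D.p] (orderOf g)
    have hpk : ((g : G) ^ m) ^ D.p ^ (orderOf g).factorization D.p = 1 := by
      rw [← pow_mul, mul_comm, Nat.ordProj_mul_ordCompl_eq_self, Subgroup.orderOf_coe g |>.symm, pow_orderOf_eq_one]
    have hgm : g ^ m ∈ MO.ker := hPN _ (by push_cast; exact hpel _ (pow_mem g.2 m) _ hpk)
    have := orderOf_dvd_of_pow_eq_one (((QuotientGroup.eq_one_iff _).2 hgm).symm ▸ (QuotientGroup.mk_pow MO.ker g m).symm)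
    rw [hx] at this
    exact Nat.not_dvd_ordCompl hp (orderOf_pos g).ne' this
  let M : (↥(coreC D.t) ⧸ MO.ker) →* Matrix (Fin 2) (Fin 2) (ZMod D.p) := QuotientGroup.lift MO.ker MO le_rfl
  have hM : Function.Injective M := fun x y h => by
    obtain ⟨a, rfl⟩ := QuotientGroup.mk_surjective x
    obtain ⟨b, rfl⟩ := QuotientGroup.mk_surjective y
    refine QuotientGroup.eq.2 (MonoidHom.mem_ker.2 ?_)
    have h' : MO a = MO b := h
    rw [map_mul, ← h', ← map_mul, inv_mul_cancel, map_one]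
  have hMinv : ∀ x, M x⁻¹ = !![M x 0 0, -M x 0 1; -M x 1 0, M x 1 1] := by
    intro x
    obtain ⟨o, rfl⟩ := QuotientGroup.mk_surjective x
    have hxi : ((o : ↥(coreC D.t) ⧸ MO.ker))⁻¹ = ((σ o : coreC D.t) : ↥(coreC D.t) ⧸ MO.ker) := by
      apply inv_eq_of_mul_eq_one_left
      rw [← QuotientGroup.mk_mul, QuotientGroup.eq_one_iff]
      exact hinv o (σ o) rfl
    have e1 : M (o : ↥(coreC D.t) ⧸ MO.ker) = MO o := QuotientGroup.lift_mk _ le_rfl o
    have e2 : M ((σ o : coreC D.t) : ↥(coreC D.t) ⧸ MO.ker) = MO (σ o) := QuotientGroup.lift_mk _ le_rfl (σ o)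
    rw [hxi, e2, e1, hσM]
    generalize MO o = B
    rw [Matrix.eta_fin_two B, Matrix.mul_fin_two, Matrix.mul_fin_two]
    ext i j
    fin_cases i <;> fin_cases j <;> simp
  refine ⟨hpel, MO.ker, inferInstance, ?_, ?_, ?_, hPN, hsplit⟩
  · intro n hn n' hn'
    obtain ⟨w, hw, c, hc, hcc, e⟩ := hsplit n hn
    obtain ⟨w', hw', c', hc', hcc', e'⟩ := hsplit n' hn'
    push_cast
    rw [e, e']
    have h1 : (w * c) * (w' * c') * (w * c)⁻¹ * (w' * c')⁻¹ = w * w' * w⁻¹ * w'⁻¹ := by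
      have k1 : Commute w' c := hcc w' (hPO hw')
      have k2 : Commute w c' := hcc' w (hPO hw)
      have k3 : Commute c' c := hcc c' hc'
      calc (w * c) * (w' * c') * (w * c)⁻¹ * (w' * c')⁻¹
          = w * (c * (w' * c') * c⁻¹) * w⁻¹ * c'⁻¹ * w'⁻¹ := by group
        _ = w * (w' * c') * w⁻¹ * c'⁻¹ * w'⁻¹ := by rw [← (k1.mul_left k3).eq, mul_inv_cancel_right]
        _ = w * w' * (c' * w⁻¹) * c'⁻¹ * w'⁻¹ := by group
        _ = w * w' * (w⁻¹ * c') * c'⁻¹ * w'⁻¹ := by rw [← k2.inv_left.eq]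
        _ = _ := by group
    rw [h1]
    exact hf' ⟨w, hPO hw⟩ (hPN _ hw) w' hw'
  · exact IIbFinal.two_card_le hp2 hcomm hodd hpX M hM hMinv
  · exact hpX

/-- The left case: `P (O ∩ H)` has index at most `(p + 1) / 2` in `O`. -/
theorem IIbData.index_le (D : IIbData G) (hP : ¬ OO D.p (centI D.t) ≤ D.H)
    (hO' : coreC D.t ≤ ⁅centI D.t, centI D.t⁆)
    (hX : coreC D.t ⊓ Subgroup.centralizer ({D.v} : Set G) = D.A)
    (hAp : Nat.card D.A = D.p)
    (hQc : ∀ y ∈ D.Q D.p, ∀ w ∈ OO D.p (centI D.t), w * y = y * w)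
    (hPcard : Nat.card (OO D.p (centI D.t)) = D.p ^ 2 * Nat.card (D.Q D.p)) :
    2 * (OO D.p (centI D.t) ⊔ coreC D.t ⊓ D.H).relIndex (coreC D.t) ≤ D.p + 1 := by
  obtain ⟨a, z, haA, hao, hzQ, hzo, -⟩ := D.nonab hP
  obtain ⟨-, N, -, -, hi, -, -, hsplit⟩ := D.core_rotation hP hO' hX hAp hQc hPcard hzQ hzo
  refine le_trans (Nat.mul_le_mul_left 2 (Nat.le_of_dvd (Nat.pos_of_ne_zero Subgroup.index_ne_zero_of_finite)
    (Subgroup.index_dvd_of_le (H := N) ?_))) hi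
  intro o ho
  obtain ⟨w, hw, c, hc, hcc, e⟩ := hsplit o ho
  refine Subgroup.mem_subgroupOf.2 (e ▸ Subgroup.mul_mem_sup hw ⟨hc, ?_⟩)
  refine D.normalizer_le (Subgroup.zpowers a) (Subgroup.zpowers_le.2 haA) (fun h => ?_) ?_
  · rw [Subgroup.zpowers_eq_bot] at h
    rw [h, orderOf_one] at hao
    exact D.conf.hp.ne_one hao.symm
  · have haO : a ∈ coreC D.t := D.OO_le_core D.conf.hp D.conf.hp2 (by rw [D.A_eq] at haA; exact haA.1)
    refine Subgroup.mem_normalizer_fintype fun x hx => ?_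
    rw [← hcc x (Subgroup.zpowers_le.2 haO hx), mul_inv_cancel_right]
    exact hx

end CfsgLib.GW

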