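import Cfsg.Agent.Lib.GW.IIb.Four
import Cfsg.Agent.Lib.GW.IIb.Rotation

/-!
The left case of (IIb) for a four-group Sylow 2-subgroup, from the facts of step 7.
-/

set_option autoImplicit false
set_option linter.style.haveILetI false
set_option linter.unusedSectionVars false

namespace CfsgLib.GW

open Cfsg
open CfsgLib.BenderMax (OO)
open scoped commutatorElement

universe u

variable {G : Type u} [Group G] [Finite G]

/-- No configuration (IIb) with a four group and `E` not normal in `C(t)`. -/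
theorem IIbData.no_four_left (D : IIbData G) (hS : Nat.card (D.S : Subgroup G) = 4)
    (hP : ¬ OO D.p (centI D.t) ≤ D.H) (hO' : coreC D.t ≤ ⁅centI D.t, centI D.t⁆)
    (hAp : Nat.card D.A = D.p) (hWA : D.W = D.A)
    (hX : coreC D.t ⊓ Subgroup.centralizer ({D.v} : Set G) = D.A)
    (hHWL : ∀ h ∈ D.H, ∃ w ∈ D.W, ∃ l ∈ D.L, h = w * l)
    (hZL : Subgroup.center D.L = ⊥)
    (hQc : ∀ y ∈ D.Q D.p, ∀ w ∈ OO D.p (centI D.t), w * y = y * w)
    (hPcard : Nat.card (OO D.p (centI D.t)) = D.p ^ 2 * Nat.card (D.Q D.p)) : False := by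
  refine D.no_four hS hP hAp hWA hX hHWL hZL (fun x hx hxp => D.core_comm_omega hP hO' hx hxp) fun z hz hzo => ?_
  obtain ⟨-, N, hN, hc, hi, -, -, -⟩ := D.core_rotation hP hO' hX hAp hQc hPcard hz hzo
  exact ⟨N, hN, hc, hi⟩

end CfsgLib.GW
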