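import Mathlib.GroupTheory.Sylow
import Mathlib.GroupTheory.SpecificGroups.Cyclic
import Mathlib.Tactic

/-!
A Sylow subgroup of order `p ^ 3` whose centre has an automizer `±1`: the number of Sylow subgroups
is congruent to one modulo `p ^ 2`.
-/

set_option autoImplicit false

namespace CfsgLib.GW.IIbFinal

variable {G : Type*} [Group G] [Finite G] {p : ℕ} [Fact p.Prime]

/-- In a group of order `p ^ 3` with centre `⟨z⟩`, some element moves `w` to `z ^ j * w`. -/
theorem exists_shift {P : Subgroup G} (hcard : Nat.card P = p ^ 3) {z w : G} (hz : z ∈ P)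
    (hzo : orderOf z = p) (hzc : ∀ x ∈ P, x * z = z * x)
    (hctr : ∀ y ∈ P, (∀ x ∈ P, x * y = y * x) → y ∈ Subgroup.zpowers z)
    (hw : w ∈ P) (hwz : w ∉ Subgroup.zpowers z) (j : ℕ) :
    ∃ α ∈ P, α * z * α⁻¹ = z ∧ α * w * α⁻¹ = z ^ j * w := by
  classical
  obtain ⟨x, hx, hxw⟩ : ∃ x ∈ P, x * w ≠ w * x := by
    by_contra hc
    push Not at hc
    exact hwz (hctr w hw hc)
  set u : G := x * w * x⁻¹ * w⁻¹ with hu
  set Z : Subgroup P := Subgroup.zpowers ⟨z, hz⟩
  haveI hZn : Z.Normal := ⟨fun n hn g => by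
    obtain ⟨i, rfl⟩ := hn
    refine ⟨i, ?_⟩
    show _ = g * (⟨z, hz⟩ : P) ^ i * g⁻¹
    have hc : Commute g (⟨z, hz⟩ : P) := Subtype.ext (hzc g g.2)
    rw [(hc.zpow_right i).eq, mul_inv_cancel_right]⟩
  have huZ : u ∈ Subgroup.zpowers z := by
    have hZc : Nat.card Z = p := by rw [Nat.card_zpowers, Subgroup.orderOf_mk, hzo]
    have hq : Nat.card (P ⧸ Z) = p ^ 2 := by
      have h := Subgroup.card_eq_card_quotient_mul_card_subgroup Z
      rw [hcard, hZc] at h
      have hp : 0 < p := (Fact.out : p.Prime).pos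
      exact Nat.eq_of_mul_eq_mul_right hp (by rw [← h]; ring)
    haveI : IsMulCommutative (P ⧸ Z) := IsPGroup.isMulCommutative_of_card_eq_prime_sq hq
    have hmem : (⟨x, hx⟩ * ⟨w, hw⟩ * (⟨x, hx⟩ : P)⁻¹ * (⟨w, hw⟩ : P)⁻¹) ∈ Z := by
      rw [← QuotientGroup.eq_one_iff, QuotientGroup.mk_mul, QuotientGroup.mk_mul,
        QuotientGroup.mk_mul, QuotientGroup.mk_inv, QuotientGroup.mk_inv,
        (IsMulCommutative.is_comm (M := P ⧸ Z)).comm (QuotientGroup.mk (⟨x, hx⟩ : P)),
        mul_inv_cancel_right, mul_inv_cancel]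
    obtain ⟨i, hi⟩ := hmem
    exact ⟨i, by simpa [hu] using congrArg Subtype.val hi⟩
  have hu1 : u ≠ 1 := fun e => hxw (by
    have := mul_inv_eq_one.1 e
    rwa [mul_inv_eq_iff_eq_mul] at this)
  have hgen : z ∈ Subgroup.zpowers u := by
    have hle : Subgroup.zpowers u ≤ Subgroup.zpowers z := Subgroup.zpowers_le.2 huZ
    have hd := Subgroup.card_dvd_of_le hle
    rw [Nat.card_zpowers, Nat.card_zpowers, hzo] at hd
    rcases (Fact.out : p.Prime).eq_one_or_self_of_dvd _ hd with h | h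
    · exact absurd (orderOf_eq_one_iff.1 h) hu1
    · exact (Subgroup.eq_of_le_of_card_ge hle (by
        rw [Nat.card_zpowers, Nat.card_zpowers, hzo, h])).ge (Subgroup.mem_zpowers z)
  obtain ⟨c, hc⟩ := (IsOfFinOrder.mem_powers_iff_mem_zpowers (isOfFinOrder_of_finite u)).2
    (pow_mem hgen j)
  refine ⟨x ^ c, pow_mem hx c, ?_, ?_⟩
  · have hcc : Commute x z := hzc x hx
    rw [(hcc.pow_left c).eq, mul_inv_cancel_right]
  · have hxu : x * u * x⁻¹ = u := by
      obtain ⟨i, hi⟩ := huZ
      have hi' : z ^ i = u := hi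
      have hcc : Commute x z := hzc x hx
      rw [← hi', (hcc.zpow_right i).eq, mul_inv_cancel_right]
    have hc' : u ^ c = z ^ j := hc
    rw [← hc']
    clear hc hc'
    induction c with
    | zero => simp
    | succ c ih =>
      calc x ^ (c + 1) * w * (x ^ (c + 1))⁻¹ = x * (x ^ c * w * (x ^ c)⁻¹) * x⁻¹ := by
            rw [pow_succ']; group
        _ = (x * u * x⁻¹) ^ c * (x * w * x⁻¹) := by rw [ih, conj_pow]; group
        _ = u ^ c * (u * w) := by rw [hxu, show x * w * x⁻¹ = u * w by rw [hu, inv_mul_cancel_right]]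
        _ = u ^ (c + 1) * w := by rw [pow_succ]; exact (mul_assoc _ _ _).symm

/-- An element of `⟨P, P'⟩` squaring `z`, the centre of `P`, when `z'` is the centre of `P'`. -/
theorem exists_squaring {P P' : Subgroup G} (hcard : Nat.card P = p ^ 3)
    (hcard' : Nat.card P' = p ^ 3) {z z' : G} (hp : p ≠ 2)
    (hz : z ∈ P) (hzo : orderOf z = p) (hzc : ∀ x ∈ P, x * z = z * x)
    (hctr : ∀ y ∈ P, (∀ x ∈ P, x * y = y * x) → y ∈ Subgroup.zpowers z)
    (hz' : z' ∈ P') (hzo' : orderOf z' = p) (hzc' : ∀ x ∈ P', x * z' = z' * x)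
    (hctr' : ∀ y ∈ P', (∀ x ∈ P', x * y = y * x) → y ∈ Subgroup.zpowers z')
    (hz'P : z' ∈ P) (hzP' : z ∈ P') (hne : z' ∉ Subgroup.zpowers z) :
    ∃ g : G, g * z * g⁻¹ = z ^ 2 := by
  have hne' : z ∉ Subgroup.zpowers z' := fun h => hne (by
    have hle : Subgroup.zpowers z ≤ Subgroup.zpowers z' := Subgroup.zpowers_le.2 h
    exact (Subgroup.eq_of_le_of_card_ge hle (by
      rw [Nat.card_zpowers, Nat.card_zpowers, hzo, hzo'])).ge (Subgroup.mem_zpowers z'))
  obtain ⟨α, -, hα, hα'⟩ := exists_shift hcard hz hzo hzc hctr hz'P hne 1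
  obtain ⟨β, -, hβ, hβ'⟩ := exists_shift hcard' hz' hzo' hzc' hctr' hzP' hne' 1
  obtain ⟨m, hm⟩ : ∃ m, p = 2 * m + 1 := by
    rcases (Fact.out : p.Prime).eq_two_or_odd' with h | ⟨m, hm⟩
    · exact absurd h hp
    · exact ⟨m, hm⟩
  obtain ⟨γ, -, hγ, hγ'⟩ := exists_shift hcard' hz' hzo' hzc' hctr' hzP' hne' m
  have hcom : Commute z' z := hzc z' hz'P
  refine ⟨γ * α * β, ?_⟩
  have e1 : α * (z' * z) * α⁻¹ = z ^ 2 * z' := by
    rw [show α * (z' * z) * α⁻¹ = α * z' * α⁻¹ * (α * z * α⁻¹) by group, hα, hα', pow_one,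
      mul_assoc, hcom.eq, ← mul_assoc, ← sq]
  calc γ * α * β * z * (γ * α * β)⁻¹ = γ * (α * (β * z * β⁻¹) * α⁻¹) * γ⁻¹ := by group
    _ = γ * (z ^ 2 * z') * γ⁻¹ := by rw [hβ', pow_one, e1]
    _ = (γ * z * γ⁻¹) ^ 2 * (γ * z' * γ⁻¹) := by rw [conj_pow]; group
    _ = (z' ^ m * z) ^ 2 * z' := by rw [hγ, hγ']
    _ = z' ^ (2 * m + 1) * z ^ 2 := by
      rw [(hcom.pow_left m).mul_pow, mul_assoc, (hcom.pow_right 2).symm.eq, ← mul_assoc, ← pow_mul,
        ← pow_succ, mul_comm m 2]
    _ = z ^ 2 := by rw [← hm, ← hzo', pow_orderOf_eq_one, one_mul]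

/-- The congruence. -/
theorem index_normalizer_modEq (P : Sylow p G) (hp : 5 ≤ p) (hcard : Nat.card (P : Subgroup G) = p ^ 3)
    {z : G} (hz : z ∈ (P : Subgroup G)) (hzo : orderOf z = p)
    (hzc : ∀ x ∈ (P : Subgroup G), x * z = z * x)
    (hctr : ∀ y ∈ (P : Subgroup G), (∀ x ∈ (P : Subgroup G), x * y = y * x) →
      y ∈ Subgroup.zpowers z)
    (hN : Subgroup.normalizer (Subgroup.zpowers z : Set G) ≤
      Subgroup.normalizer ((P : Subgroup G) : Set G))
    (hpm : ∀ g : G, g * z * g⁻¹ ∈ Subgroup.zpowers z → g * z * g⁻¹ = z ∨ g * z * g⁻¹ = z⁻¹) :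
    (p : ℤ) ^ 2 ∣ ((Subgroup.normalizer ((P : Subgroup G) : Set G)).index : ℤ) - 1 := by
  classical
  have hpp : p.Prime := Fact.out
  -- the intersection with another Sylow subgroup is small
  have hsmall : ∀ P' : Sylow p G, P' ≠ P →
      Nat.card ((P : Subgroup G) ⊓ (P' : Subgroup G) : Subgroup G) ≤ p := by
    intro P' hne
    by_contra hbig
    push Not at hbig
    obtain ⟨g, hg⟩ := MulAction.exists_smul_eq G P P'
    have hP' : (P' : Subgroup G) = (P : Subgroup G).map (MulAut.conj g).toMonoidHom := by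
      rw [← hg]; rfl
    have hconj : ∀ x : G, x ∈ (P' : Subgroup G) ↔ g⁻¹ * x * g ∈ (P : Subgroup G) := fun x => by
      rw [hP', Subgroup.mem_map]
      constructor
      · rintro ⟨y, hy, rfl⟩; simpa [mul_assoc] using hy
      · exact fun hy => ⟨_, hy, by simp [mul_assoc]⟩
    set z' := g * z * g⁻¹ with hz'
    have hcard' : Nat.card (P' : Subgroup G) = p ^ 3 := by
      rw [hP', Subgroup.card_map_of_injective (MulAut.conj g).injective, hcard]
    have hz'P' : z' ∈ (P' : Subgroup G) := (hconj _).2 (by simpa [hz', mul_assoc] using hz)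
    have hzo' : orderOf z' = p := by rw [hz', ← MulAut.conj_apply, MulEquiv.orderOf_eq, hzo]
    have hzc' : ∀ x ∈ (P' : Subgroup G), x * z' = z' * x := fun x hx => by
      calc x * z' = g * ((g⁻¹ * x * g) * z) * g⁻¹ := by rw [hz']; group
        _ = g * (z * (g⁻¹ * x * g)) * g⁻¹ := by rw [hzc _ ((hconj x).1 hx)]
        _ = z' * x := by rw [hz']; group
    have hctr' : ∀ y ∈ (P' : Subgroup G), (∀ x ∈ (P' : Subgroup G), x * y = y * x) →
        y ∈ Subgroup.zpowers z' := fun y hy hyc => by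
      obtain ⟨i, hi⟩ := hctr _ ((hconj y).1 hy) fun x hx => by
        have h := hyc (g * x * g⁻¹) ((hconj _).2 (by simpa [mul_assoc] using hx))
        calc x * (g⁻¹ * y * g) = g⁻¹ * ((g * x * g⁻¹) * y) * g := by group
          _ = g⁻¹ * (y * (g * x * g⁻¹)) * g := by rw [h]
          _ = g⁻¹ * y * g * x := by group
      refine ⟨i, ?_⟩
      show z' ^ i = y
      rw [hz', conj_zpow, show z ^ i = g⁻¹ * y * g from hi]
      group
    -- the intersection
    set M : Subgroup G := (P : Subgroup G) ⊓ (P' : Subgroup G) with hM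
    have hMcard : Nat.card M = p ^ 2 := by
      have hd : Nat.card M ∣ p ^ 3 := hcard ▸ Subgroup.card_dvd_of_le inf_le_left
      obtain ⟨i, hi, hi'⟩ := (Nat.dvd_prime_pow hpp).1 hd
      have h2 : 2 ≤ i := by
        by_contra hlt
        have : p ^ i ≤ p ^ 1 := Nat.pow_le_pow_right hpp.pos (by omega)
        rw [pow_one, ← hi'] at this
        omega
      rcases h2.lt_or_eq with h3 | h3
      · exfalso
        have e : i = 3 := by omega
        rw [e] at hi'
        have e1 : M = (P : Subgroup G) := Subgroup.eq_of_le_of_card_ge inf_le_left (by rw [hcard, hi'])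
        have e2 : M = (P' : Subgroup G) :=
          Subgroup.eq_of_le_of_card_ge inf_le_right (by rw [hcard', hi'])
        exact hne (Sylow.ext (e2.symm.trans e1))
      · rw [hi', ← h3]
    haveI : IsMulCommutative M := IsPGroup.isMulCommutative_of_card_eq_prime_sq hMcard
    -- a subgroup of index `p` contains the centre
    have hin : ∀ (R : Subgroup G) (y : G), Nat.card R = p ^ 3 → M ≤ R → y ∈ R →
        (∀ x ∈ R, x * y = y * x) → (∃ a ∈ R, ∃ b ∈ R, a * b ≠ b * a) → y ∈ M := by
      intro R y hR hMR hy hyc hna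
      by_contra hyM
      obtain ⟨a, ha, b, hb, hab⟩ := hna
      set K : Subgroup G := M ⊔ Subgroup.zpowers y with hK
      have hKR : K ≤ R := sup_le hMR (Subgroup.zpowers_le.2 hy)
      have hKeq : K = R := by
        refine Subgroup.eq_of_le_of_card_ge hKR ?_
        have hd : Nat.card M ∣ Nat.card K := Subgroup.card_dvd_of_le le_sup_left
        have hd' : Nat.card K ∣ p ^ 3 := hR ▸ Subgroup.card_dvd_of_le hKR
        obtain ⟨i, hi, hi'⟩ := (Nat.dvd_prime_pow hpp).1 hd'
        have h2 : 2 ≤ i := (Nat.pow_dvd_pow_iff_le_right hpp.one_lt).1 (by rwa [← hMcard, ← hi'])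
        rcases h2.lt_or_eq with h3 | h3
        · rw [hR, hi', show i = 3 by omega]
        · exfalso
          refine hyM ((Subgroup.eq_of_le_of_card_ge (le_sup_left : M ≤ K) ?_).ge
            (Subgroup.mem_sup_right (Subgroup.mem_zpowers y)))
          rw [hMcard, hi', ← h3]
      have hKc : ∀ c ∈ K, ∀ d ∈ K, c * d = d * c := by
        have key : K ≤ Subgroup.centralizer (K : Set G) := by
          have h1 : M ≤ Subgroup.centralizer (K : Set G) := by
            intro m hm
            rw [hK, ← Subgroup.closure_eq M, Subgroup.zpowers_eq_closure, ← Subgroup.closure_union,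
              Subgroup.centralizer_closure, Subgroup.mem_centralizer_iff]
            rintro c (hc | hc)
            · exact setLike_mul_comm (s := M) hc hm
            · rw [Set.mem_singleton_iff.1 hc]; exact (hyc m (hMR hm)).symm
          refine sup_le h1 (Subgroup.zpowers_le.2 ?_)
          rw [Subgroup.mem_centralizer_iff]
          intro c hc
          exact hyc c (hKR hc)
        exact fun c hc d hd => (Subgroup.mem_centralizer_iff.1 (key hd) c hc)
      exact hab (hKc a (hKeq ▸ ha) b (hKeq ▸ hb))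
    have hna : ∃ a ∈ (P : Subgroup G), ∃ b ∈ (P : Subgroup G), a * b ≠ b * a := by
      by_contra hc
      push Not at hc
      have hle : (P : Subgroup G) ≤ Subgroup.zpowers z := fun y hy => hctr y hy fun x hx => hc x hx y hy
      have h := Subgroup.card_dvd_of_le hle
      rw [Nat.card_zpowers, hzo, hcard] at h
      have := Nat.le_of_dvd hpp.pos h
      have : p ^ 1 < p ^ 3 := Nat.pow_lt_pow_right hpp.one_lt (by norm_num)
      rw [pow_one] at this
      omega
    have hna' : ∃ a ∈ (P' : Subgroup G), ∃ b ∈ (P' : Subgroup G), a * b ≠ b * a := by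
      obtain ⟨a, ha, b, hb, hab⟩ := hna
      refine ⟨g * a * g⁻¹, (hconj _).2 (by simpa [mul_assoc] using ha), g * b * g⁻¹,
        (hconj _).2 (by simpa [mul_assoc] using hb), fun e => hab ?_⟩
      have e' : g * (a * b) * g⁻¹ = g * (b * a) * g⁻¹ := by
        calc g * (a * b) * g⁻¹ = g * a * g⁻¹ * (g * b * g⁻¹) := by group
          _ = g * b * g⁻¹ * (g * a * g⁻¹) := e
          _ = g * (b * a) * g⁻¹ := by group
      exact mul_left_cancel (mul_right_cancel e')
    have hzM : z ∈ M := hin _ z hcard inf_le_left hz hzc hna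
    have hz'M : z' ∈ M := hin _ z' hcard' inf_le_right hz'P' hzc' hna'
    by_cases hzz : z' ∈ Subgroup.zpowers z
    · refine hne ?_
      have hgN : g ∈ Subgroup.normalizer ((P : Subgroup G) : Set G) := hN <| by
        refine Subgroup.mem_normalizer_fintype fun x hx => ?_
        obtain ⟨i, rfl⟩ := hx
        show g * z ^ i * g⁻¹ ∈ Subgroup.zpowers z
        rw [← conj_zpow]
        exact zpow_mem hzz i
      rw [← hg]
      exact Sylow.smul_eq_iff_mem_normalizer.2 hgN
    obtain ⟨y, hy⟩ := exists_squaring hcard hcard' (show p ≠ 2 by omega) hz hzo hzc hctr hz'P' hzo'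
      hzc' hctr' hz'M.1 hzM.2 hzz
    rcases hpm y (hy ▸ pow_mem (Subgroup.mem_zpowers z) 2) with h | h
    · have hz1 : z = 1 := mul_left_cancel (a := z) (by rw [mul_one, ← sq, ← hy, h])
      rw [hz1, orderOf_one] at hzo
      omega
    · have h3 : z ^ 3 = 1 := by rw [pow_succ, ← hy, h, inv_mul_cancel]
      have := Nat.le_of_dvd (by norm_num) (orderOf_dvd_of_pow_eq_one h3)
      omega
  -- count the orbits of `P`
  rw [show (Subgroup.normalizer ((P : Subgroup G) : Set G)).index = Nat.card (Sylow p G) from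
    (Sylow.card_eq_index_normalizer P).symm]
  haveI := Fintype.ofFinite (Sylow p G)
  rw [Nat.card_eq_fintype_card]
  have hsum := MulAction.selfEquivSigmaOrbits (P : Subgroup G) (Sylow p G)
  have hc1 : Fintype.card (Sylow p G) =
      ∑ ω : Quotient (MulAction.orbitRel (P : Subgroup G) (Sylow p G)),
        Nat.card (MulAction.orbit (P : Subgroup G) ω.out) := by
    rw [← Nat.card_eq_fintype_card, Nat.card_congr hsum, Nat.card_sigma]
  set ω₀ : Quotient (MulAction.orbitRel (P : Subgroup G) (Sylow p G)) := Quotient.mk'' P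
  have hfix : ∀ y : (P : Subgroup G), y • P = P := fun y =>
    Sylow.smul_eq_iff_mem_normalizer.2 (Subgroup.le_normalizer y.2)
  have h0 : Nat.card (MulAction.orbit (P : Subgroup G) ω₀.out) = 1 := by
    obtain ⟨y, hy⟩ : ω₀.out ∈ MulAction.orbit (P : Subgroup G) P :=
      Quotient.mk_out (s := MulAction.orbitRel (P : Subgroup G) (Sylow p G)) P
    have e : ω₀.out = P := hy.symm.trans (hfix y)
    rw [e, show MulAction.orbit (P : Subgroup G) P = {P} from
      Set.eq_singleton_iff_unique_mem.2 ⟨MulAction.mem_orbit_self P, by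
        rintro _ ⟨y, rfl⟩; exact hfix y⟩]
    simp
  rw [hc1, ← Finset.add_sum_erase _ _ (Finset.mem_univ ω₀), h0, Nat.cast_add, Nat.cast_one,
    add_sub_cancel_left, Nat.cast_sum]
  refine Finset.dvd_sum fun ω hω => ?_
  have hne : ω.out ≠ P := fun e => Finset.ne_of_mem_erase hω (by
    rw [← ω.out_eq', e])
  set P' : Sylow p G := ω.out
  have horb : Nat.card (MulAction.orbit (P : Subgroup G) P') =
      (MulAction.stabilizer (P : Subgroup G) P').index := by
    rw [MulAction.index_stabilizer, Nat.card_coe_set_eq]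
  have hst : Nat.card (MulAction.stabilizer (P : Subgroup G) P') ≤ p := by
    refine le_trans ?_ (hsmall P' hne)
    refine Nat.card_le_card_of_injective (fun y => ⟨((y : (P : Subgroup G)) : G), y.1.2, ?_⟩) ?_
    · have hy : ((y : (P : Subgroup G)) : G) ∈ Subgroup.normalizer ((P' : Subgroup G) : Set G) :=
        Sylow.smul_eq_iff_mem_normalizer.1 y.2
      have hpg : IsPGroup p ((P' : Subgroup G) ⊔ Subgroup.zpowers ((y : (P : Subgroup G)) : G) :
          Subgroup G) := by
        refine IsPGroup.to_sup_of_normal_left' P'.2 ?_ (Subgroup.zpowers_le.2 hy)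
        exact P.2.to_le (Subgroup.zpowers_le.2 y.1.2)
      exact (P'.3 hpg le_sup_left).le (Subgroup.mem_sup_right (Subgroup.mem_zpowers _))
    · intro a b e
      exact Subtype.ext (Subtype.ext (Subtype.ext_iff.1 e :))
  have hmul := (MulAction.stabilizer (P : Subgroup G) P').card_mul_index
  rw [hcard] at hmul
  obtain ⟨i, -, hi⟩ := (Nat.dvd_prime_pow hpp).1 (Dvd.intro_left _ hmul)
  rw [horb]
  have hi2 : 2 ≤ i := by
    by_contra hlt
    have h1 : (MulAction.stabilizer (P : Subgroup G) P').index ≤ p ^ 1 :=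
      hi ▸ Nat.pow_le_pow_right hpp.pos (by omega)
    have h2 : p ^ 3 ≤ p * p ^ 1 := hmul ▸ Nat.mul_le_mul hst h1
    have h3 : p ^ 2 < p ^ 3 := Nat.pow_lt_pow_right hpp.one_lt (by norm_num)
    rw [pow_one, ← sq] at h2
    omega
  rw [hi]
  exact_mod_cast pow_dvd_pow p hi2

end CfsgLib.GW.IIbFinal
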