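import Cfsg.Agent.Lib.GW.IIb.FinalKernel
import Cfsg.Agent.Lib.GW.IIb.FinalCase
import Cfsg.Agent.Lib.GW.IIb.FourLeft
import Cfsg.Agent.Lib.GW.IIb.Sylow

/-!
(IIb): the end.

* `IIbData.no_left`: the case `⟨a, z⟩` not normal in `C(t)`;
* `IIbData.false`: there is no configuration (IIb).
-/

set_option autoImplicit false
set_option linter.unusedSectionVars false
set_option linter.style.haveILetI false

namespace CfsgLib.GW.IIbData

open Cfsg
open CfsgLib.BenderMax (OO FF)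
open scoped commutatorElement

universe u

variable {G : Type u} [Group G] [Finite G] (D : IIbData G)

/-- `C(t)` is the normalizer of each of its non-trivial normal subgroups. -/
theorem normalizer_eq_C {X : Subgroup G} (hX : X ≤ centI D.t) (hne : X ≠ ⊥)
    (hn : centI D.t ≤ Subgroup.normalizer (X : Set G)) : Subgroup.normalizer (X : Set G) = centI D.t := by
  rcases hn.lt_or_eq with h | h
  · haveI := Subgroup.normalizer_eq_top_iff.mp (D.conf.maximal.2 _ h)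
    rcases D.hyp.simple.eq_bot_or_eq_top_of_normal X this with e | e
    · exact absurd e hne
    · exact absurd (eq_top_iff.mpr (e.ge.trans hX)) D.conf.maximal.1
  · exact h.symm

section Left

variable (hP : ¬ OO D.p (centI D.t) ≤ D.H)
  (hAp : Nat.card D.A = D.p)
  (hQc : ∀ y ∈ D.Q D.p, ∀ w ∈ OO D.p (centI D.t), w * y = y * w)
  (hcard : Nat.card (OO D.p (centI D.t)) = D.p ^ 2 * Nat.card (D.Q D.p))

include hP in
/-- `k = p r'`. -/
theorem kk_split (hPc : Nat.card (OO D.p (centI D.t)) = D.p * Nat.card ↥(OO D.p (centI D.t) ⊓ D.H)) :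
    D.kk = D.p * (OO D.p (centI D.t) ⊔ coreC D.t ⊓ D.H).relIndex (coreC D.t) := by
  set P := OO D.p (centI D.t)
  set R := P ⊔ coreC D.t ⊓ D.H
  have hPO : P ≤ coreC D.t := D.OO_le_core D.conf.hp D.conf.hp2
  have hRO : R ≤ coreC D.t := sup_le hPO inf_le_left
  have hsplit : ∀ b ∈ R, ∃ a ∈ P, ∃ c ∈ R ⊓ D.H, b = a * c := by
    intro b hb
    have hn : coreC D.t ⊓ D.H ≤ Subgroup.normalizer (P : Set G) :=
      (inf_le_left.trans D.coreC_le).trans (D.normalizes_OO D.p)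
    have hb' : b ∈ ((P ⊔ coreC D.t ⊓ D.H : Subgroup G) : Set G) := hb
    rw [Subgroup.coe_mul_of_right_le_normalizer_left _ _ hn] at hb'
    obtain ⟨a, ha, c, hc, rfl⟩ := hb'
    exact ⟨a, ha, c, ⟨Subgroup.mem_sup_right hc, hc.2⟩, rfl⟩
  have hp : D.H.relIndex P = D.p := by
    have h := IIbFit.relIndex_mul_card D.H P
    rw [hPc] at h
    exact Nat.eq_of_mul_eq_mul_right Nat.card_pos h
  rw [← D.kk_eq, ← Subgroup.inf_relIndex_right D.H (coreC D.t),
    ← Subgroup.relIndex_mul_relIndex _ R _ (show D.H ⊓ coreC D.t ≤ R from (inf_comm _ _).le.trans le_sup_right) hRO]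
  congr 1
  rw [← Subgroup.inf_relIndex_right (D.H ⊓ coreC D.t) R, inf_assoc, inf_eq_right.mpr hRO,
    Subgroup.inf_relIndex_right, ← IIbFit.relIndex_of_mul le_sup_left hsplit, hp]

include hP hQc in
/-- Conjugation in `C(t)` sends an element of `Q p` to itself or to its inverse. -/
theorem conj_Q_pm {g z : G} (hg : g ∈ centI D.t) (hz : z ∈ D.Q D.p) : g * z * g⁻¹ = z ∨ g * z * g⁻¹ = z⁻¹ := by
  have hp := D.conf.hp
  have hp2 := D.conf.hp2
  obtain ⟨o, ho, s, hs, rfl⟩ := centralizer_eq_core_mul D.hyp.dihedral D.S D.conf.ht D.conf.htZ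
    (Subgroup.mem_centralizer_singleton_iff.mp hg)
  have hoQ : ∀ x ∈ D.Q D.p, o * x * o⁻¹ = x := fun x hx => by
    rw [D.core_comm_Q hP D.coreC_le_commutator hQc hx o ho, mul_inv_cancel_right]
  have hinv : ∀ w ∈ (D.S : Subgroup G), orderOf w = 2 → w ≠ D.t → ∀ x ∈ D.Q D.p, w * x * w⁻¹ = x⁻¹ :=
    fun w hw hwo hne => D.refl_inv D.p hp hp2 w (D.S_le_H hw) hwo (D.conf.htZ w hw) hne
  have hcases : s * z * s⁻¹ = z ∨ s * z * s⁻¹ = z⁻¹ := by
    rcases D.S_cases hs with h | ⟨w₁, w₂, h1, h2, o1, o2, n1, n2, rfl⟩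
    · by_cases hs1 : s = 1
      · exact Or.inl (by rw [hs1, one_mul, inv_one, mul_one])
      by_cases hst : s = D.t
      · exact Or.inl (by
          rw [hst, ← D.mem_C_comm ((D.OO_le D.p) (D.Q_le D.p hp hp2 hz).1), mul_inv_cancel_right])
      · exact Or.inr (hinv s hs (orderOf_eq_prime (by rw [sq]; exact h) hs1) hst z hz)
    · refine Or.inl ?_
      calc w₁ * w₂ * z * (w₁ * w₂)⁻¹ = w₁ * (w₂ * z * w₂⁻¹) * w₁⁻¹ := by group
        _ = z := by rw [hinv w₂ h2 o2 n2 z hz, hinv w₁ h1 o1 n1 _ (inv_mem hz), inv_inv]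
  rcases hcases with h | h
  · exact Or.inl (by rw [show o * s * z * (o * s)⁻¹ = o * (s * z * s⁻¹) * o⁻¹ by group, h, hoQ z hz])
  · exact Or.inr (by rw [show o * s * z * (o * s)⁻¹ = o * (s * z * s⁻¹) * o⁻¹ by group, h, hoQ _ (inv_mem hz)])

include hP hAp hQc hcard in
/-- The Sylow congruence. -/
theorem index_modEq (h5 : 5 ≤ D.p) (hQp : Nat.card (D.Q D.p) = D.p) :
    (D.p : ℤ) ^ 2 ∣ ((centI D.t).index : ℤ) - 1 := by
  have hp := D.conf.hp
  have hp2 := D.conf.hp2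
  haveI := Fact.mk hp
  haveI := D.hyp.simple
  have hO' := D.coreC_le_commutator
  have hX := D.core_meet_v hP hQc hcard
  obtain ⟨-, z, -, -, hzQ, hzo, -, -, hPc, -, -⟩ := D.nonab hP
  obtain ⟨hpel, -⟩ := D.core_rotation hP hO' hX hAp hQc hcard hzQ hzo
  set P := OO D.p (centI D.t)
  have hzP : z ∈ P := (D.Q_le D.p hp hp2 hzQ).1
  have hz1 : z ≠ 1 := fun e => by rw [e, orderOf_one] at hzo; exact hp.ne_one hzo.symm
  have hzQeq : Subgroup.zpowers z = D.Q D.p :=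
    Subgroup.eq_of_le_of_card_ge (Subgroup.zpowers_le.mpr hzQ) (by rw [hQp, Nat.card_zpowers, hzo])
  have hNP := D.normalizer_eq_C (D.OO_le D.p) (fun e => hz1 ((Subgroup.eq_bot_iff_forall _).mp e z hzP))
    (D.normalizes_OO D.p)
  obtain ⟨S₁, hS₁⟩ := (BenderMax.OO_isPGroup D.p (centI D.t)).exists_le_sylow
  have hS₁P : (S₁ : Subgroup G) = P := by
    refine le_antisymm ?_ hS₁
    have hsub : (S₁ : Subgroup G) ⊓ Subgroup.normalizer (P : Set G) ≤ P := by
      rintro x ⟨hx, hxN⟩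
      rw [hNP] at hxN
      obtain ⟨j, hj⟩ := IsPGroup.iff_orderOf.mp S₁.isPGroup' ⟨x, hx⟩
      rw [Subgroup.orderOf_mk] at hj
      refine hpel x ((mem_coreC D.hyp.dihedral D.conf.ht).mpr
        ⟨D.mem_C_comm hxN, hj ▸ (hp.odd_of_ne_two hp2).pow⟩) j ?_
      rw [← hj, pow_orderOf_eq_one]
    haveI : Group.IsNilpotent (S₁ : Subgroup G) := S₁.isPGroup'.isNilpotent
    by_contra hne
    obtain ⟨⟨x, hx⟩, hxn, hxP⟩ := SetLike.exists_of_lt (Group.normalizerCondition_of_isNilpotent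
      (P.subgroupOf (S₁ : Subgroup G)) (lt_top_iff_ne_top.mpr fun e => hne (Subgroup.subgroupOf_eq_top.mp e)))
    refine hxP (hsub ⟨hx, Subgroup.mem_normalizer_fintype fun w hw => ?_⟩)
    exact (Subgroup.mem_normalizer_iff.mp hxn ⟨w, hS₁ hw⟩).mp hw
  have hN : Subgroup.normalizer (Subgroup.zpowers z : Set G) = centI D.t :=
    D.normalizer_eq_C (Subgroup.zpowers_le.mpr (D.OO_le D.p hzP)) (mt Subgroup.zpowers_eq_bot.mp hz1)
      (fun g hg => by rw [hzQeq]; exact Subgroup.mem_normalizer_fintype fun y hy => D.Q_conj hP hQc hg hy)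
  have key := IIbFinal.index_normalizer_modEq S₁ h5 (by rw [hS₁P, hcard, hQp]; ring) (z := z)
    (by rw [hS₁P]; exact hzP) hzo (by rw [hS₁P]; exact fun x hx => hQc z hzQ x hx)
    (by rw [hS₁P, hzQeq]; exact hPc) (by rw [hS₁P, hN, hNP])
    (fun g hg => D.conj_Q_pm hP hQc ?_ hzQ)
  · rwa [hS₁P, hNP] at key
  · rw [← hN]
    refine Subgroup.mem_normalizer_fintype fun y hy => ?_
    obtain ⟨i, rfl⟩ := Subgroup.mem_zpowers_iff.mp hy
    rw [← conj_zpow]
    exact zpow_mem hg i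

include hP hAp hQc hcard in
/-- The case `⟨a, z⟩` not normal. -/
theorem no_left : False := by
  have hp := D.conf.hp
  have hp2 := D.conf.hp2
  have hO' := D.coreC_le_commutator
  have hX := D.core_meet_v hP hQc hcard
  obtain ⟨m, ρ, hm, hSc, hShape, hρ, hn, hC⟩ := D.index_formula
  obtain ⟨a, z, -, -, hzQ, hzo, -, -, -, hPc, -⟩ := D.nonab hP
  have hb := D.orbit_bound hn
  have h4 := Int.le_of_dvd D.q_sub_e_pos D.four_p_dvd
  have hk := D.kk_split hP hPc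
  have hr := D.index_le hP hO' hX hAp hQc hcard
  set r := (OO D.p (centI D.t) ⊔ coreC D.t ⊓ D.H).relIndex (coreC D.t)
  have hrodd : Odd r := (Nat.odd_mul.mp (hk ▸ D.kk_odd)).2
  by_cases hr1 : r = 1
  · rw [hr1, mul_one] at hk
    exact IIbFinal.small_case hρ D.he D.three_le_kk (by omega) hb
  have hr3 : 3 ≤ r := by obtain ⟨j, hj⟩ := hrodd; omega
  have hp5 : 5 ≤ D.p := by omega
  have hk15 : 15 ≤ D.kk := by rw [hk]; exact Nat.mul_le_mul hp5 hr3
  have hlt := IIbFinal.large_d_lt hρ D.he hk15 hb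
  rw [hk, Nat.cast_mul] at hlt
  -- `|Q| = p`
  haveI := Fact.mk hp
  have hQp : Nat.card (D.Q D.p) = D.p := by
    obtain ⟨j, hj⟩ := ((BenderMax.OO_isPGroup D.p (centI D.t)).to_le
      ((D.Q_le D.p hp hp2).trans inf_le_left)).exists_card_eq
    have hj1 : D.p ∣ Nat.card (D.Q D.p) := hzo.symm.dvd.trans (Subgroup.orderOf_dvd_natCard _ hzQ)
    rcases Nat.lt_or_ge j 2 with h | h
    · interval_cases j
      · rw [hj, pow_zero] at hj1
        exact absurd (Nat.dvd_one.mp hj1) hp.ne_one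
      · rw [hj, pow_one]
    exfalso
    have h2 : ((D.p : ℤ)) ^ 2 ∣ (D.q : ℤ) - D.e := by
      refine dvd_trans ?_ (D.Q_dvd D.p hp hp2)
      exact_mod_cast (hj ▸ pow_dvd_pow D.p h : D.p ^ 2 ∣ Nat.card (D.Q D.p))
    have h42 : 4 * (D.p : ℤ) ^ 2 ∣ (D.q : ℤ) - D.e := by
      refine IsCoprime.mul_dvd ?_ D.hq4 h2
      refine IsCoprime.pow_right ?_
      rw [show (4 : ℤ) = ((4 : ℕ) : ℤ) from rfl, Int.isCoprime_iff_nat_coprime, Int.natAbs_natCast, Int.natAbs_natCast]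
      exact Nat.Coprime.pow_left 2 (Nat.coprime_two_left.mpr (hp.odd_of_ne_two hp2))
    have h' := Int.le_of_dvd D.q_sub_e_pos h42
    have hr' : 2 * (r : ℤ) ≤ D.p + 1 := by exact_mod_cast hr
    have hp0 : (5 : ℤ) ≤ D.p := by exact_mod_cast hp5
    nlinarith
  by_cases hm2 : m = 2
  · exact D.no_four_left (by omega) hP hO' hAp (le_antisymm (D.W_eq_A hP hQc hcard) D.A_le_W) hX
      (D.H_eq_WL hP hQc hcard) D.center_L hQc hcard
  obtain ⟨x, δ, hδ, hx, -, hdvd, hρx⟩ := hShape.exists_x hm2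
  -- `2 m p ∣ q - e`
  have h2m : (2 * m : ℤ) ∣ (D.q : ℤ) - D.e := by
    have hle : (D.S : Subgroup G) ≤ D.L ⊓ centI D.t := le_inf D.S_le_L D.S_le_C
    have h := Int.natCast_dvd_natCast.mpr (Subgroup.card_dvd_of_le hle)
    rw [hSc, D.card_L_centI D.t_mem D.conf.tt D.t_ne_one] at h
    exact_mod_cast h
  have hpd : (D.p : ℤ) ∣ (D.q : ℤ) - D.e := (dvd_mul_left _ _).trans D.four_p_dvd
  have hcop : Nat.Coprime (2 * m) D.p := by
    obtain ⟨i, hi⟩ := D.S.isPGroup'.exists_card_eq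
    rw [← hSc, hi]
    exact Nat.Coprime.pow_left i (Nat.coprime_two_left.mpr (hp.odd_of_ne_two hp2))
  obtain ⟨c, hc⟩ : ((2 * m : ℤ) * D.p) ∣ (D.q : ℤ) - D.e :=
    IsCoprime.mul_dvd (by exact_mod_cast hcop.isCoprime) h2m hpd
  have hc0 : 0 < c := by
    by_contra h
    have := D.q_sub_e_pos
    have : (2 * m : ℤ) * D.p * c ≤ 0 := mul_nonpos_of_nonneg_of_nonpos (by positivity) (not_lt.mp h)
    omega
  obtain ⟨E, rfl⟩ := Int.eq_ofNat_of_zero_le hc0.le
  have hu : (x : ℚ) - δ ≠ 0 := by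
    have h1 : (x : ℤ) - δ ≠ 0 := by rcases hδ with rfl | rfl <;> omega
    exact_mod_cast h1
  have hkQ : (D.kk : ℚ) = (D.p : ℚ) * r := by rw [hk, Nat.cast_mul]
  have hρu : ρ * ((x : ℚ) - δ) ^ 2 = (x : ℚ) * (x + δ) := by rw [hρx, div_mul_cancel₀ _ (pow_ne_zero 2 hu)]
  refine IIbFinal.cong_final hp hrodd hr3 hr hm (Int.natCast_pos.mp hc0) D.he
    (FiniteField.isPrimePow_card D.F) ?_ (by rw [hc]; ring) hlt (D.index_modEq hP hAp hQc hcard hp5 hQp)
    hδ hx hdvd ?_ (n := D.H.index) ?_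
  · intro h
    have h' : (D.p : ℤ) ∣ D.e := by
      have := dvd_sub (Int.natCast_dvd_natCast.mpr h) hpd
      rwa [sub_sub_cancel] at this
    have := Int.natCast_dvd.mp h'
    rcases D.he with e | e <;> rw [e] at this <;> exact hp.ne_one (Nat.dvd_one.mp this)
  · have h : (2 * ((centI D.t).index : ℚ)) * ((x : ℚ) - δ) ^ 2 =
        (x : ℚ) * (x + δ) * ((D.p : ℚ) * r) ^ 2 * ((D.q : ℚ) - D.e) ^ 2 := by
      rw [hC, hkQ]
      linear_combination ((D.p : ℚ) * r) ^ 2 * ((D.q : ℚ) - D.e) ^ 2 * hρu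
    exact_mod_cast h
  · have h : ((D.H.index : ℚ) * ((D.q : ℚ) * ((D.q : ℚ) + D.e))) * ((x : ℚ) - δ) ^ 2 =
        (x : ℚ) * (x + δ) * ((D.p : ℚ) * r) ^ 3 * ((D.q : ℚ) - D.e) ^ 2 := by
      rw [hn, hkQ]
      linear_combination ((D.p : ℚ) * r) ^ 3 * ((D.q : ℚ) - D.e) ^ 2 * hρu
    exact_mod_cast h

end Left

include D in
/-- There is no configuration (IIb). -/
protected theorem «false» : False := by
  by_cases hP : OO D.p (centI D.t) ≤ D.H
  · exact D.no_abelian hP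
  obtain ⟨a, z, ha, hao, hz, hzo, -, -, -, -, h | ⟨hAp, hQc, hcard⟩⟩ := D.nonab hP
  · exact D.no_case_one ha hao hz hzo h
  · exact D.no_left hP hAp hQc hcard

end CfsgLib.GW.IIbData
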