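import Cfsg.Agent.Lib.GW.IIb.LocalChoice

/-!
(IIb) step 5, (U5): the structure of a non-abelian `P = O_p(C)` for a good choice of `v`.
-/

set_option autoImplicit false
set_option linter.unusedSectionVars false

namespace CfsgLib.GW

open Cfsg
open CfsgLib.BenderMax (OO)

universe u

variable {G : Type u} [Group G] [Finite G]

/-- For `a ∈ Ω₁(Z₂(P))`, `y ↦ [y, a]` is a homomorphism into the centre, killed by `p`. -/
theorem InOmega.bracket {P : Subgroup G} {p : ℕ} {a : G} (ha : InOmega P p a) {y : G} (hy : y ∈ P) :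
    y * a * y⁻¹ * a⁻¹ ∈ P ∧ (∀ z ∈ P, z * (y * a * y⁻¹ * a⁻¹) = y * a * y⁻¹ * a⁻¹ * z) ∧
      (y * a * y⁻¹ * a⁻¹) ^ p = 1 := by
  obtain ⟨haP, hap, hcen⟩ := ha
  set c := y * a * y⁻¹ * a⁻¹ with hc
  have hcP : c ∈ P := mul_mem (mul_mem (mul_mem hy haP) (inv_mem hy)) (inv_mem haP)
  have hz : ∀ z ∈ P, z * c = c * z := fun z hz => by
    have h : Commute (a * y * a⁻¹ * y⁻¹) z := hcen y hy z hz
    have e : c = (a * y * a⁻¹ * y⁻¹)⁻¹ := by rw [hc]; group
    rw [e]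
    exact h.inv_left.eq.symm
  refine ⟨hcP, hz, ?_⟩
  have hca : Commute c a := (hz a haP).symm
  have e1 : y * a * y⁻¹ = c * a := by rw [hc]; group
  have e2 : (c * a) ^ p = 1 := by rw [← e1, conj_pow, hap]; group
  rw [hca.mul_pow, hap, mul_one] at e2
  exact e2

namespace Main

variable {S : Sylow 2 G} {t v : G} {p : ℕ} {H L : Subgroup G} (m : Main S t v p H L)

include m

theorem card_PH : Nat.card ↥(OO p (centI t) ⊓ H) = Nat.card (fixA t v p) * Nat.card (m.Qr p) := by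
  have hp := m.conf.hp
  have hp2 := m.conf.hp2
  let f : fixA t v p × m.Qr p → ↥(OO p (centI t) ⊓ H) := fun x =>
    ⟨(x.1 : G) * (x.2 : G), mul_mem (m.A_eq.mp x.1.2).1 (m.Qr_le_OH p x.2.2)⟩
  rw [← Nat.card_prod, ← Nat.card_eq_of_bijective f]
  refine ⟨fun x y h => ?_, fun b => ?_⟩
  · have h' : (x.1 : G) * x.2 = y.1 * y.2 := congrArg Subtype.val h
    have e : (y.1 : G)⁻¹ * x.1 = y.2 * (x.2 : G)⁻¹ := by
      rw [eq_mul_inv_iff_mul_eq, mul_assoc, h', inv_mul_cancel_left]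
    have h1 := m.Qr_meet hp hp2 (e ▸ mul_mem y.2.2 (inv_mem x.2.2) : (y.1 : G)⁻¹ * x.1 ∈ m.Qr p)
      (m.A_le_cent (mul_mem (inv_mem y.1.2) x.1.2))
    rw [inv_mul_eq_one] at h1
    rw [h1] at h'
    exact Prod.ext (Subtype.ext h1.symm) (Subtype.ext (mul_left_cancel h'))
  · obtain ⟨a, ha, haL, z, hz, e⟩ := m.split hp hp2 b.2
    exact ⟨(⟨a, m.A_eq.mpr ⟨ha, haL⟩⟩, ⟨z, hz⟩), Subtype.ext e.symm⟩

/-- An element of order dividing `p` of `P ∩ H` lies in `⟨a, z⟩`. -/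
theorem mem_E (hPH : ¬ OO p (centI t) ≤ H) {a z : G} (ha : a ∈ fixA t v p) (hao : orderOf a = p)
    (hz : z ∈ m.Qr p) (hzo : orderOf z = p) {x : G} (hx : x ∈ OO p (centI t) ⊓ H) (hxp : x ^ p = 1) :
    x ∈ Subgroup.zpowers a ⊔ Subgroup.zpowers z := by
  classical
  have hp := m.conf.hp
  have hp2 := m.conf.hp2
  haveI := m.A_cyclic
  obtain ⟨b, hb, hbL, w, hw, rfl⟩ := m.split hp hp2 hx
  have hbA : b ∈ fixA t v p := m.A_eq.mpr ⟨hb, hbL⟩
  have hbw : Commute b w := (Subgroup.mem_centralizer_iff.mp hbL w (m.Qr_le p hw).2).symm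
  rw [hbw.mul_pow] at hxp
  have hwp : w ^ p = 1 := by
    refine m.Qr_meet hp hp2 (pow_mem hw p) ?_
    rw [show w ^ p = (b ^ p)⁻¹ from eq_inv_of_mul_eq_one_right hxp]
    exact inv_mem (pow_mem hbL p)
  have hbp : b ^ p = 1 := by rwa [hwp, mul_one] at hxp
  refine Subgroup.mul_mem_sup ?_ (m.Qr_mem_zpowers hPH hz hzo hw hwp)
  -- the unique subgroup of order `p` of `A`
  haveI := Fintype.ofFinite (fixA t v p)
  by_contra hn
  have hn' : (⟨b, hbA⟩ : fixA t v p) ∉ Subgroup.zpowers (⟨a, ha⟩ : fixA t v p) := fun h => hn (by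
    obtain ⟨i, hi⟩ := h
    exact ⟨i, by simpa using congrArg Subtype.val hi⟩)
  have h := IsCyclic.card_pow_eq_one_le (α := fixA t v p) (n := p) hp.pos
  have hss : insert (⟨b, hbA⟩ : fixA t v p) (Finset.univ.filter (· ∈ Subgroup.zpowers (⟨a, ha⟩ : fixA t v p))) ⊆
      Finset.univ.filter (fun x : fixA t v p => x ^ p = 1) := by
    intro y hy
    rw [Finset.mem_insert, Finset.mem_filter] at hy
    refine Finset.mem_filter.mpr ⟨Finset.mem_univ y, ?_⟩
    rcases hy with rfl | ⟨-, hy⟩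
    · exact Subtype.ext hbp
    · obtain ⟨i, rfl⟩ := Subgroup.mem_zpowers_iff.mp hy
      have e : (⟨a, ha⟩ : fixA t v p) ^ (p : ℕ) = 1 := Subtype.ext (by
        show a ^ p = 1
        rw [← hao, pow_orderOf_eq_one])
      rw [← zpow_natCast, ← zpow_mul, mul_comm, zpow_mul, zpow_natCast, e, one_zpow]
  have h2 := (Finset.card_le_card hss).trans h
  rw [Finset.card_insert_of_notMem (by simp [hn']), ← Fintype.card_subtype] at h2
  have h3 : Fintype.card {y : fixA t v p // y ∈ Subgroup.zpowers (⟨a, ha⟩ : fixA t v p)} = p := by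
    rw [← Nat.card_eq_fintype_card]
    exact (Nat.card_zpowers _).trans ((Subgroup.orderOf_mk a ha).trans hao)
  omega

/-- The structure of a non-abelian `P`. -/
theorem nonab_facts (hPH : ¬ OO p (centI t) ≤ H) {a : G} (ha : a ∈ fixA t v p) (ha1 : a ≠ 1)
    (haU : InOmega (OO p (centI t)) p a) :
    ∃ a z : G, a ∈ fixA t v p ∧ orderOf a = p ∧ z ∈ m.Qr p ∧ orderOf z = p ∧
      (∀ y ∈ OO p (centI t), y * z = z * y) ∧
      (∀ y ∈ OO p (centI t), y * a * y⁻¹ * a⁻¹ ∈ Subgroup.zpowers z) ∧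
      (∀ y ∈ OO p (centI t), (∀ u ∈ OO p (centI t), u * y = y * u) → y ∈ m.Qr p) ∧
      Nat.card (OO p (centI t)) = p * Nat.card ↥(OO p (centI t) ⊓ H) ∧
      (centI t ≤ Subgroup.normalizer ((Subgroup.zpowers a ⊔ Subgroup.zpowers z : Subgroup G) : Set G) ∨
        (Nat.card (fixA t v p) = p ∧ (∀ y ∈ m.Qr p, ∀ u ∈ OO p (centI t), u * y = y * u) ∧
          Nat.card (OO p (centI t)) = p ^ 2 * Nat.card (m.Qr p))) := by
  have c := m.conf
  haveI := Fact.mk c.hp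
  set P := OO p (centI t) with hP
  obtain ⟨z, hz, hzo, hzc⟩ := m.exists_central_order hPH
  have hao : orderOf a = p := orderOf_eq_prime haU.2.1 ha1
  have hzP : z ∈ P := (m.Qr_le p hz).1
  -- brackets with an element of `Ω₁(Z₂(P))` lie in `⟨z⟩`
  have hbr : ∀ w, InOmega P p w → ∀ y ∈ P, y * w * y⁻¹ * w⁻¹ ∈ Subgroup.zpowers z := fun w hw y hy => by
    obtain ⟨h1, h2, h3⟩ := hw.bracket hy
    exact m.Qr_mem_zpowers hPH hz hzo (m.center_le hPH h1 h2) h3
  let φ : ∀ w, InOmega P p w → (P →* Subgroup.zpowers z) := fun w hw =>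
    MonoidHom.mk' (fun y => ⟨y * w * (y : G)⁻¹ * w⁻¹, hbr w hw y y.2⟩) fun y₁ y₂ => by
      refine Subtype.ext ?_
      show (y₁ : G) * y₂ * w * ((y₁ : G) * y₂)⁻¹ * w⁻¹ = y₁ * w * (y₁ : G)⁻¹ * w⁻¹ * (y₂ * w * (y₂ : G)⁻¹ * w⁻¹)
      have h := (hw.bracket y₂.2).2.1 _ y₁.2
      have h' := (hw.bracket y₁.2).2.1 _ (hw.bracket y₂.2).1
      calc (y₁ : G) * y₂ * w * ((y₁ : G) * y₂)⁻¹ * w⁻¹
          = y₁ * (y₂ * w * (y₂ : G)⁻¹ * w⁻¹) * (w * (y₁ : G)⁻¹ * w⁻¹) := by group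
        _ = y₂ * w * (y₂ : G)⁻¹ * w⁻¹ * y₁ * (w * (y₁ : G)⁻¹ * w⁻¹) := by rw [h]
        _ = y₂ * w * (y₂ : G)⁻¹ * w⁻¹ * (y₁ * w * (y₁ : G)⁻¹ * w⁻¹) := by group
        _ = _ := h'
  have hkerφ : ∀ w (hw : InOmega P p w) (y : P), φ w hw y = 1 ↔ (y : G) * w = w * y := fun w hw y => by
    rw [Subtype.ext_iff]
    show (y : G) * w * (y : G)⁻¹ * w⁻¹ = 1 ↔ _
    rw [mul_inv_eq_one]
    exact ⟨comm_of_conj_eq, conj_eq_of_comm⟩
  have hzcard : Nat.card (Subgroup.zpowers z) = p := by rw [Nat.card_zpowers, hzo]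
  -- `|P| = p |P ∩ H|`
  have hkerA : (φ a haU).ker = H.subgroupOf P := by
    ext y
    rw [MonoidHom.mem_ker, hkerφ a haU, Subgroup.mem_subgroupOf]
    exact (m.mem_PH_iff ha ha1 y.2).symm
  have hcardH : Nat.card (φ a haU).ker = Nat.card ↥(P ⊓ H) := by
    rw [hkerA, ← Subgroup.inf_subgroupOf_left, Nat.card_congr (Subgroup.subgroupOfEquivOfLe inf_le_left).toEquiv]
  have hcardP : Nat.card P = p * Nat.card ↥(P ⊓ H) := by
    rw [Subgroup.card_eq_card_quotient_mul_card_subgroup (φ a haU).ker,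
      Nat.card_congr (QuotientGroup.quotientKerEquivRange _).toEquiv, hcardH]
    congr 1
    have hd := Subgroup.card_subgroup_dvd_card (φ a haU).range
    rw [hzcard] at hd
    refine ((Nat.dvd_prime c.hp).mp hd).resolve_left fun h => hPH fun y hy => ?_
    have hk : (⟨y, hy⟩ : P) ∈ (φ a haU).ker := by
      have h0 : φ a haU ⟨y, hy⟩ ∈ (φ a haU).range := ⟨_, rfl⟩
      rw [Subgroup.eq_bot_of_card_eq _ h] at h0
      exact MonoidHom.mem_ker.mpr (Subgroup.mem_bot.mp h0)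
    rw [hkerA] at hk
    exact hk
  refine ⟨a, z, ha, hao, hz, hzo, hzc, hbr a haU, fun y hy h => m.center_le hPH hy h, hcardP, ?_⟩
  set E := Subgroup.zpowers a ⊔ Subgroup.zpowers z with hE
  by_cases hEn : centI t ≤ Subgroup.normalizer (E : Set G)
  · exact Or.inl hEn
  right
  -- a conjugate of `a` outside `H`
  obtain ⟨g, hg, hga⟩ : ∃ g ∈ centI t, g * a * g⁻¹ ∉ H := by
    by_contra h
    push Not at h
    refine hEn fun g hg => Subgroup.mem_normalizer_fintype fun x hx => ?_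
    have h1 : g * a * g⁻¹ ∈ E := m.mem_E hPH ha hao hz hzo ⟨BenderMax.conj_OO hg (mem_fixA.mp ha).1, h g hg⟩
      (by rw [conj_pow, ← hao, pow_orderOf_eq_one]; group)
    have h2 : g * z * g⁻¹ ∈ E := by
      have hcen : ∀ u ∈ P, u * (g * z * g⁻¹) = g * z * g⁻¹ * u := fun u hu => by
        have hu' : g⁻¹ * u * g ∈ P := by simpa using BenderMax.conj_OO (inv_mem hg) hu
        calc u * (g * z * g⁻¹) = g * (g⁻¹ * u * g * z) * g⁻¹ := by group
          _ = g * (z * (g⁻¹ * u * g)) * g⁻¹ := by rw [hzc _ hu']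
          _ = _ := by group
      exact Subgroup.mem_sup_right (m.Qr_mem_zpowers hPH hz hzo (m.center_le hPH (BenderMax.conj_OO hg hzP) hcen)
        (by rw [conj_pow, ← hzo, pow_orderOf_eq_one]; group))
    have hle : E ≤ E.comap (MulAut.conj g).toMonoidHom :=
      sup_le (Subgroup.zpowers_le.mpr h1) (Subgroup.zpowers_le.mpr h2)
    exact hle hx
  set a' := g * a * g⁻¹ with ha'def
  have ha'U : InOmega P p a' := c.conj_Omega hg haU
  have ha'P : a' ∈ P := ha'U.1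
  -- elements of `P ∩ H` commuting with `a'` are central
  have hcen : ∀ b ∈ P ⊓ H, b * a' = a' * b → ∀ y ∈ P, y * b = b * y := by
    intro b hb hba y hy
    have hne : φ a haU ⟨a', ha'P⟩ ≠ 1 := fun h => hga ((m.mem_PH_iff ha ha1 ha'P).mpr ((hkerφ a haU _).mp h))
    have hgen : ∀ w : Subgroup.zpowers z, w ∈ Subgroup.zpowers (φ a haU ⟨a', ha'P⟩) := by
      intro w
      haveI : Fact (Nat.card (Subgroup.zpowers z)).Prime := ⟨hzcard.symm ▸ c.hp⟩
      exact mem_zpowers_of_prime_card rfl hne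
    obtain ⟨i, hi⟩ := Subgroup.mem_zpowers_iff.mp (hgen (φ a haU ⟨y, hy⟩))
    have hk : (⟨y, hy⟩ : P) * (⟨a', ha'P⟩ ^ i)⁻¹ ∈ (φ a haU).ker := by
      rw [MonoidHom.mem_ker, map_mul, map_inv, map_zpow, hi, mul_inv_cancel]
    rw [hkerA, Subgroup.mem_subgroupOf] at hk
    have h1 : Commute b (y * (a' ^ i)⁻¹) :=
      m.PH_comm _ hb (y * (a' ^ i)⁻¹) ⟨P.mul_mem hy (P.inv_mem (P.zpow_mem ha'P i)), by simpa using hk⟩
    have hba' : Commute b a' := hba
    have h3 := h1.mul_right (hba'.zpow_right i)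
    rw [inv_mul_cancel_right] at h3
    exact h3.eq.symm
  let ψ : ↥(P ⊓ H) →* Subgroup.zpowers z := (φ a' ha'U).comp (Subgroup.inclusion inf_le_left)
  have hker : ∀ b : ↥(P ⊓ H), ψ b = 1 → (b : G) ∈ m.Qr p := fun b hb =>
    m.center_le hPH b.2.1 (hcen b b.2 ((hkerφ a' ha'U _).mp hb))
  have hkle : Nat.card ψ.ker ≤ Nat.card (m.Qr p) :=
    Nat.card_le_card_of_injective (fun b : ψ.ker => (⟨(b : ↥(P ⊓ H)), hker _ (MonoidHom.mem_ker.mp b.2)⟩ : m.Qr p))
      fun x y e => Subtype.ext (Subtype.ext (congrArg Subtype.val e :))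
  have hrle : Nat.card ψ.range ≤ p := (Subgroup.card_le_card_group _).trans hzcard.le
  have hmul : Nat.card ↥(P ⊓ H) = Nat.card ψ.range * Nat.card ψ.ker := by
    rw [Subgroup.card_eq_card_quotient_mul_card_subgroup ψ.ker,
      Nat.card_congr (QuotientGroup.quotientKerEquivRange _).toEquiv]
  have hAge : p ≤ Nat.card (fixA t v p) := by
    have h := Nat.le_of_dvd Nat.card_pos (Subgroup.orderOf_dvd_natCard (fixA t v p) ha)
    rwa [hao] at h
  have hB := m.card_PH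
  have hQpos : 0 < Nat.card (m.Qr p) := Nat.card_pos
  have hA : Nat.card (fixA t v p) = p := by
    refine le_antisymm ?_ hAge
    refine Nat.le_of_mul_le_mul_right ?_ hQpos
    rw [← hB, hmul]
    exact Nat.mul_le_mul hrle hkle
  have hkeq : Nat.card ψ.ker = Nat.card (m.Qr p) := by
    refine le_antisymm hkle (Nat.le_of_mul_le_mul_left ?_ c.hp.pos)
    calc p * Nat.card (m.Qr p) = Nat.card ψ.range * Nat.card ψ.ker := by rw [← hmul, hB, hA]
      _ ≤ p * Nat.card ψ.ker := Nat.mul_le_mul hrle le_rfl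
  refine ⟨hA, fun y hy u hu => ?_, by rw [hcardP, hB, hA, sq, mul_assoc]⟩
  have hbij : Function.Bijective
      (fun b : ψ.ker => (⟨(b : ↥(P ⊓ H)), hker _ (MonoidHom.mem_ker.mp b.2)⟩ : m.Qr p)) :=
    (Nat.bijective_iff_injective_and_card _).mpr ⟨fun x y e => Subtype.ext (Subtype.ext (congrArg Subtype.val e :)), hkeq⟩
  obtain ⟨b, hb⟩ := hbij.2 ⟨y, hy⟩
  have e : ((b : ↥(P ⊓ H)) : G) = y := congrArg Subtype.val hb
  rw [← e]
  exact hcen _ (b : ↥(P ⊓ H)).2 ((hkerφ a' ha'U _).mp (MonoidHom.mem_ker.mp b.2)) u hu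

end Main

end CfsgLib.GW
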