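import Cfsg.Agent.Lib.GW.IIb.LocalExtra
import Cfsg.Agent.Lib.GW.IIb.LocalNonab

/-!
(IIb): existence of `IIbData`.
-/

set_option autoImplicit false
set_option linter.unusedSectionVars false

namespace CfsgLib.GW

open Cfsg
open CfsgLib.BenderMax (OO)
open scoped MatrixGroups

universe u

variable {G : Type u} [Group G] [Finite G]

theorem Main.exists_frame {S : Sylow 2 G} {t v : G} {p : ℕ} {H L : Subgroup G} (m : Main S t v p H L) :
    Nonempty (PSLFrame H (L.subgroupOf H)) := by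
  rcases m.comp.exists_frame m.conf.hyp m.over'.ne_top with h | ⟨⟨fr⟩⟩
  · exact h
  · exact (m.not_seven fr).elim

theorem Main.core_abelian {S : Sylow 2 G} {t v : G} {p : ℕ} {H L : Subgroup G} (m : Main S t v p H L) {r : ℕ}
    (hr : r.Prime) (hr2 : r ≠ 2) :
    ∀ x ∈ OO r (centI t) ⊓ H, ∀ y ∈ OO r (centI t) ⊓ H, x * y = y * x := by
  intro x hx y hy
  obtain ⟨a, ha, haL, z, hz, rfl⟩ := m.split hr hr2 hx
  obtain ⟨b, hb, hbL, w, hw, rfl⟩ := m.split hr hr2 hy
  haveI := m.fixA_cyclic hr hr2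
  haveI := IsCyclic.isMulCommutative (α := fixA t v r)
  have hab : Commute a b := setLike_mul_comm (S := Subgroup G)
    (mem_fixA.mpr ⟨ha.1, (m.cent_iff hr hr2 ha).mp haL⟩ : a ∈ fixA t v r)
    (mem_fixA.mpr ⟨hb.1, (m.cent_iff hr hr2 hb).mp hbL⟩)
  have haw : Commute a w := (Subgroup.mem_centralizer_iff.mp haL w ((m.Qr_le r hw).2)).symm
  have hzb : Commute z b := Subgroup.mem_centralizer_iff.mp hbL z ((m.Qr_le r hz).2)
  have hzw : Commute z w := m.OL_comm hr hr2 z (m.Qr_le r hz) w (m.Qr_le r hw)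
  exact ((hab.mul_right haw).mul_left (hzb.mul_right hzw)).eq

theorem Main.Qr_card_dvd {S : Sylow 2 G} {t v : G} {p : ℕ} {H L : Subgroup G} (m : Main S t v p H L)
    (fr : PSLFrame H (L.subgroupOf H)) {r : ℕ} (hr : r.Prime) (hr2 : r ≠ 2) :
    Nat.card (m.Qr r) ∣ Model.qm fr.F := by
  haveI := m.Qr_cyclic hr hr2
  obtain ⟨g, hg⟩ := IsCyclic.exists_generator (α := m.Qr r)
  rw [← orderOf_eq_card_of_forall_mem_zpowers hg]
  have hgH := m.Qr_le_OH r g.2
  obtain ⟨hd, hdvd⟩ := m.core_dvd fr hr hr2 (x := ⟨(g : G), hgH.2⟩) hgH.1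
  refine orderOf_dvd_of_pow_eq_one (Subtype.ext (m.Qr_meet hr hr2 (g ^ Model.qm fr.F).2 ?_))
  have h1 : fr.pgl (⟨⟨(g : G), hgH.2⟩, hd⟩ ^ Model.qm fr.F) = 1 := by
    rw [map_pow]
    obtain ⟨k, hk⟩ := hdvd
    rw [hk, pow_mul, pow_orderOf_eq_one, one_pow]
  have h2 := m.comp.mem_cent_iff.mp ((fr.pgl_eq_one_iff _).mp h1)
  simpa using h2

/-- **Steps 1-5**: `IIbData` exists, with the same `S`, `t`, `p` (`v` may change). -/
theorem IIb.exists_data {S : Sylow 2 G} {t v : G} {p : ℕ} (c : IIb S t v p) :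
    ∃ D : IIbData G, D.S = S ∧ D.t = t ∧ D.p = p := by
  classical
  obtain ⟨v', H, L, m, hgood⟩ := c.exists_good modelFacts fun H L m => by
    obtain ⟨fr⟩ := m.exists_frame
    exact m.extra fr
  obtain ⟨fr⟩ := m.exists_frame
  have E := m.extra fr
  have c' := m.conf
  have hLcen : Subgroup.center ↥L = ⊥ := by
    refine (Subgroup.eq_bot_iff_forall _).mpr fun x hx => Subtype.ext ?_
    exact m.L_inf_cent fr x.2 (Subgroup.mem_centralizer_iff.mpr fun l hl =>
      congrArg Subtype.val (Subgroup.mem_center_iff.mp hx ⟨l, hl⟩))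
  have hiso : Nonempty (↥L ⧸ Subgroup.center ↥L ≃* Matrix.ProjectiveSpecialLinearGroup (Fin 2) fr.F) := by
    obtain ⟨e⟩ := m.model_iso fr
    exact ⟨((QuotientGroup.quotientMulEquivOfEq hLcen).trans QuotientGroup.quotientBot).trans
      (((Subgroup.subgroupOfEquivOfLe m.comp.le).symm.trans
        ((QuotientGroup.quotientMulEquivOfEq (m.center_eq_bot fr)).trans QuotientGroup.quotientBot).symm).trans e)⟩
  set e₀ : ℤ := if Fintype.card fr.F % 4 = 1 then 1 else -1 with he₀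
  have hodd := Nat.odd_iff.mp fr.odd
  have hqm : (Model.qm fr.F : ℤ) = (Fintype.card fr.F : ℤ) - e₀ := by
    have := fr.three_lt
    rw [he₀]
    unfold Model.qm
    split_ifs <;> omega
  have hW : ∀ {r : ℕ}, r.Prime → r ≠ 2 → ∀ x, x ∈ OO r (centI t) ⊓ (H ⊓ Subgroup.centralizer (L : Set G)) ↔
      x ∈ fixA t v' r ∧ x ∈ H := fun {r} hr hr2 x =>
    ⟨fun h => ⟨mem_fixA.mpr ⟨h.1, (m.cent_iff hr hr2 ⟨h.1, h.2.1⟩).mp h.2.2⟩, h.2.1⟩,
      fun h => ⟨(mem_fixA.mp h.1).1, h.2,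
        (m.cent_iff hr hr2 ⟨(mem_fixA.mp h.1).1, h.2⟩).mpr (mem_fixA.mp h.1).2⟩⟩
  refine ⟨{
    S := S, t := t, v := v', p := p, conf := c', H := H, L := L
    W := H ⊓ Subgroup.centralizer (L : Set G)
    A := fixA t v' p, Q := m.Qr, F := fr.F, e := e₀
    H_max := m.over'.coatom
    H_ne := m.over'.ne_centI c'
    A_eq := rfl
    A_ne := c'.fixA_ne
    A_le_W := le_inf m.A_le_H m.A_le_cent
    A_cyclic := m.A_cyclic
    normalizer_le := fun A₀ h1 h2 => m.normalizer_le h1 h2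
    meet_conj := fun x _ hxH a ha h => m.meet_conj hxH ha h
    mem_H_iff := fun x hx => m.mem_H_iff hx
    L_le := m.comp.le
    L_perfect := m.comp.perfect
    L_normal := m.comp.norm
    t_mem := m.t_mem
    v_mem := m.v_mem
    W_eq := rfl
    W_odd := m.comp.W_odd
    he := by rw [he₀]; split_ifs <;> simp
    hq := m.eleven_le fr
    hq4 := by
      rw [← hqm]
      exact_mod_cast (Model.qm_qp_arith (F := fr.F) fr.odd).1
    model := hiso
    core_le := fun r hr _ hrp => m.over'.core_le c' hr hrp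
    core_W := fun r hr hr2 => by
      ext x
      rw [hW hr hr2, Subgroup.mem_inf, Subgroup.mem_inf, mem_fixA, Subgroup.mem_centralizer_singleton_iff]
      tauto
    core_W_cyclic := fun r hr hr2 => by
      haveI := m.fixA_cyclic hr hr2
      exact isCyclic_of_injective (Subgroup.inclusion (fun x hx => ((hW hr hr2 x).mp hx).1))
        (Subgroup.inclusion_injective _)
    core_split := fun r hr hr2 => by
      refine le_antisymm (fun x hx => ?_) (sup_le (inf_le_inf_left _ inf_le_left) (m.Qr_le_OH r))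
      obtain ⟨a, ha, haL, z, hz, rfl⟩ := m.split hr hr2 hx
      exact Subgroup.mul_mem_sup ⟨ha.1, ha.2, haL⟩ hz
    core_comm := fun r hr hr2 => m.core_abelian hr hr2
    core_mixed := fun r hr hr2 hrp hne => m.P_le_of_mixed hr hr2 hrp fun e => hne
      ((Subgroup.eq_bot_iff_forall _).mpr fun x hx => by
        have h := ((hW hr hr2 x).mp hx).1
        rwa [e, Subgroup.mem_bot] at h)
    Q_le := fun r _ _ => m.Qr_le r
    Q_meet := fun r hr hr2 => (Subgroup.eq_bot_iff_forall _).mpr fun x hx => m.Qr_meet hr hr2 hx.1 hx.2.2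
    Q_cyclic := fun r hr hr2 => m.Qr_cyclic hr hr2
    Q_ne := fun r hr hr2 h => m.Qr_ne hr hr2 h
    Q_dvd := fun r hr hr2 => by
      rw [← hqm]
      exact Int.natCast_dvd_natCast.mpr (m.Qr_card_dvd fr hr hr2)
    refl_inv := fun r hr hr2 w hwH hwo hwt hne x hx => by
      have hxL := (m.Qr_le r hx).2
      exact eq_inv_of_mul_eq_one_left (m.L_inf_cent fr (mul_mem (m.comp.conj_mem hwH hxL) hxL)
        (E.refl r hr hr2 w hwH hwo hwt hne x (m.Qr_le_OH r hx)))
    nonab := fun hPH => by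
      obtain ⟨a, ha, ha1, haU⟩ := hgood hPH
      exact m.nonab_facts hPH ha ha1 haU }, rfl, rfl, rfl⟩

end CfsgLib.GW
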