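import Cfsg.Agent.Lib.SL2Char.Table
import Cfsg.Agent.Lib.CharTheory.Linear

/-!
The two facts on `L ≅ PSL₂(q)` needed at the end of case (IIb): the permutation character on the projective line
is constant on elements of even order and on elements of order divisible by an odd prime divisor of `q - e`, and
a non-trivial representation has degree at least `(q - 1) / 2`.
-/

set_option autoImplicit false
set_option linter.style.haveILetI false
set_option linter.unusedSectionVars false

namespace CfsgLib.GW.IIbFinal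

open Cfsg CfsgLib.CharTheory CfsgLib.SL2Char

universe u

variable {F : Type} [Field F] [Fintype F]

local notation "SL2" => Matrix.SpecialLinearGroup (Fin 2) F
local notation "PSL" => Matrix.ProjectiveSpecialLinearGroup (Fin 2) F
local notation "q" => Fintype.card F

omit [Fintype F] in
theorem bor_mem_center {a : Fˣ} (ha : a ^ 2 = 1) : bor a (0 : F) ∈ Subgroup.center SL2 :=
  Subgroup.mem_center_iff.2 fun g => ((scalar_comm a ha g).eq).symm

omit [Fintype F] in
theorem center_eq_bor {n : SL2} (hn : n ∈ Subgroup.center SL2) : ∃ a : Fˣ, a ^ 2 = 1 ∧ n = bor a 0 := by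
  obtain ⟨r, hr, hn⟩ := Matrix.SpecialLinearGroup.mem_center_iff.1 hn
  rw [Fintype.card_fin] at hr
  refine ⟨Units.mk0 r (fun e => by simp [e] at hr), Units.ext (by simpa using hr), Subtype.ext ?_⟩
  have hi : r⁻¹ = r := inv_eq_of_mul_eq_one_left (by rwa [← sq])
  rw [← hn, bor_coe]
  ext i j
  fin_cases i <;> fin_cases j <;> simp [hi]

omit [Fintype F] in
theorem bor_pow (a : Fˣ) (x : F) (k : ℕ) : ∃ y, bor a x ^ k = bor (a ^ k) y ∧ (x = 0 → y = 0) := by
  induction k with
  | zero => exact ⟨0, by simp [bor_one], fun _ => rfl⟩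
  | succ k ih =>
    obtain ⟨y, hy, hy0⟩ := ih
    exact ⟨_, by rw [pow_succ, hy, bor_mul, ← pow_succ], fun e => by rw [e, hy0 e]; simp⟩

omit [Fintype F] in
theorem bor_one_pow (x : F) (k : ℕ) : bor (1 : Fˣ) x ^ k = bor 1 ((k : F) * x) := by
  induction k with
  | zero => simp [bor_one]
  | succ k ih => rw [pow_succ, ih, bor_mul]; congr 1 <;> simp [add_mul, add_comm]

/-- A non-trivial representation of `PSL₂(q)` has degree at least `(q - 1) / 2`. -/
theorem min_degree (hodd : Odd q) (hq : 5 ≤ q) {L : Type u} [Group L] (φ : L ≃* PSL) (n : ℕ)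
    (σ : Representation ℂ L (Fin n → ℂ)) (hσ : ∃ l, σ l ≠ 1) : (q - 1) / 2 ≤ n := by
  classical
  obtain ⟨C, hC, hcard⟩ := exists_torus (F := F)
  let ψ : SL2 →* L := φ.symm.toMonoidHom.comp (QuotientGroup.mk' _)
  have hψ : Function.Surjective ψ := φ.symm.surjective.comp (QuotientGroup.mk'_surjective _)
  let ρ : Representation ℂ SL2 (Fin n → ℂ) := σ.comp ψ
  set χ := ρ.character with hχ
  have hchar : IsCharacter SL2 χ := ⟨n, ρ, rfl⟩
  have hχ1 : χ 1 = (n : ℂ) := by rw [hχ, ρ.char_one, Module.finrank_fin_fun]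
  choose m hm using fun θ : IrrCharacter SL2 => classInner_char_nat hchar (isCharacter_of_irr θ.2)
  have hsum : ∀ g, χ g = ∑ θ : IrrCharacter SL2, (m θ : ℂ) * (θ : SL2 → ℂ) g := fun g => by
    have h := congrFun (eq_sum_irr (isClassFunction_char hchar)) g
    simp only [Finset.sum_apply, Pi.smul_apply, smul_eq_mul, hm] at h
    exact h
  choose d hd using fun θ : IrrCharacter SL2 => irr_degree_pos θ.2
  have hn : n = ∑ θ : IrrCharacter SL2, m θ * d θ := by
    have h := hsum 1
    rw [hχ1, Finset.sum_congr rfl fun θ _ => (by rw [(hd θ).2] : (m θ : ℂ) * (θ : SL2 → ℂ) 1 = (m θ : ℂ) * d θ)] at h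
    exact_mod_cast h
  obtain ⟨θ, hθm, hθ⟩ : ∃ θ : IrrCharacter SL2, m θ ≠ 0 ∧ (θ : SL2 → ℂ) ≠ fun _ => 1 := by
    by_contra hc
    push Not at hc
    obtain ⟨l, hl⟩ := hσ
    obtain ⟨g, rfl⟩ := hψ l
    refine hl (rep_apply_eq_one_of_char_eq ρ ?_)
    rw [← hχ, hsum, hsum]
    refine Finset.sum_congr rfl fun θ _ => ?_
    by_cases h0 : m θ = 0
    · simp [h0]
    · rw [hc θ h0]
  have hdeg : (q - 1) / 2 ≤ d θ := by
    have h2 : (2 : F) ≠ 0 := Ring.two_ne_zero fun hc => by
      have := FiniteField.even_card_of_char_two hc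
      rw [Nat.odd_iff] at hodd
      omega
    rcases degree_cases C hC hcard θ.2 with ⟨h, -⟩ | ⟨-, h⟩ | ⟨-, -, -, h⟩ | ⟨-, -, -, h⟩ | ⟨-, -, -, h⟩ | ⟨-, -, -, h⟩
    · exact absurd h hθ
    all_goals rw [(hd θ).2] at h
    · have : d θ = q := natCast_inj' h
      omega
    · have : d θ = q + 1 := natCast_inj' (by push_cast; exact h)
      omega
    · have : d θ + 1 = q := natCast_inj' (by push_cast; rw [h]; ring)
      omega
    · have : 2 * d θ = q + 1 := natCast_inj' (by push_cast; exact h)
      omega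
    · have : 2 * d θ + 1 = q := natCast_inj' (by push_cast; rw [h]; ring)
      omega
  have hle := Finset.single_le_sum (f := fun x : IrrCharacter SL2 => m x * d x) (fun _ _ => Nat.zero_le _)
    (Finset.mem_univ θ)
  have : 1 * d θ ≤ m θ * d θ := Nat.mul_le_mul_right _ (Nat.pos_of_ne_zero hθm)
  omega

/-- The permutation character on the projective line. -/
theorem exists_line_char (hodd : Odd q) (hq : 5 ≤ q) {L : Type u} [Group L] [Fintype L] (φ : L ≃* PSL)
    {p : ℕ} (hp : p.Prime) (hp2 : p ≠ 2) {e : ℤ} (he : e = 1 ∨ e = -1) (h4 : (4 : ℤ) ∣ (q : ℤ) - e)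
    (hpq : (p : ℤ) ∣ (q : ℤ) - e) :
    ∃ π : L → ℂ, IsCharacter L π ∧ classInner π (fun _ => 1) = 1 ∧ classInner π π = 2 ∧
      ∀ l : L, (2 ∣ orderOf l ∨ p ∣ orderOf l) → π l = 1 + (e : ℂ) := by
  classical
  obtain ⟨θ, hθ, hst⟩ := exists_quotient_irr (Subgroup.center SL2) isIrr_st (fun n hn => by
    obtain ⟨a, ha, rfl⟩ := center_eq_bor hn
    rw [st_bor_scalar ha, st_one])
  set θ' : L → ℂ := fun l => θ (φ l) with hθ'
  have hirr : IsIrrCharacter L θ' := isIrrCharacter_comp_surjective hθ φ.toMonoidHom φ.surjective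
  have hone : (fun _ : L => (1 : ℂ)) ≠ θ' := fun h => by
    have h1 := congrFun h 1
    simp only [hθ', map_one] at h1
    have h2 : θ 1 = (q : ℂ) := by
      rw [← st_one, congrFun hst 1]; rfl
    rw [h2] at h1
    have : (1 : ℕ) = q := natCast_inj' (by rw [Nat.cast_one]; exact h1)
    omega
  refine ⟨(fun _ => 1) + θ', isCharacter_add isCharacter_one (isCharacter_of_irr hirr), ?_, ?_, ?_⟩
  · rw [classInner_add_left, classInner_irr isIrrCharacter_one isIrrCharacter_one, if_pos rfl,
      classInner_irr hirr isIrrCharacter_one, if_neg hone.symm, add_zero]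
  · rw [classInner_add_left, classInner_add_right, classInner_add_right,
      classInner_irr isIrrCharacter_one isIrrCharacter_one, if_pos rfl, classInner_irr hirr isIrrCharacter_one,
      if_neg hone.symm, classInner_irr hirr hirr, if_pos rfl, classInner_irr isIrrCharacter_one hirr, if_neg hone]
    norm_num
  intro l hl
  obtain ⟨g, hg⟩ := QuotientGroup.mk_surjective (φ l)
  have hval : θ' l = st g := by
    show θ (φ l) = st g
    rw [← hg, congrFun hst g]
  show (1 : ℂ) + θ' l = _
  rw [hval]
  congr 1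
  obtain ⟨d, hdmem, hdl⟩ : ∃ d : ℕ, (d = 2 ∨ d = p) ∧ d ∣ orderOf l := by
    rcases hl with h | h
    exacts [⟨2, Or.inl rfl, h⟩, ⟨p, Or.inr rfl, h⟩]
  have hkey : ∀ k : ℕ, g ^ k ∈ Subgroup.center SL2 → d ∣ k := by
    intro k hk
    refine hdl.trans (orderOf_dvd_of_pow_eq_one (φ.injective ?_))
    rw [map_pow, map_one, ← hg]
    exact (QuotientGroup.mk_pow _ g k).symm.trans ((QuotientGroup.eq_one_iff _).2 hk)
  have hcen : ∀ {x y : SL2} (k : ℕ), IsConj x y → y ^ k ∈ Subgroup.center SL2 → x ^ k ∈ Subgroup.center SL2 := by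
    intro x y k hxy hy
    obtain ⟨c, hc⟩ := isConj_iff.1 hxy.symm
    rw [← hc, conj_pow]
    exact (Subgroup.center SL2).normal_of_characteristic.conj_mem _ hy c
  obtain ⟨j, hj⟩ := hodd
  have hp' : (p : ℤ) ≠ 2 := by exact_mod_cast hp2
  have hp2' : ¬ (p : ℤ) ∣ 2 := fun h => by
    have := Nat.le_of_dvd two_pos (by exact_mod_cast h : p ∣ 2)
    have := hp.two_le
    omega
  rcases elem_cases g with hE | ⟨a, x, hconj⟩
  · rw [st_ell hE]
    obtain ⟨C, hC, hcard⟩ := exists_torus (F := F)
    obtain ⟨c, hc, -, hgc⟩ := exists_conj_mem C hC hcard hE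
    have hk : g ^ (j + 1) ∈ Subgroup.center SL2 := by
      refine hcen _ hgc ?_
      have hsq : c ^ (j + 1) * c ^ (j + 1) = 1 := by
        rw [← pow_add, show j + 1 + (j + 1) = Nat.card C by omega]
        exact congrArg Subtype.val (pow_card_eq_one' (G := C) (x := ⟨c, hc⟩))
      rcases torus_cases C hcard (C.pow_mem hc (j + 1)) with h | ⟨b, hb, hb'⟩
      · exact absurd (inv_eq_of_mul_eq_one_right hsq) (ell_ne_inv h)
      · rw [hb']; exact bor_mem_center hb
    have hd := Int.natCast_dvd_natCast.2 (hkey _ hk)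
    rcases he with rfl | rfl
    · exfalso
      rcases hdmem with rfl | rfl
      · push_cast at hd; omega
      · refine hp2' ?_
        have h := dvd_sub (dvd_mul_of_dvd_right hd 2) hpq
        have e' : (2 : ℤ) * ((j + 1 : ℕ) : ℤ) - ((q : ℤ) - 1) = 2 := by push_cast; omega
        rwa [e'] at h
    · simp
  · rw [isClassFunction_iff_isConj.mp st_classFun g _ hconj]
    by_cases ha : a ^ 2 = 1
    · exfalso
      have hsplit : bor a x = bor a 0 * bor 1 ((a : F) * x) := by
        rw [bor_mul]
        have h1 : (a : F) * (a : F) = 1 := by rw [← Units.val_mul, ← sq, ha, Units.val_one]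
        congr 1
        · rw [mul_one]
        · rw [inv_one, Units.val_one, mul_one, add_zero, ← mul_assoc, h1, one_mul]
      have hk : g ^ q ∈ Subgroup.center SL2 := by
        refine hcen _ hconj ?_
        rw [hsplit, (scalar_comm a ha _).mul_pow, bor_one_pow, FiniteField.cast_card_eq_zero, zero_mul, bor_one,
          mul_one]
        exact Subgroup.pow_mem _ (bor_mem_center ha) _
      have hd := Int.natCast_dvd_natCast.2 (hkey _ hk)
      rcases hdmem with rfl | hdp
      · push_cast at hd; omega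
      · rw [hdp] at hd
        have h : (p : ℤ) ∣ e := by
          have h' := dvd_sub hd hpq
          rwa [sub_sub_cancel] at h'
        have h1 : (p : ℤ) ∣ 1 := by rcases he with rfl | rfl <;> simpa using h
        have := Int.le_of_dvd one_pos h1
        have := hp.two_le
        omega
    · rw [st_bor_ne ha]
      have hk : g ^ j ∈ Subgroup.center SL2 := by
        refine hcen _ (hconj.trans (isConj_bor_zero a ha x)) ?_
        obtain ⟨y, hy, hy0⟩ := bor_pow a (0 : F) j
        rw [hy, hy0 rfl]
        refine bor_mem_center (Units.ext ?_)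
        rw [← pow_mul, Units.val_pow_eq_pow_val, show j * 2 = q - 1 by omega, Units.val_one]
        exact FiniteField.pow_card_sub_one_eq_one _ a.ne_zero
      have hd := Int.natCast_dvd_natCast.2 (hkey _ hk)
      rcases he with rfl | rfl
      · simp
      · exfalso
        rcases hdmem with rfl | rfl
        · push_cast at hd; omega
        · refine hp2' ?_
          have h := dvd_sub hpq (dvd_mul_of_dvd_right hd 2)
          have e' : (q : ℤ) - -1 - 2 * ((j : ℕ) : ℤ) = 2 := by omega
          rwa [e'] at h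

end CfsgLib.GW.IIbFinal
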