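import Cfsg.Agent.Lib.GW.IIb.Data
import Cfsg.Agent.Lib.Coprime
import Cfsg.Agent.Lib.DihedralClasses

/-!
(IIb): first consequences.
-/

set_option autoImplicit false
set_option linter.unusedSectionVars false

namespace CfsgLib.GW

open Cfsg
open CfsgLib.BenderMax (OO)

universe u

variable {G : Type u} [Group G]

theorem conj_eq_of_comm {a b : G} (h : a * b = b * a) : a * b * a⁻¹ = b := by rw [h, mul_inv_cancel_right]

theorem comm_of_conj_eq {a b : G} (h : a * b * a⁻¹ = b) : a * b = b * a := mul_inv_eq_iff_eq_mul.mp h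

variable [Finite G]

theorem OO_map_conj (r : ℕ) (K : Subgroup G) (g : G) :
    OO r (K.map (MulAut.conj g).toMonoidHom) = (OO r K).map (MulAut.conj g).toMonoidHom := by
  have e := CfsgLib.pCore_map_equiv r (K.equivMapOfInjective (MulAut.conj g).toMonoidHom (MulAut.conj g).injective)
  rw [OO, ← e, Subgroup.map_map, OO, Subgroup.map_map]
  rfl

omit [Finite G] in
theorem centI_map_conj (t g : G) : (centI t).map (MulAut.conj g).toMonoidHom = centI (g * t * g⁻¹) := by
  ext x
  rw [Subgroup.mem_map_equiv, MulAut.conj_symm_apply, Subgroup.mem_centralizer_singleton_iff,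
    Subgroup.mem_centralizer_singleton_iff]
  constructor <;> intro h
  · calc x * (g * t * g⁻¹) = g * (g⁻¹ * x * g * t) * g⁻¹ := by group
      _ = g * (t * (g⁻¹ * x * g)) * g⁻¹ := by rw [h]
      _ = g * t * g⁻¹ * x := by group
  · calc g⁻¹ * x * g * t = g⁻¹ * (x * (g * t * g⁻¹)) * g := by group
      _ = g⁻¹ * (g * t * g⁻¹ * x) * g := by rw [h]
      _ = t * (g⁻¹ * x * g) := by group

/-- The four group generated by two commuting involutions. -/
def fourOf {a b : G} (ha : a * a = 1) (hb : b * b = 1) (hab : a * b = b * a) : Subgroup G where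
  carrier := {1, a, b, a * b}
  one_mem' := Or.inl rfl
  mul_mem' := by
    have e1 : a * (a * b) = b := by rw [← mul_assoc, ha, one_mul]
    have e2 : b * (a * b) = a := by rw [← mul_assoc, ← hab, mul_assoc, hb, mul_one]
    have e3 : a * b * a = b := by rw [hab, mul_assoc, ha, mul_one]
    have e4 : a * b * b = a := by rw [mul_assoc, hb, mul_one]
    have e5 : a * b * (a * b) = 1 := by rw [← mul_assoc, e3, hb]
    rintro x y (rfl | rfl | rfl | rfl) (rfl | rfl | rfl | rfl) <;>
      simp [ha, hb, ← hab, e1, e2, e3, e4, e5]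
  inv_mem' := by
    have ea : a⁻¹ = a := inv_eq_of_mul_eq_one_left ha
    have eb : b⁻¹ = b := inv_eq_of_mul_eq_one_left hb
    rintro x (rfl | rfl | rfl | rfl) <;> simp [ea, eb, ← hab]

theorem mem_fourOf {a b : G} (ha : a * a = 1) (hb : b * b = 1) (hab : a * b = b * a) {x : G} :
    x ∈ fourOf ha hb hab ↔ x = 1 ∨ x = a ∨ x = b ∨ x = a * b := Iff.rfl

theorem isKleinFour_fourOf {a b : G} (ha : orderOf a = 2) (hb : orderOf b = 2) (hne : a ≠ b)
    (hab : a * b = b * a) :
    IsKleinFour (fourOf (Involutions.mul_self_eq_one_of_orderOf ha) (Involutions.mul_self_eq_one_of_orderOf hb) hab) := by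
  have ha' := Involutions.mul_self_eq_one_of_orderOf ha
  have hb' := Involutions.mul_self_eq_one_of_orderOf hb
  refine DihedralFusion.isKleinFour_of_sq ?_ ?_
  · classical
    have h1 : (1 : G) ≠ a := fun e => by rw [← e, orderOf_one] at ha; omega
    have h2 : (1 : G) ≠ b := fun e => by rw [← e, orderOf_one] at hb; omega
    have h3 : a * b ≠ 1 := fun e => hne (by
      rw [← inv_eq_of_mul_eq_one_right e]; exact (inv_eq_of_mul_eq_one_left ha').symm)
    have h4 : a * b ≠ a := fun e => h2 (mul_left_cancel (e.trans (mul_one a).symm)).symm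
    have h5 : a * b ≠ b := fun e => h1 (mul_right_cancel (e.trans (one_mul b).symm)).symm
    show Nat.card ({1, a, b, a * b} : Set G) = 4
    rw [Nat.card_coe_set_eq, Set.ncard_insert_of_notMem (by simp [h1, h2, Ne.symm h3]),
      Set.ncard_insert_of_notMem (by simp [hne, Ne.symm h4]), Set.ncard_pair (Ne.symm h5)]
  · rintro ⟨x, hx⟩
    refine Subtype.ext ?_
    show x * x = 1
    rcases (mem_fourOf ha' hb' hab).mp hx with rfl | rfl | rfl | rfl
    · simp
    · exact ha'
    · exact hb'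
    · rw [mul_assoc, ← mul_assoc b, ← hab, mul_assoc a b, hb', mul_one, ha']

/-- A `p`-group normalised by a `p`-subgroup `A₀` and moved by an involution `v` centralising `A₀` contains an
element inverted by `v` and centralised by `A₀`. -/
theorem exists_inverted {p : ℕ} (hp : p.Prime) (hp2 : p ≠ 2) {A₀ U : Subgroup G} {v : G} (hA : IsPGroup p A₀)
    (hU : IsPGroup p U) (hv : orderOf v = 2) (hAv : ∀ a ∈ A₀, a * v = v * a)
    (hAU : ∀ a ∈ A₀, ∀ x ∈ U, a * x * a⁻¹ ∈ U) (hvU : ∀ x ∈ U, v * x * v⁻¹ ∈ U)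
    (hmove : ∃ x ∈ U, x * v ≠ v * x) :
    ∃ x ∈ U, x ≠ 1 ∧ (∀ a ∈ A₀, a * x = x * a) ∧ v * x * v⁻¹ = x⁻¹ := by
  haveI := Fact.mk hp
  have hv' := Involutions.mul_self_eq_one_of_orderOf hv
  by_contra hcon
  have hnone : ∀ y ∈ U, (∀ a ∈ A₀, a * y = y * a) → y * v = v * y := by
    intro y hy hcy
    by_contra hne
    refine hcon ⟨y⁻¹ * (v * y * v⁻¹), mul_mem (inv_mem hy) (hvU y hy), ?_, ?_, ?_⟩
    · intro e
      rw [inv_mul_eq_one] at e
      exact hne (mul_inv_eq_iff_eq_mul.mp e.symm).symm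
    · intro a ha
      have c1 : Commute a y := hcy a ha
      have c2 : Commute a v := hAv a ha
      exact (c1.inv_right.mul_right ((c2.mul_right c1).mul_right c2.inv_right)).eq
    · rw [inv_eq_of_mul_eq_one_left hv']
      simp only [mul_inv_rev, inv_inv, inv_eq_of_mul_eq_one_left hv']
      calc v * (y⁻¹ * (v * y * v)) * v = v * y⁻¹ * v * y * (v * v) := by group
        _ = v * y⁻¹ * v * y := by rw [hv', mul_one]
        _ = v * (y⁻¹ * v) * y := by group
  have hQcard : (Nat.card (Subgroup.zpowers v)).Coprime p := by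
    rw [Nat.card_zpowers, hv]
    exact (Nat.coprime_primes Nat.prime_two hp).mpr (Ne.symm hp2)
  have hAQ : A₀ ≤ Subgroup.centralizer (Subgroup.zpowers v : Set G) := fun a ha => by
    rw [Subgroup.mem_centralizer_iff]
    intro q hq
    obtain ⟨k, rfl⟩ := Subgroup.mem_zpowers_iff.mp hq
    exact (Commute.zpow_right (hAv a ha : Commute a v) k).symm.eq
  have hAn : A₀ ≤ Subgroup.normalizer (U : Set G) :=
    fun a ha => Subgroup.mem_normalizer_fintype fun x hx => hAU a ha x hx
  have hQn : Subgroup.zpowers v ≤ Subgroup.normalizer (U : Set G) := by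
    rw [Subgroup.zpowers_le]
    exact Subgroup.mem_normalizer_fintype hvU
  have hC : U ⊓ Subgroup.centralizer (A₀ : Set G) ≤ Subgroup.centralizer (Subgroup.zpowers v : Set G) := by
    rintro y ⟨hy, hyc⟩
    rw [Subgroup.mem_centralizer_iff]
    intro q hq
    obtain ⟨k, rfl⟩ := Subgroup.mem_zpowers_iff.mp hq
    have := hnone y hy fun a ha => Subgroup.mem_centralizer_iff.mp hyc a ha
    exact (Commute.zpow_right (this : Commute y v) k).symm.eq
  obtain ⟨x, hx, hxv⟩ := hmove
  exact hxv (Subgroup.mem_centralizer_iff.mp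
    (CfsgLib.thompson_PxQ hA hQcard hAQ U hU hAn hQn hC (Subgroup.mem_zpowers v)) x hx)

theorem two_dvd_fitting {C : Subgroup G} {t : G} (htC : t ∈ C) (ht : orderOf t = 2) (hcen : ∀ c ∈ C, c * t = t * c) :
    2 ∣ Nat.card (Cfsg.fittingSubgroup C) := by
  haveI : Fact (Nat.Prime 2) := ⟨Nat.prime_two⟩
  set t' : C := ⟨t, htC⟩
  haveI : (Subgroup.zpowers t').Normal := ⟨fun x hx g => by
    obtain ⟨k, rfl⟩ := Subgroup.mem_zpowers_iff.mp hx
    have hc : Commute g t' := Subtype.ext (hcen _ g.2)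
    rw [(hc.zpow_right k).eq, mul_inv_cancel_right]
    exact Subgroup.zpow_mem_zpowers _ _⟩
  have h2 : IsPGroup 2 (Subgroup.zpowers t') :=
    IsPGroup.of_card (n := 1) (by rw [Nat.card_zpowers, Subgroup.orderOf_mk, ht, pow_one])
  have hle : Subgroup.zpowers t' ≤ Cfsg.fittingSubgroup C :=
    (CfsgLib.le_pCore h2).trans (CfsgLib.pCore_le_fittingSubgroup Nat.prime_two)
  have := Subgroup.card_dvd_of_le hle
  rwa [Nat.card_zpowers, Subgroup.orderOf_mk, ht] at this

namespace IIb

variable {S : Sylow 2 G} {t v : G} {p : ℕ} (c : IIb S t v p)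

include c

theorem tt : t * t = 1 := Involutions.mul_self_eq_one_of_orderOf c.ht

theorem vv : v * v = 1 := Involutions.mul_self_eq_one_of_orderOf c.hv

theorem comm_tv : t * v = v * t := (c.htZ v c.hvS).symm

theorem t_mem : t ∈ centI t := Subgroup.mem_centralizer_singleton_iff.mpr rfl

theorem v_mem : v ∈ centI t := Subgroup.mem_centralizer_singleton_iff.mpr c.comm_tv.symm

theorem S_le : (S : Subgroup G) ≤ centI t := fun s hs => Subgroup.mem_centralizer_singleton_iff.mpr (c.htZ s hs)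

theorem comm_t {x : G} (hx : x ∈ centI t) : x * t = t * x := Subgroup.mem_centralizer_singleton_iff.mp hx

theorem comm_t_core {r : ℕ} {x : G} (hx : x ∈ OO r (centI t)) : x * t = t * x :=
  c.comm_t (Subgroup.map_subtype_le _ hx)

theorem na : ¬ IsMulCommutative G := c.hyp.noncomm

theorem solvable : Group.IsSolvable (centI t) := by
  haveI : Fact (Nat.Prime 2) := ⟨Nat.prime_two⟩
  obtain ⟨k, hk⟩ := oddCore_index_two_pow c.hyp.dihedral c.ht (centI t) le_rfl
  haveI hO : Group.IsSolvable (oddCore (centI t)) := CfsgLib.OddOrder.feitThompson CfsgLib.odd_card_oddCore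
  haveI hQ : Group.IsSolvable (↥(centI t) ⧸ oddCore (centI t)) :=
    BenderMax.isSolvable_of_isPGroup (r := 2) (IsPGroup.of_card hk)
  exact Group.isSolvable_of_ker_le_range (oddCore (centI t)).subtype (QuotientGroup.mk' (oddCore (centI t)))
    (by rw [QuotientGroup.ker_mk', Subgroup.range_subtype])

theorem p_dvd : p ∣ Nat.card (Cfsg.fittingSubgroup (centI t)) := by
  haveI := Fact.mk c.hp
  by_contra h
  obtain ⟨x, ⟨y, hy, rfl⟩, hx1, -⟩ := c.exists_fixed
  obtain ⟨k, hk⟩ := IsPGroup.iff_orderOf.1 (CfsgLib.isPGroup_pCore (G := centI t) p) ⟨y, hy⟩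
  rw [Subgroup.orderOf_mk] at hk
  rcases k with _ | k
  · rw [pow_zero, orderOf_eq_one_iff] at hk
    exact hx1 (by rw [hk]; rfl)
  · refine h ((dvd_pow_self p (Nat.succ_ne_zero k)).trans (hk ▸ ?_))
    exact Subgroup.orderOf_dvd_natCard _ (CfsgLib.pCore_le_fittingSubgroup c.hp hy)

theorem two_dvd : 2 ∣ Nat.card (Cfsg.fittingSubgroup (centI t)) :=
  two_dvd_fitting c.t_mem c.ht fun _ hx => c.comm_t hx

theorem tv_order : orderOf (t * v) = 2 := by
  refine orderOf_eq_prime ?_ fun e => c.hvt ?_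
  · calc (t * v) ^ 2 = t * (v * t) * v := by rw [sq]; group
      _ = t * (t * v) * v := by rw [c.comm_tv]
      _ = 1 := by rw [← mul_assoc t t v, c.tt, one_mul, c.vv]
  · rw [← inv_eq_of_mul_eq_one_right e, inv_eq_of_mul_eq_one_left c.tt]

theorem comm_tv' : t * (t * v) = t * v * t := by
  rw [← mul_assoc, c.tt, one_mul, c.comm_tv, mul_assoc, c.tt, mul_one]

/-- An element turning `(t, tv)` into `(v, t)`. -/
theorem exists_rotate : ∃ h : G, h * t * h⁻¹ = v ∧ h * (t * v) * h⁻¹ = t := by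
  have hT := isKleinFour_fourOf c.ht c.hv (Ne.symm c.hvt) c.comm_tv
  obtain ⟨g, hgN, -, -, hg⟩ := c.hyp.exists_three hT
  have htmem : t ∈ fourOf c.tt c.vv c.comm_tv := Or.inr (Or.inl rfl)
  have ht1 : t ≠ 1 := fun e => by
    have := c.ht
    rw [e, orderOf_one] at this
    omega
  obtain ⟨hne, hcyc⟩ := hg t htmem ht1
  have hgt := (Subgroup.mem_normalizer_iff.mp hgN t).mp htmem
  rcases (mem_fourOf c.tt c.vv c.comm_tv).mp hgt with e | e | e | e
  · exact absurd (conj_eq_one_iff.mp e) ht1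
  · exact absurd e hne
  · refine ⟨g, e, ?_⟩
    rw [e] at hcyc
    calc g * (t * v) * g⁻¹ = g * t * g⁻¹ * (g * v * g⁻¹) := by group
      _ = v * (t * v) := by rw [e, hcyc]
      _ = t := by rw [← mul_assoc, ← c.comm_tv, mul_assoc, c.vv, mul_one]
  · rw [e] at hcyc
    have e2 : g * (t * v) * g⁻¹ = v := by rw [hcyc, ← mul_assoc, c.tt, one_mul]
    have e3 : g * v * g⁻¹ = t := by
      calc g * v * g⁻¹ = g * (t * (t * v)) * g⁻¹ := by rw [← mul_assoc t t v, c.tt, one_mul]
        _ = g * t * g⁻¹ * (g * (t * v) * g⁻¹) := by group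
        _ = t * v * v := by rw [e, e2]
        _ = t := by rw [mul_assoc, c.vv, mul_one]
    refine ⟨g * g, ?_, ?_⟩
    · rw [show g * g * t * (g * g)⁻¹ = g * (g * t * g⁻¹) * g⁻¹ by group, e, e2]
    · rw [show g * g * (t * v) * (g * g)⁻¹ = g * (g * (t * v) * g⁻¹) * g⁻¹ by group, e2, e3]

theorem tv_moves : ∃ x ∈ OO p (centI t), x * (t * v) ≠ t * v * x := by
  obtain ⟨x, hx, hne⟩ := c.exists_moved
  refine ⟨x, hx, fun e => hne ?_⟩
  have hxt := c.comm_t_core hx
  have e1 : x * (t * (t * v)) = t * (t * v) * x := by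
    rw [← mul_assoc, hxt, mul_assoc t x, e, ← mul_assoc]
  rwa [← mul_assoc t t v, c.tt, one_mul] at e1

/-- `t` moves `O_p(C(v))`. -/
theorem t_moves : ∃ x ∈ OO p (centI v), x * t ≠ t * x := by
  obtain ⟨h, h1, h2⟩ := c.exists_rotate
  obtain ⟨x, hx, hne⟩ := c.tv_moves
  refine ⟨h * x * h⁻¹, ?_, fun e => hne ?_⟩
  · rw [← h1, ← centI_map_conj, OO_map_conj]
    exact ⟨x, hx, rfl⟩
  · rw [← h2] at e
    calc x * (t * v) = h⁻¹ * (h * x * h⁻¹ * (h * (t * v) * h⁻¹)) * h := by group
      _ = h⁻¹ * (h * (t * v) * h⁻¹ * (h * x * h⁻¹)) * h := by rw [e]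
      _ = t * v * x := by group

/-- `C(v)` is maximal, too. -/
theorem maximal_v : IsCoatom (centI v) := by
  obtain ⟨h, h1, -⟩ := c.exists_rotate
  rw [← h1, ← centI_map_conj]
  exact ((MulAut.conj h).mapSubgroup).isCoatom_iff _ |>.mpr c.maximal

end IIb

end CfsgLib.GW
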