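import Cfsg.Agent.Lib.GW.IIb.LocalFit

/-!
(IIb) the component of `H`, as a subgroup of `G`; every perfect subgroup of `H` lies in it.
-/

set_option autoImplicit false
set_option linter.unusedSectionVars false

namespace CfsgLib.GW

open Cfsg
open CfsgLib.BenderMax (OO)

universe u

variable {G : Type u} [Group G] [Finite G]

/-- A component `L` of the proper subgroup `H`. -/
structure CompData (H L : Subgroup G) : Prop where
  le : L ≤ H
  perfect : Group.IsPerfect L
  norm : H ≤ Subgroup.normalizer (L : Set G)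
  ne : L ≠ ⊥
  W_odd : Odd (Nat.card (H ⊓ Subgroup.centralizer (L : Set G) : Subgroup G))
  comp : Cfsg.IsComponent (L.subgroupOf H)
  perfect_le : ∀ K : Subgroup G, K ≤ H → Group.IsPerfect K → K ≤ L

omit [Finite G] in
theorem isPerfect_subgroupOf {K H : Subgroup G} (hKH : K ≤ H) [hK : Group.IsPerfect K] :
    Group.IsPerfect (K.subgroupOf H) :=
  Group.IsPerfect.ofSurjective (f := (Subgroup.subgroupOfEquivOfLe hKH).symm.toMonoidHom)
    (Subgroup.subgroupOfEquivOfLe hKH).symm.surjective

/-- In a proper subgroup with a component, every perfect subgroup lies in the component. -/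
theorem GWHyp.perfect_le_component (h : GWHyp G) (H : Subgroup G) (hH : H ≠ ⊤) {L : Subgroup H}
    (hL : Cfsg.IsComponent L) (K : Subgroup H) [Group.IsPerfect K] : K ≤ L := by
  obtain ⟨-, hLd, -, hcore, hn, hodd, -⟩ := h.component H hH hL
  haveI := hn
  haveI : Group.IsPerfect L := hL.2.1
  have hns : ¬ Group.IsSolvable H := fun hs => by
    haveI := hs
    exact CfsgLib.isQuasisimple_not_isSolvable hL.2 inferInstance
  obtain ⟨-, E, hEn, -, hEs, -, hEall⟩ := h.proper_shape H hH hns
  haveI := hEn
  haveI := hEs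
  set qm := QuotientGroup.mk' (oddCore H)
  haveI : Group.IsPerfect (K.map qm) := Group.IsPerfect.map qm
  haveI : Group.IsPerfect (L.map qm) := Group.IsPerfect.map qm
  have hKE : K.map qm ≤ E := hEall _ inferInstance
  have hLE : L.map qm ≤ E := hEall _ inferInstance
  haveI : (L.map qm).Normal := hn.map qm (QuotientGroup.mk'_surjective _)
  have hLeq : L.map qm = E := by
    rcases (inferInstance : ((L.map qm).subgroupOf E).Normal).eq_bot_or_eq_top with e | e
    · exfalso
      rw [Subgroup.subgroupOf_eq_bot, disjoint_iff, inf_eq_left.mpr hLE, Subgroup.map_eq_bot_iff,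
        QuotientGroup.ker_mk'] at e
      exact hLd.not_odd (CfsgLib.odd_card_oddCore.of_dvd_nat (Subgroup.card_dvd_of_le e))
    · exact le_antisymm hLE (Subgroup.subgroupOf_eq_top.mp e)
  have hsup : K ≤ L ⊔ oddCore H := by
    have h1 : K ≤ (L.map qm).comap qm := fun k hk => hLeq.symm.le (hKE ⟨k, hk, rfl⟩)
    rwa [Subgroup.comap_map_eq, QuotientGroup.ker_mk'] at h1
  set pl := QuotientGroup.mk' L
  set Y := (oddCore H).map pl
  have hmem : ∀ k : K, pl k ∈ Y := fun k => by
    obtain ⟨l, hl, o, ho, e⟩ := Subgroup.mem_sup_of_normal_left.mp (hsup k.2)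
    refine ⟨o, ho, ?_⟩
    rw [← e, map_mul, show pl l = 1 from (QuotientGroup.eq_one_iff l).mpr hl, one_mul]
  intro k hk
  have h1 := map_eq_one_of_odd (CfsgLib.odd_card_oddCore.of_dvd_nat (Subgroup.card_map_dvd _ pl))
    ((pl.comp K.subtype).codRestrict Y hmem) ⟨k, hk⟩
  exact (QuotientGroup.eq_one_iff k).mp (congrArg Subtype.val h1)

/-- The data of a component of `H` in `G`. -/
theorem GWHyp.compData (h : GWHyp G) (H : Subgroup G) (hH : H ≠ ⊤) {L : Subgroup H} (hL : Cfsg.IsComponent L) :
    CompData H (L.map H.subtype) := by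
  obtain ⟨-, hLd, -, hcore, hn, hodd, -⟩ := h.component H hH hL
  haveI := hn
  haveI : Group.IsPerfect L := hL.2.1
  have hback : (L.map H.subtype).subgroupOf H = L :=
    Subgroup.comap_map_eq_self_of_injective H.subtype_injective L
  refine ⟨Subgroup.map_subtype_le L, Group.IsPerfect.map H.subtype, ?_, ?_, ?_, hback.symm ▸ hL, ?_⟩
  · intro g hg
    refine Subgroup.mem_normalizer_fintype fun x hx => ?_
    obtain ⟨l, hl, rfl⟩ := hx
    exact ⟨⟨g, hg⟩ * l * ⟨g, hg⟩⁻¹, hn.conj_mem l hl ⟨g, hg⟩, rfl⟩
  · intro e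
    exact CfsgLib.isComponent_ne_bot hL ((Subgroup.map_eq_bot_iff_of_injective _ H.subtype_injective).mp e)
  · refine hodd.of_dvd_nat ?_
    rw [← Nat.card_congr (Subgroup.subgroupOfEquivOfLe inf_le_left).toEquiv]
    refine Subgroup.card_dvd_of_le fun x hx => Subgroup.mem_centralizer_iff.mpr fun l hl => Subtype.ext ?_
    exact Subgroup.mem_centralizer_iff.mp hx.2 (l : G) ⟨l, hl, rfl⟩
  · intro K hK hKp
    haveI := hKp
    haveI := isPerfect_subgroupOf hK
    intro k hk
    exact ⟨⟨k, hK hk⟩, h.perfect_le_component H hH hL (K.subgroupOf H) hk, rfl⟩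

namespace CompData

variable {H L : Subgroup G} (d : CompData H L)

include d

theorem conj_mem {g x : G} (hg : g ∈ H) (hx : x ∈ L) : g * x * g⁻¹ ∈ L :=
  (Subgroup.mem_normalizer_iff.mp (d.norm hg) x).mp hx

/-- `H` is the normaliser of its component. -/
theorem normalizer_eq (h : GWHyp G) (hH : IsCoatom H) : Subgroup.normalizer (L : Set G) = H := by
  haveI := h.simple
  rcases eq_or_lt_of_le d.norm with e | e
  · exact e.symm
  exfalso
  haveI : L.Normal := Subgroup.normalizer_eq_top_iff.1 (hH.2 _ e)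
  rcases (inferInstance : L.Normal).eq_bot_or_eq_top with e' | e'
  · exact d.ne e'
  · exact hH.1 (top_le_iff.mp (e' ▸ d.le))

/-- Maximal subgroups with the same component coincide. -/
theorem eq_of_le {H' L' : Subgroup G} (d' : CompData H' L') (h : GWHyp G) (hH : IsCoatom H) (hH' : IsCoatom H')
    (h1 : L ≤ H') (h2 : L' ≤ H) : L' = L ∧ H' = H := by
  have e : L' = L := le_antisymm (d.perfect_le L' h2 d'.perfect) (d'.perfect_le L h1 d.perfect)
  refine ⟨e, ?_⟩
  rw [← d'.normalizer_eq h hH', e, d.normalizer_eq h hH]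

theorem not_le_solvable {C : Subgroup G} (hC : Group.IsSolvable C) : ¬ L ≤ C := by
  intro hle
  haveI := hC
  haveI : Group.IsSolvable L :=
    Group.isSolvable_of_isSolvable_injective (f := Subgroup.inclusion hle) (Subgroup.inclusion_injective hle)
  haveI := d.perfect
  haveI : Nontrivial L := (Subgroup.nontrivial_iff_ne_bot L).mpr d.ne
  exact Group.IsPerfect.not_isSolvable L inferInstance

end CompData

namespace Over

variable {S : Sylow 2 G} {t v : G} {p : ℕ} {A₀ H : Subgroup G} (o : Over t v p A₀ H) (c : IIb S t v p)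

include o c

theorem exists_compData : ∃ L : Subgroup G, CompData H L := by
  obtain ⟨L, hL⟩ := o.exists_component c
  exact ⟨_, c.hyp.compData H o.ne_top hL⟩

end Over

end CfsgLib.GW
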