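import Mathlib.GroupTheory.GroupAction.Basic
import Mathlib.GroupTheory.Index
import Mathlib.Tactic.Group

/-!
Counting fixed points in orbits.
-/

set_option autoImplicit false

namespace CfsgLib.GW.IIbFinal

variable {L Ω : Type*} [Group L] [Finite L] [MulAction L Ω] [Finite Ω]

/-- If `t` is the only conjugate of `t` fixing each point of `F`, the translates of `F` are
disjoint, one for each conjugate of `t`. -/
theorem fixed_bound (t : L) (F : Set Ω) (hfix : ∀ ω ∈ F, t • ω = ω)
    (huniq : ∀ ω ∈ F, ∀ l : L, (l * t * l⁻¹) • ω = ω → l * t * l⁻¹ = t)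
    (base : Ω) (hbase : ∀ l : L, l • base = base) (hF : base ∉ F) :
    Nat.card F * (Subgroup.centralizer ({t} : Set L)).index < Nat.card Ω := by
  classical
  let f : F × (L ⧸ Subgroup.centralizer ({t} : Set L)) → {ω : Ω // ω ≠ base} := fun x =>
    ⟨x.2.out • (x.1 : Ω), fun e => hF (by
      have e' := congrArg (x.2.out⁻¹ • ·) e
      simp only [inv_smul_smul, hbase] at e'
      exact e' ▸ x.1.2)⟩
  have hinj : Function.Injective f := by
    rintro ⟨⟨ω, hω⟩, a⟩ ⟨⟨ω', hω'⟩, b⟩ e
    have e' : a.out • ω = b.out • ω' := congrArg Subtype.val e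
    have hω'' : (b.out⁻¹ * a.out) • ω = ω' := by rw [mul_smul, e', inv_smul_smul]
    have hc : b.out⁻¹ * a.out * t * (b.out⁻¹ * a.out)⁻¹ = t := by
      refine huniq ω' hω' _ ?_
      calc (b.out⁻¹ * a.out * t * (b.out⁻¹ * a.out)⁻¹) • ω'
          = (b.out⁻¹ * a.out) • t • ω := by
            rw [← hω'']
            simp only [← mul_smul]
            congr 1
            group
        _ = ω' := by rw [hfix ω hω, hω'']
    have hab : a = b := by
      rw [← a.out_eq', ← b.out_eq']
      refine (QuotientGroup.eq.2 ?_).symm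
      exact Subgroup.mem_centralizer_singleton_iff.2 (mul_inv_eq_iff_eq_mul.1 hc)
    subst hab
    rw [inv_mul_cancel, one_smul] at hω''
    subst hω''
    rfl
  have h := Nat.card_le_card_of_injective f hinj
  rw [Nat.card_prod, ← Subgroup.index_eq_card] at h
  refine h.trans_lt ?_
  haveI : Fintype Ω := Fintype.ofFinite Ω
  rw [Nat.card_eq_fintype_card, Nat.card_eq_fintype_card]
  exact Fintype.card_subtype_lt (x := base) (by simp)

end CfsgLib.GW.IIbFinal
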