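import Cfsg.Agent.Lib.GW.Model.Pgl
import Cfsg.Agent.Lib.StSL.Two
import Cfsg.Agent.Lib.CTwoAbelian.PSLTwo
import Cfsg.Agent.Lib.SLCard

/-!
A perfect group over `PSL₂(q)` with centre of odd order has trivial centre.
-/

set_option autoImplicit false
set_option linter.unusedSectionVars false

namespace CfsgLib.GW.IIbPsl

open Matrix

variable {F : Type} [Field F] [Fintype F]

local notation "SL" => Matrix.SpecialLinearGroup (Fin 2) F
local notation "PSL" => Matrix.ProjectiveSpecialLinearGroup (Fin 2) F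
local notation "q" => Fintype.card F

/-- A perfect group with centre of odd order over `PSL₂(q)`, `q ≥ 10`, has trivial centre. -/
theorem center_eq_bot_of_model {K : Type*} [Group K] [Finite K] [Group.IsPerfect K]
    (hZ : Odd (Nat.card (Subgroup.center K))) (h10 : 10 ≤ q) (e : K ⧸ Subgroup.center K ≃* PSL) :
    Subgroup.center K = ⊥ := by
  classical
  set π : SL →* PSL := QuotientGroup.mk' (Subgroup.center SL)
  set σ : K →* PSL := e.toMonoidHom.comp (QuotientGroup.mk' (Subgroup.center K))
  have hσk : σ.ker = Subgroup.center K := by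
    ext x
    rw [MonoidHom.mem_ker, MonoidHom.comp_apply, MulEquiv.coe_toMonoidHom, EmbeddingLike.map_eq_one_iff,
      QuotientGroup.mk'_apply, QuotientGroup.eq_one_iff]
  obtain ⟨f, hf, hcomp⟩ := CfsgLib.CTwoAbelian.exists_cover (CfsgLib.StSL.perfect_SL2 (F := F) (by omega))
    (CfsgLib.StSL.trivial_of_split (CfsgLib.StSL.splitG_SL2 (F := F) (by omega) (by omega)))
    (π := π) (QuotientGroup.mk'_surjective _) (by rw [QuotientGroup.ker_mk'])
    (σ := σ) Group.IsPerfect.commutator_eq_top (e.surjective.comp (QuotientGroup.mk'_surjective _)) hσk.le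
  have hle : Subgroup.center K ≤ (Subgroup.center SL).map f := fun k hk => by
    obtain ⟨s, rfl⟩ := hf k
    refine ⟨s, ?_, rfl⟩
    have h1 : σ (f s) = 1 := by rw [← MonoidHom.mem_ker, hσk]; exact hk
    rw [← MonoidHom.comp_apply, hcomp] at h1
    exact (QuotientGroup.eq_one_iff s).mp h1
  have h2 : Nat.card (Subgroup.center SL) ≤ 2 := by
    rw [CfsgLib.SLCard.card_SL_center (by omega)]
    exact Nat.le_of_dvd two_pos (Nat.gcd_dvd_left _ _)
  have h3 : Nat.card (Subgroup.center K) ≤ 2 :=
    (Subgroup.card_le_of_le hle).trans ((Nat.le_of_dvd Nat.card_pos (Subgroup.card_map_dvd _ f)).trans h2)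
  refine Subgroup.eq_bot_of_card_le _ ?_
  obtain ⟨j, hj⟩ := hZ
  omega

end CfsgLib.GW.IIbPsl
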