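import Cfsg.Agent.Lib.GW.Hyp
import Cfsg.Agent.Lib.BenderMax.LeadsTo

/-!
The configuration (IIb) of the Gorenstein–Walter theorem: `C(t)` is maximal and a reflection `v` neither centralises
nor inverts `P = O_p(C(t))`.

* `IIb`: the configuration itself.
* `IIbData`: what the local analysis (steps 1-5 of the blueprint `gw/IIb_detail.md`) makes of it.  It is produced by
  `Lib/GW/IIb/Local*` and consumed by `Lib/GW/IIb/Final*` and `Lib/GW/IIb/Four*`.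
-/

set_option autoImplicit false
set_option linter.unusedSectionVars false

namespace CfsgLib.GW

open Cfsg
open CfsgLib.BenderMax (OO)

universe u

variable {G : Type u} [Group G] [Finite G]

/-- `C(t)`. -/
abbrev centI (t : G) : Subgroup G := Subgroup.centralizer ({t} : Set G)

/-- The configuration (IIb): `v` neither centralises nor inverts `O_p(C(t))`. -/
structure IIb (S : Sylow 2 G) (t v : G) (p : ℕ) : Prop where
  hyp : GWHyp G
  ht : orderOf t = 2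
  htS : t ∈ (S : Subgroup G)
  htZ : ∀ s ∈ (S : Subgroup G), s * t = t * s
  hv : orderOf v = 2
  hvS : v ∈ (S : Subgroup G)
  hvt : v ≠ t
  maximal : IsCoatom (centI t)
  hp : p.Prime
  hp2 : p ≠ 2
  exists_fixed : ∃ x ∈ OO p (centI t), x ≠ 1 ∧ x * v = v * x
  exists_moved : ∃ x ∈ OO p (centI t), x * v ≠ v * x

/-- The result of the local analysis of (IIb).  `C` is `centI t`, `O_r(C)` is `OO r (centI t)`. -/
structure IIbData (G : Type u) [Group G] [Finite G] where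
  S : Sylow 2 G
  t : G
  v : G
  p : ℕ
  conf : IIb S t v p
  /-- the maximal subgroup over the normaliser of `A = C_P(v)`, its component and `W = C_H(L)` -/
  H : Subgroup G
  L : Subgroup G
  W : Subgroup G
  A : Subgroup G
  /-- `Q r`: the part of `O_r(C) ∩ H` inverted by `v`; it lies in `L` -/
  Q : ℕ → Subgroup G
  F : Type
  [fieldF : Field F]
  [fintypeF : Fintype F]
  e : ℤ
  -- the maximal subgroup
  H_max : IsCoatom H
  H_ne : H ≠ centI t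
  A_eq : A = OO p (centI t) ⊓ Subgroup.centralizer ({v} : Set G)
  A_ne : A ≠ ⊥
  A_le_W : A ≤ W
  A_cyclic : IsCyclic A
  normalizer_le : ∀ A₀ : Subgroup G, A₀ ≤ A → A₀ ≠ ⊥ → Subgroup.normalizer (A₀ : Set G) ≤ H
  meet_conj : ∀ x ∈ centI t, x ∉ H → ∀ a ∈ A, x * a * x⁻¹ ∈ A → a = 1
  mem_H_iff : ∀ x ∈ centI t, x ∈ H ↔ x ∈ Subgroup.normalizer (A : Set G)
  -- the component
  L_le : L ≤ H
  L_perfect : Group.IsPerfect L
  L_normal : H ≤ Subgroup.normalizer (L : Set G)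
  t_mem : t ∈ L
  v_mem : v ∈ L
  W_eq : W = H ⊓ Subgroup.centralizer (L : Set G)
  W_odd : Odd (Nat.card W)
  he : e = 1 ∨ e = -1
  hq : 11 ≤ Fintype.card F
  hq4 : (4 : ℤ) ∣ (Fintype.card F : ℤ) - e
  model : Nonempty (↥L ⧸ Subgroup.center L ≃* Matrix.ProjectiveSpecialLinearGroup (Fin 2) F)
  -- the odd part of the Fitting subgroup of `C`
  core_le : ∀ r : ℕ, r.Prime → r ≠ 2 → r ≠ p → OO r (centI t) ≤ H
  core_W : ∀ r : ℕ, r.Prime → r ≠ 2 →
    OO r (centI t) ⊓ W = OO r (centI t) ⊓ H ⊓ Subgroup.centralizer ({v} : Set G)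
  core_W_cyclic : ∀ r : ℕ, r.Prime → r ≠ 2 → IsCyclic ↥(OO r (centI t) ⊓ W)
  core_split : ∀ r : ℕ, r.Prime → r ≠ 2 → OO r (centI t) ⊓ H = (OO r (centI t) ⊓ W) ⊔ Q r
  core_comm : ∀ r : ℕ, r.Prime → r ≠ 2 →
    ∀ x ∈ OO r (centI t) ⊓ H, ∀ y ∈ OO r (centI t) ⊓ H, x * y = y * x
  core_mixed : ∀ r : ℕ, r.Prime → r ≠ 2 → r ≠ p → OO r (centI t) ⊓ W ≠ ⊥ → OO p (centI t) ≤ H
  Q_le : ∀ r : ℕ, r.Prime → r ≠ 2 → Q r ≤ OO r (centI t) ⊓ L
  Q_meet : ∀ r : ℕ, r.Prime → r ≠ 2 → Q r ⊓ W = ⊥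
  Q_cyclic : ∀ r : ℕ, r.Prime → r ≠ 2 → IsCyclic (Q r)
  Q_ne : ∀ r : ℕ, r.Prime → r ≠ 2 → OO r (centI t) ≠ ⊥ → Q r ≠ ⊥
  Q_dvd : ∀ r : ℕ, r.Prime → r ≠ 2 → (Nat.card (Q r) : ℤ) ∣ (Fintype.card F : ℤ) - e
  /-- every reflection of `H` at `t` inverts every `Q r` -/
  refl_inv : ∀ r : ℕ, r.Prime → r ≠ 2 →
    ∀ w ∈ H, orderOf w = 2 → w * t = t * w → w ≠ t → ∀ x ∈ Q r, w * x * w⁻¹ = x⁻¹
  /-- the choice of `v` and the structure of a non-abelian `P = O_p(C)` -/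
  nonab : ¬ OO p (centI t) ≤ H →
    ∃ a z : G, a ∈ A ∧ orderOf a = p ∧ z ∈ Q p ∧ orderOf z = p ∧
      (∀ y ∈ OO p (centI t), y * z = z * y) ∧
      (∀ y ∈ OO p (centI t), y * a * y⁻¹ * a⁻¹ ∈ Subgroup.zpowers z) ∧
      (∀ y ∈ OO p (centI t), (∀ u ∈ OO p (centI t), u * y = y * u) → y ∈ Q p) ∧
      Nat.card (OO p (centI t)) = p * Nat.card ↥(OO p (centI t) ⊓ H) ∧
      (centI t ≤ Subgroup.normalizer ((Subgroup.zpowers a ⊔ Subgroup.zpowers z : Subgroup G) : Set G) ∨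
        (Nat.card A = p ∧ (∀ y ∈ Q p, ∀ u ∈ OO p (centI t), u * y = y * u) ∧
          Nat.card (OO p (centI t)) = p ^ 2 * Nat.card (Q p)))

attribute [instance] IIbData.fieldF IIbData.fintypeF

/-- `q`. -/
abbrev IIbData.q {G : Type u} [Group G] [Finite G] (D : IIbData G) : ℕ := Fintype.card D.F

end CfsgLib.GW
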