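import Cfsg.Agent.Lib.GW.IIb.LocalBasic
import Cfsg.Agent.Lib.GW.IIb.Cover
import Cfsg.Agent.Lib.GW.Model.Psl
import Cfsg.Agent.Lib.DicksonFull.Solvabilizer

/-!
(IIb), endgame: `L` is `PSL₂(q)`.

* `IIbData.center_L`, `IIbData.psl`;
* `IIbData.card_L_centI`, `IIbData.four_L`, `IIbData.unique_L`: involution centralisers in `L`;
* `IIbData.card_refl`: the number of reflections of `L` at an involution.
-/

set_option autoImplicit false
set_option linter.unusedSectionVars false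
set_option linter.style.haveILetI false

namespace CfsgLib.GW.IIbData

open Cfsg
open CfsgLib.BenderMax (OO)
open CfsgLib.PSL2Max (phi phi_injective)
open scoped MatrixGroups

universe u

variable {G : Type u} [Group G] [Finite G] (D : IIbData G)

local notation "PSL" => Matrix.ProjectiveSpecialLinearGroup (Fin 2) D.F

include D in
theorem hyp : GWHyp G := D.conf.hyp

theorem H_ne_top : D.H ≠ ⊤ := D.H_max.1

theorem odd_q : Odd D.q := by
  have := D.hq4
  rw [Nat.odd_iff]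
  rcases D.he with e | e <;> rw [e] at this <;> unfold IIbData.q <;> omega

theorem three_lt_q : 3 < D.q := lt_of_lt_of_le (by norm_num) D.hq

theorem conj_L {h l : G} (hh : h ∈ D.H) (hl : l ∈ D.L) : h * l * h⁻¹ ∈ D.L :=
  (Subgroup.mem_normalizer_iff.mp (D.L_normal hh) l).mp hl

theorem W_le : D.W ≤ D.H := by rw [D.W_eq]; exact inf_le_left

theorem comm_W {w l : G} (hw : w ∈ D.W) (hl : l ∈ D.L) : l * w = w * l := by
  rw [D.W_eq] at hw
  exact Subgroup.mem_centralizer_iff.mp hw.2 l hl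

theorem center_L : Subgroup.center ↥D.L = ⊥ := by
  haveI := D.L_perfect
  obtain ⟨e⟩ := D.model
  refine IIbPsl.center_eq_bot_of_model (D.W_odd.of_dvd_nat ?_) (le_trans (by norm_num) D.hq) e
  have hmem : ∀ z : Subgroup.center ↥D.L, ((z : D.L) : G) ∈ D.W := fun z => by
    rw [D.W_eq]
    exact ⟨D.L_le z.1.2, Subgroup.mem_centralizer_iff.mpr fun l hl =>
      congrArg Subtype.val (Subgroup.mem_center_iff.mp z.2 ⟨l, hl⟩)⟩
  exact Subgroup.card_dvd_of_injective ((D.L.subtype.comp (Subgroup.center ↥D.L).subtype).codRestrict D.W hmem)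
    fun a b h => Subtype.ext (Subtype.ext (congrArg (fun w : D.W => (w : G)) h))

/-- `L ≅ PSL₂(q)`. -/
noncomputable def psl : ↥D.L ≃* PSL :=
  (QuotientGroup.quotientBot.symm.trans (QuotientGroup.quotientMulEquivOfEq D.center_L.symm)).trans D.model.some

theorem L_meet_W : D.L ⊓ D.W = ⊥ := by
  rw [Subgroup.eq_bot_iff_forall]
  rintro x ⟨hl, hw⟩
  have h : (⟨x, hl⟩ : D.L) ∈ (⊥ : Subgroup ↥D.L) :=
    D.center_L ▸ Subgroup.mem_center_iff.mpr fun l => Subtype.ext (D.comm_W hw l.2)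
  exact congrArg Subtype.val (Subgroup.mem_bot.mp h)

theorem psl_invol {x : G} (hx : x ∈ D.L) (h2 : x * x = 1) (h1 : x ≠ 1) :
    D.psl ⟨x, hx⟩ * D.psl ⟨x, hx⟩ = 1 ∧ D.psl ⟨x, hx⟩ ≠ 1 :=
  ⟨by rw [← map_mul, show (⟨x, hx⟩ : D.L) * ⟨x, hx⟩ = 1 from Subtype.ext h2, map_one],
    fun e => h1 (congrArg Subtype.val (D.psl.injective (e.trans (map_one _).symm)))⟩

theorem psl_comm {a b : G} (ha : a ∈ D.L) (hb : b ∈ D.L) (h : a * b = b * a) :
    D.psl ⟨a, ha⟩ * D.psl ⟨b, hb⟩ = D.psl ⟨b, hb⟩ * D.psl ⟨a, ha⟩ := by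
  rw [← map_mul, ← map_mul]; exact congrArg _ (Subtype.ext h)

theorem card_L : Nat.card D.L * 2 = D.q * (D.q ^ 2 - 1) := by
  rw [Nat.card_congr D.psl.toEquiv, mul_comm]
  have := CfsgLib.DicksonFull.card_psl (F := D.F)
  have hg : Nat.gcd 2 (D.q - 1) = 2 := Nat.gcd_eq_left (by have := Nat.odd_iff.mp D.odd_q; omega)
  rw [hg] at this
  exact this

theorem card_L_centI {x : G} (hx : x ∈ D.L) (h2 : x * x = 1) (h1 : x ≠ 1) :
    (Nat.card ↥(D.L ⊓ centI x) : ℤ) = (D.q : ℤ) - D.e := by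
  obtain ⟨hy2, hy1⟩ := D.psl_invol hx h2 h1
  rw [← Model.psl_card_centralizer D.odd_q D.three_lt_q D.he D.hq4 hy2 hy1]
  congr 1
  let e : ↥(D.L ⊓ centI x) ≃ ↥(Subgroup.centralizer ({D.psl ⟨x, hx⟩} : Set PSL)) :=
    { toFun := fun l => ⟨D.psl ⟨l.1, l.2.1⟩, Subgroup.mem_centralizer_singleton_iff.mpr
        (D.psl_comm l.2.1 hx (Subgroup.mem_centralizer_singleton_iff.mp l.2.2))⟩
      invFun := fun m => ⟨(D.psl.symm m.1 : D.L), (D.psl.symm m.1).2,
        Subgroup.mem_centralizer_singleton_iff.mpr (by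
          have h := congrArg D.psl.symm (Subgroup.mem_centralizer_singleton_iff.mp m.2)
          rw [map_mul, map_mul, MulEquiv.symm_apply_apply] at h
          exact congrArg Subtype.val h)⟩
      left_inv := fun l => Subtype.ext (by simp)
      right_inv := fun m => Subtype.ext (by simp) }
  exact Nat.card_congr e

theorem four_L {x y l : G} (hx : x ∈ D.L) (hy : y ∈ D.L) (hl : l ∈ D.L) (hx2 : x * x = 1) (hx1 : x ≠ 1)
    (hy2 : y * y = 1) (hy1 : y ≠ 1) (hne : y ≠ x) (hxy : y * x = x * y) (hlx : l * x = x * l)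
    (hly : l * y = y * l) : l = 1 ∨ l = x ∨ l = y ∨ l = x * y := by
  obtain ⟨a2, a1⟩ := D.psl_invol hx hx2 hx1
  obtain ⟨b2, b1⟩ := D.psl_invol hy hy2 hy1
  have inj : ∀ {a b : D.L}, D.psl a = D.psl b → (a : G) = b := fun h => congrArg Subtype.val (D.psl.injective h)
  rcases Model.psl_centralizer_pair D.odd_q D.three_lt_q a2 a1 b2 b1
    (fun e => hne (inj (a := ⟨y, hy⟩) (b := ⟨x, hx⟩) e)) (D.psl_comm hy hx hxy) (z := D.psl ⟨l, hl⟩)
    (D.psl_comm hl hx hlx) (D.psl_comm hl hy hly) with e | e | e | e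
  · exact Or.inl (inj (a := ⟨l, hl⟩) (b := 1) (e.trans (map_one _).symm))
  · exact Or.inr (Or.inl (inj (a := ⟨l, hl⟩) (b := ⟨x, hx⟩) e))
  · exact Or.inr (Or.inr (Or.inl (inj (a := ⟨l, hl⟩) (b := ⟨y, hy⟩) e)))
  · exact Or.inr (Or.inr (Or.inr (inj (a := ⟨l, hl⟩) (b := ⟨x, hx⟩ * ⟨y, hy⟩) (e.trans (map_mul _ _ _).symm))))

theorem unique_L {x y z : G} (hx : x ∈ D.L) (hy : y ∈ D.L) (hz : z ∈ D.L) (hx2 : x * x = 1) (hx1 : x ≠ 1)
    (hy2 : y * y = 1) (hy1 : y ≠ 1) (hz1 : z ≠ 1) (hzo : Odd (orderOf z)) (hzx : z * x = x * z)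
    (hzy : z * y = y * z) : y = x := by
  obtain ⟨a2, a1⟩ := D.psl_invol hx hx2 hx1
  obtain ⟨b2, b1⟩ := D.psl_invol hy hy2 hy1
  have h := (Model.psl_centralizer_odd D.odd_q D.three_lt_q a2 a1 (z := D.psl ⟨z, hz⟩)
    (fun e => hz1 (congrArg Subtype.val (D.psl.injective (e.trans (map_one _).symm))))
    (by rw [MulEquiv.orderOf_eq, ← Subgroup.orderOf_coe]; exact hzo) (D.psl_comm hz hx hzx)).2
    (D.psl ⟨y, hy⟩) (Subgroup.mem_centralizer_singleton_iff.mpr (D.psl_comm hy hz hzy.symm)) b2 b1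
  exact congrArg Subtype.val (D.psl.injective h)

/-- At most `(q - e) / 2` involutions of `L` other than `x` centralise `x`. -/
theorem card_refl {x : G} (hx : x ∈ D.L) (h2 : x * x = 1) (h1 : x ≠ 1) :
    2 * (Nat.card {w : D.L // (w : G) * w = 1 ∧ (w : G) ≠ 1 ∧ (w : G) ≠ x ∧ (w : G) * x = x * (w : G)} : ℤ) ≤
      (D.q : ℤ) - D.e := by
  classical
  obtain ⟨a2, a1⟩ := D.psl_invol hx h2 h1
  set a := D.psl ⟨x, hx⟩
  haveI : Finite (Matrix.ProjGenLinGroup (Fin 2) D.F) :=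
    Finite.of_surjective _ Matrix.ProjGenLinGroup.mk_surjective
  obtain ⟨hp2, hp1⟩ := Model.phi_invol a2 a1
  obtain ⟨U, hUc, -, hxU, hUC, -, -, hUP, hCP, -, -⟩ := Model.invol_cent D.odd_q D.three_lt_q hp2 hp1
  have hin : phi a ∈ (phi (F := D.F)).range := ⟨a, rfl⟩
  rw [Model.torusOrder, if_pos hin] at hUP hCP
  set P := {w : D.L // (w : G) * w = 1 ∧ (w : G) ≠ 1 ∧ (w : G) ≠ x ∧ (w : G) * x = x * (w : G)}
  haveI := hUc
  haveI : Finite U := Subtype.finite
  have hnot : ∀ w : P, D.psl w.1 ∉ U.comap (phi (F := D.F)) := by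
    rintro ⟨w, w2, w1, wx, w3⟩ hw
    obtain ⟨b2, b1⟩ := D.psl_invol w.2 w2 w1
    haveI := Fintype.ofFinite U
    have hsub : ({1, ⟨phi a, hxU⟩, ⟨phi (D.psl w), hw⟩} : Finset U) ⊆ Finset.univ.filter fun c : U => c ^ 2 = 1 := by
      intro c hc
      simp only [Finset.mem_insert, Finset.mem_singleton] at hc
      rw [Finset.mem_filter, sq]
      refine ⟨Finset.mem_univ _, ?_⟩
      rcases hc with rfl | rfl | rfl
      · exact mul_one _
      · exact Subtype.ext hp2
      · exact Subtype.ext (show phi (D.psl w) * phi (D.psl w) = 1 by rw [← map_mul, b2, map_one])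
    have hle := (Finset.card_le_card hsub).trans (IsCyclic.card_pow_eq_one_le two_pos)
    rw [Finset.card_insert_of_notMem ?_, Finset.card_pair ?_] at hle
    · omega
    · exact fun e => wx (congrArg Subtype.val (D.psl.injective (phi_injective (congrArg Subtype.val e)))).symm
    · simp only [Finset.mem_insert, Finset.mem_singleton, not_or]
      exact ⟨fun e => hp1 (congrArg Subtype.val e).symm,
        fun e => b1 (phi_injective ((congrArg Subtype.val e).symm.trans (map_one _).symm))⟩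
  set C' := (Subgroup.centralizer ({phi a} : Set (Matrix.ProjGenLinGroup (Fin 2) D.F))).comap (phi (F := D.F))
  set U' := U.comap (phi (F := D.F))
  have hle : U' ≤ C' := Subgroup.comap_mono hUC
  let f : P ⊕ U' → C' := Sum.elim
    (fun w => ⟨D.psl w.1, by
      rw [Subgroup.mem_comap, Subgroup.mem_centralizer_singleton_iff, ← map_mul phi, ← map_mul phi]
      exact congrArg phi (D.psl_comm w.1.2 hx w.2.2.2.2)⟩)
    (fun u => ⟨u.1, hle u.2⟩)
  have hf : Function.Injective f := by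
    rintro (w | u) (w' | u') h <;> have h' := congrArg Subtype.val h <;> simp only [f, Sum.elim_inl, Sum.elim_inr] at h'
    · exact congrArg Sum.inl (Subtype.ext (D.psl.injective h'))
    · exact absurd ((show D.psl w.1 = u'.1 from h') ▸ u'.2) (hnot w)
    · exact absurd ((show u.1 = D.psl w'.1 from h') ▸ u.2) (hnot w')
    · exact congrArg Sum.inr (Subtype.ext h')
  have h := Nat.card_le_card_of_injective f hf
  rw [Nat.card_sum] at h
  rw [← (Model.qm_cast D.odd_q D.he D.hq4).1]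
  omega

end CfsgLib.GW.IIbData
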