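import Cfsg.Agent.Lib.GW.IIb.FinalSeven
import Cfsg.Agent.Lib.GW.IIb.Count
import Cfsg.Agent.Lib.GW.OrderFormula

/-!
(IIb), step 7, counting: `k = |C : C ∩ H|`, `|G : H|` and the orbit inequality.
-/

set_option autoImplicit false
set_option linter.unusedSectionVars false
set_option linter.style.haveILetI false

namespace CfsgLib.GW.IIbFit

universe u

variable {G : Type u} [Group G] [Finite G]

/-- If `B = A (B ⊓ H)` then `|A : A ⊓ H| = |B : B ⊓ H|`. -/
theorem relIndex_of_mul {A B H : Subgroup G} (hAB : A ≤ B) (h : ∀ b ∈ B, ∃ a ∈ A, ∃ c ∈ B ⊓ H, b = a * c) :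
    H.relIndex A = H.relIndex B := by
  rw [Subgroup.relIndex, Subgroup.relIndex, Subgroup.index_eq_card, Subgroup.index_eq_card]
  let f : ↥A ⧸ H.subgroupOf A → ↥B ⧸ H.subgroupOf B := Quotient.map' (fun a => ⟨a, hAB a.2⟩) fun a b hab => by
    rw [QuotientGroup.leftRel_apply] at hab ⊢
    exact hab
  refine Nat.card_congr (Equiv.ofBijective f ⟨fun x y => ?_, fun y => ?_⟩)
  · refine QuotientGroup.induction_on x fun a => QuotientGroup.induction_on y fun b hab => ?_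
    have h' := QuotientGroup.eq.mp (hab : (QuotientGroup.mk (⟨a, hAB a.2⟩ : B) : ↥B ⧸ H.subgroupOf B) =
      QuotientGroup.mk ⟨b, hAB b.2⟩)
    exact QuotientGroup.eq.mpr h'
  · refine QuotientGroup.induction_on y fun b => ?_
    obtain ⟨a, ha, c, hc, hb⟩ := h b b.2
    refine ⟨QuotientGroup.mk ⟨a, ha⟩, QuotientGroup.eq.mpr ?_⟩
    show a⁻¹ * (b : G) ∈ H
    rw [hb, inv_mul_cancel_left]
    exact hc.2

theorem relIndex_mul_card (H B : Subgroup G) : H.relIndex B * Nat.card (B ⊓ H : Subgroup G) = Nat.card B := by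
  have h : (B ⊓ H).subgroupOf B = H.subgroupOf B := by ext x; simp [Subgroup.mem_subgroupOf]
  have he := (Nat.card_congr (Subgroup.subgroupOfEquivOfLe (inf_le_left : B ⊓ H ≤ B)).toEquiv)
  rw [h] at he
  rw [← he, mul_comm]
  exact Subgroup.card_mul_index _

end CfsgLib.GW.IIbFit

namespace CfsgLib.GW.IIbData

open Cfsg
open CfsgLib.BenderMax (OO FF)
open scoped commutatorElement

universe u

variable {G : Type u} [Group G] [Finite G] (D : IIbData G)

/-- `k = |C : C ∩ H|`. -/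
noncomputable def kk : ℕ := D.H.relIndex (centI D.t)

theorem q_sub_e_pos : 0 < (D.q : ℤ) - D.e := by
  have h := D.hq
  unfold IIbData.q
  rcases D.he with e | e <;> rw [e] <;> omega

theorem conj_in_L {a b : G} (ha : a ∈ D.L) (hb : b ∈ D.L) (oa : orderOf a = 2) (ob : orderOf b = 2) :
    ∃ l ∈ D.L, l * a * l⁻¹ = b := by
  haveI := D.L_perfect
  haveI : Group.IsPerfect (D.L.subgroupOf D.H) := isPerfect_subgroupOf D.L_le
  have hne : D.L.subgroupOf D.H ≠ ⊥ := fun e => by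
    have h : (⟨D.t, D.L_le D.t_mem⟩ : D.H) ∈ (⊥ : Subgroup D.H) :=
      e ▸ (show (⟨D.t, D.L_le D.t_mem⟩ : D.H) ∈ D.L.subgroupOf D.H from D.t_mem)
    exact D.t_ne_one (congrArg Subtype.val (Subgroup.mem_bot.mp h))
  obtain ⟨-, hLd, -⟩ := D.hyp.sub_model D.H D.H_ne_top _ hne
  obtain ⟨c, hc⟩ := isConj_iff.mp (hLd.perfect_all_conj ⟨⟨a, D.L_le ha⟩, ha⟩ ⟨⟨b, D.L_le hb⟩, hb⟩
    (by rw [← Subgroup.orderOf_coe, ← Subgroup.orderOf_coe]; exact oa)
    (by rw [← Subgroup.orderOf_coe, ← Subgroup.orderOf_coe]; exact ob))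
  exact ⟨c.1.1, c.2, congrArg (fun x : D.L.subgroupOf D.H => ((x : D.H) : G)) hc⟩

theorem H_split : ∀ h ∈ D.H, ∃ l ∈ D.L, ∃ c ∈ D.H ⊓ centI D.t, h = l * c := by
  intro h hh
  obtain ⟨l, hl, hlt⟩ := D.conj_in_L D.t_mem (D.conj_L hh D.t_mem) D.conf.ht
    ((MulAut.conj h).orderOf_eq D.t ▸ D.conf.ht)
  refine ⟨l, hl, l⁻¹ * h, ⟨D.H.mul_mem (D.H.inv_mem (D.L_le hl)) hh, Subgroup.mem_centralizer_singleton_iff.mpr ?_⟩,
    (mul_inv_cancel_left l h).symm⟩
  calc l⁻¹ * h * D.t = l⁻¹ * (h * D.t * h⁻¹) * h := by group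
    _ = D.t * (l⁻¹ * h) := by rw [← hlt]; group

theorem C_split : ∀ c ∈ centI D.t, ∃ x ∈ coreC D.t, ∃ s ∈ centI D.t ⊓ D.H, c = x * s := by
  intro c hc
  obtain ⟨x, hx, s, hs, rfl⟩ := centralizer_eq_core_mul D.hyp.dihedral D.S D.conf.ht D.conf.htZ
    (Subgroup.mem_centralizer_singleton_iff.mp hc)
  exact ⟨x, hx, s, ⟨D.S_le_C hs, D.S_le_H hs⟩, rfl⟩

theorem kk_eq : D.H.relIndex (coreC D.t) = D.kk := IIbFit.relIndex_of_mul D.coreC_le D.C_split

theorem kk_odd : Odd D.kk := by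
  rw [← D.kk_eq]
  exact D.coreC_odd.of_dvd_nat ⟨_, (IIbFit.relIndex_mul_card D.H (coreC D.t)).symm⟩

theorem three_le_kk : 3 ≤ D.kk := by
  have h1 : D.kk ≠ 1 := fun e => by
    have hle : centI D.t ≤ D.H := Subgroup.relIndex_eq_one.mp e
    rcases eq_or_lt_of_le hle with h | h
    · exact D.H_ne h.symm
    · exact D.H_ne_top (D.conf.maximal.2 _ h)
  obtain ⟨j, hj⟩ := D.kk_odd
  omega

/-- A reflection of `L` at `t`. -/
structure Refl (w : G) : Prop where
  memL : w ∈ D.L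
  ord : orderOf w = 2
  comm : w * D.t = D.t * w
  ne : w ≠ D.t

theorem refl_v : D.Refl D.v := ⟨D.v_mem, D.conf.hv, D.conf.comm_tv.symm, D.conf.hvt⟩

theorem refl_S {w : G} (hw : w ∈ (D.S : Subgroup G)) (ho : orderOf w = 2) (hn : w ≠ D.t) : D.Refl w :=
  ⟨D.S_le_L hw, ho, D.conf.htZ w hw, hn⟩

theorem mem_cent_pair {w c : G} :
    c ∈ Subgroup.centralizer ({D.t, w} : Set G) ↔ c * D.t = D.t * c ∧ c * w = w * c := by
  rw [Subgroup.mem_centralizer_iff]
  constructor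
  · exact fun h => ⟨(h D.t (Set.mem_insert _ _)).symm, (h w (Set.mem_insert_of_mem _ rfl)).symm⟩
  · rintro ⟨h1, h2⟩ x hx
    rcases hx with rfl | hx
    · exact h1.symm
    · rw [Set.mem_singleton_iff.mp hx]; exact h2.symm

theorem card_L_pair {w : G} (hw : D.Refl w) :
    Nat.card (D.L ⊓ centI D.t ⊓ Subgroup.centralizer ({D.t, w} : Set G) : Subgroup G) = 4 := by
  have hww := Involutions.mul_self_eq_one_of_orderOf hw.ord
  have hw1 : w ≠ 1 := fun e => by have := hw.ord; rw [e, orderOf_one] at this; omega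
  haveI := isKleinFour_fourOf D.conf.ht hw.ord (Ne.symm hw.ne) hw.comm.symm
  rw [← IsKleinFour.card_four (G := fourOf (Involutions.mul_self_eq_one_of_orderOf D.conf.ht) hww hw.comm.symm)]
  congr 1
  have he : (D.L ⊓ centI D.t ⊓ Subgroup.centralizer ({D.t, w} : Set G) : Subgroup G) =
      fourOf (Involutions.mul_self_eq_one_of_orderOf D.conf.ht) hww hw.comm.symm := by
    refine le_antisymm (fun l hl => ?_) ?_
    · rw [mem_fourOf]
      obtain ⟨h1, h2⟩ := D.mem_cent_pair.mp hl.2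
      exact D.four_L D.t_mem hw.memL hl.1.1 D.conf.tt D.t_ne_one hww hw1 hw.ne hw.comm h1 h2
    · have hgen : ∀ x : G, x ∈ D.L → x * D.t = D.t * x → x * w = w * x →
          x ∈ D.L ⊓ centI D.t ⊓ Subgroup.centralizer ({D.t, w} : Set G) := fun x a b c =>
        ⟨⟨a, Subgroup.mem_centralizer_singleton_iff.mpr b⟩, D.mem_cent_pair.mpr ⟨b, c⟩⟩
      rintro x (rfl | rfl | rfl | rfl)
      · exact one_mem _
      · exact hgen _ D.t_mem rfl hw.comm.symm
      · exact hgen _ hw.memL hw.comm rfl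
      · exact mul_mem (hgen _ D.t_mem rfl hw.comm.symm) (hgen _ hw.memL hw.comm rfl)
  rw [he]

theorem conj_mem_LC {n x : G} (hx : x ∈ D.H ⊓ centI D.t) (hn : n ∈ D.L ⊓ centI D.t) :
    x * n * x⁻¹ ∈ D.L ⊓ centI D.t :=
  ⟨D.conj_L hx.1 hn.1, (centI D.t).mul_mem ((centI D.t).mul_mem hx.2 hn.2) ((centI D.t).inv_mem hx.2)⟩

/-- The orbit of a reflection under `C_H(t)`, and `C_H(t) = C_L(t) C(t, w)`. -/
theorem orbit_refl {w : G} (hw : D.Refl w) :
    ((Subgroup.centralizer ({D.t, w} : Set G)).relIndex (D.H ⊓ centI D.t) : ℤ) * 4 = (D.q : ℤ) - D.e ∧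
      ∀ c ∈ D.H ⊓ centI D.t, ∃ n ∈ D.L ⊓ centI D.t, ∃ x ∈ Subgroup.centralizer ({D.t, w} : Set G), c = n * x := by
  classical
  haveI : Fact (Nat.Prime 2) := ⟨Nat.prime_two⟩
  set Ct := D.H ⊓ centI D.t
  set N := D.L ⊓ centI D.t
  set st := Subgroup.centralizer ({D.t, w} : Set G)
  have hst : st ≤ Ct := le_inf (D.cent_pair_le hw.memL hw.ord hw.comm hw.ne) fun c hc =>
    Subgroup.mem_centralizer_singleton_iff.mpr (D.mem_cent_pair.mp hc).1
  have hN : N ≤ Ct := le_inf (inf_le_left.trans D.L_le) inf_le_right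
  have hn : st ≤ Subgroup.normalizer (N : Set G) := fun x hx =>
    Subgroup.mem_normalizer_fintype fun n hn' => D.conj_mem_LC (hst hx) hn'
  have hsup : N ⊔ st ≤ Ct := sup_le hN hst
  have hdec : ∀ c ∈ N ⊔ st, ∃ n ∈ N, ∃ x ∈ (N ⊔ st) ⊓ st, c = n * x := by
    intro c hc
    have hc' : c ∈ ((N ⊔ st : Subgroup G) : Set G) := hc
    rw [Subgroup.coe_mul_of_right_le_normalizer_left N st hn] at hc'
    obtain ⟨n, hn', x, hx, rfl⟩ := hc'
    exact ⟨n, hn', x, ⟨Subgroup.mem_sup_right hx, hx⟩, rfl⟩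
  have hb : ((st.relIndex N : ℕ) : ℤ) * 4 = (D.q : ℤ) - D.e := by
    rw [← D.card_L_centI D.t_mem D.conf.tt D.t_ne_one]
    have h := IIbFit.relIndex_mul_card st N
    rw [D.card_L_pair hw] at h
    exact_mod_cast h
  have hab : st.relIndex Ct = st.relIndex N * (N ⊔ st).relIndex Ct := by
    rw [IIbFit.relIndex_of_mul (H := st) le_sup_left hdec]
    exact (Subgroup.relIndex_mul_relIndex _ _ _ le_sup_right hsup).symm
  have hodd : Odd ((N ⊔ st).relIndex Ct) := by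
    have hSN : (D.S : Subgroup G) ≤ N := le_inf D.S_le_L D.S_le_C
    have h2 : ¬ 2 ∣ (D.S : Subgroup G).relIndex Ct := fun h =>
      D.S.not_dvd_index (h.trans (Subgroup.relIndex_dvd_index_of_le (hSN.trans hN)))
    rw [← Nat.not_even_iff_odd, even_iff_two_dvd]
    exact fun h => h2 (h.trans (Subgroup.relIndex_dvd_of_le_left Ct (hSN.trans le_sup_left)))
  -- the orbit injects into the reflections
  set P := {u : D.L // (u : G) * u = 1 ∧ (u : G) ≠ 1 ∧ (u : G) ≠ D.t ∧ (u : G) * D.t = D.t * (u : G)}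
  have himg : ∀ c ∈ Ct, c * w * c⁻¹ ∈ D.L ∧ c * w * c⁻¹ * (c * w * c⁻¹) = 1 ∧ c * w * c⁻¹ ≠ 1 ∧
      c * w * c⁻¹ ≠ D.t ∧ c * w * c⁻¹ * D.t = D.t * (c * w * c⁻¹) := by
    intro c hc
    have hct : c * D.t = D.t * c := Subgroup.mem_centralizer_singleton_iff.mp hc.2
    refine ⟨D.conj_L hc.1 hw.memL, ?_, fun e => ?_, fun e => hw.ne ?_, ?_⟩
    · rw [show c * w * c⁻¹ * (c * w * c⁻¹) = c * (w * w) * c⁻¹ by group,
        Involutions.mul_self_eq_one_of_orderOf hw.ord, mul_one, mul_inv_cancel]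
    · have := hw.ord
      rw [conj_eq_one_iff.mp e, orderOf_one] at this
      omega
    · refine mul_left_cancel (mul_right_cancel (e.trans ?_) : c * w = c * D.t)
      rw [hct, mul_inv_cancel_right]
    · exact ((show Commute c D.t from hct).mul_left (show Commute w D.t from hw.comm)
        |>.mul_left (show Commute c D.t from hct).inv_left).eq
  let f : ↥Ct ⧸ st.subgroupOf Ct → P := fun x =>
    ⟨⟨x.out.1 * w * x.out.1⁻¹, (himg _ x.out.2).1⟩, (himg _ x.out.2).2⟩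
  have hf : Function.Injective f := by
    intro x y e
    have e' : x.out.1 * w * x.out.1⁻¹ = y.out.1 * w * y.out.1⁻¹ := congrArg (fun u : P => ((u.1 : D.L) : G)) e
    rw [← x.out_eq', ← y.out_eq']
    refine QuotientGroup.eq.mpr ?_
    show (x.out : G)⁻¹ * y.out ∈ st
    refine D.mem_cent_pair.mpr ⟨?_, ?_⟩
    · exact Subgroup.mem_centralizer_singleton_iff.mp (mul_mem (inv_mem x.out.2.2) y.out.2.2)
    · calc (x.out : G)⁻¹ * y.out * w = (x.out : G)⁻¹ * (y.out.1 * w * y.out.1⁻¹) * y.out := by group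
        _ = w * ((x.out : G)⁻¹ * y.out) := by rw [← e']; group
  have hle : (st.relIndex Ct : ℤ) * 2 ≤ (D.q : ℤ) - D.e := by
    have h1 := Nat.card_le_card_of_injective f hf
    rw [← Subgroup.index_eq_card, ← Subgroup.relIndex] at h1
    have h2 := D.card_refl D.t_mem D.conf.tt D.t_ne_one
    have h1' : (st.relIndex Ct : ℤ) ≤ (Nat.card P : ℤ) := by exact_mod_cast h1
    linarith
  have hone : (N ⊔ st).relIndex Ct = 1 := by
    obtain ⟨j, hj⟩ := hodd
    have hpos := D.q_sub_e_pos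
    rw [hab, Nat.cast_mul] at hle
    by_contra hne
    have h3 : (3 : ℤ) ≤ (((N ⊔ st).relIndex Ct : ℕ) : ℤ) := by omega
    nlinarith
  refine ⟨by rw [hab, hone, mul_one]; exact hb, fun c hc => ?_⟩
  obtain ⟨n, hn', x, hx, e⟩ := hdec c (Subgroup.relIndex_eq_one.mp hone hc)
  exact ⟨n, hn', x, hx.2, e⟩

theorem card_H : 2 * (Nat.card D.H : ℤ) = D.q * ((D.q : ℤ) + D.e) * Nat.card (D.H ⊓ centI D.t : Subgroup G) ∧
    2 * ((centI D.t).relIndex D.L : ℤ) = D.q * ((D.q : ℤ) + D.e) := by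
  have h1 := IIbFit.relIndex_mul_card (centI D.t) D.L
  have h2 := IIbFit.relIndex_mul_card (centI D.t) D.H
  have h3 : (centI D.t).relIndex D.L = (centI D.t).relIndex D.H :=
    IIbFit.relIndex_of_mul D.L_le fun h hh => by
      obtain ⟨l, hl, c, hc, e⟩ := D.H_split h hh
      exact ⟨l, hl, c, hc, e⟩
  have h4 := D.card_L_centI D.t_mem D.conf.tt D.t_ne_one
  have h5 : 2 * ((centI D.t).relIndex D.L : ℤ) = D.q * ((D.q : ℤ) + D.e) := by
    refine mul_right_cancel₀ D.q_sub_e_pos.ne' ?_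
    rw [mul_assoc, ← h4, ← Nat.cast_mul, h1, h4]
    have hc : (Nat.card D.L : ℤ) * 2 = D.q * ((D.q : ℤ) ^ 2 - 1) := by
      have h := congrArg (Nat.cast (R := ℤ)) D.card_L
      push_cast at h
      rw [h, Nat.cast_sub (Nat.one_le_pow _ _ (by have := D.three_lt_q; omega))]
      push_cast
      ring
    rcases D.he with e | e <;> rw [e] <;> linear_combination hc
  refine ⟨?_, h5⟩
  rw [← h2, ← h3, Nat.cast_mul, ← mul_assoc, h5]

/-- `n = |G : H|` and `|G : C|` from the order formula. -/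
theorem index_formula : ∃ (m : ℕ) (ρ : ℚ), 2 ≤ m ∧ Nat.card (D.S : Subgroup G) = 2 * m ∧
    Shape m (Nat.card G) ρ ∧ ρ ≤ 15 / 8 ∧
    (D.H.index : ℚ) * ((D.q : ℚ) * ((D.q : ℚ) + D.e)) = ρ * (D.kk : ℚ) ^ 3 * ((D.q : ℚ) - D.e) ^ 2 ∧
    2 * ((centI D.t).index : ℚ) = ρ * (D.kk : ℚ) ^ 2 * ((D.q : ℚ) - D.e) ^ 2 := by
  obtain ⟨m, hm, ⟨eS⟩⟩ := D.hyp.dihedral.shape D.S
  haveI := D.hyp.simple
  obtain ⟨v₁, v₂, h₁, h₂, o₁, o₂, n₁, n₂, o₁₂⟩ := exists_reflections D.S hm eS D.conf.htS D.conf.htZ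
  obtain ⟨ρ, hρ, -, hρle, hG⟩ := order_formula D.hyp.noncomm D.hyp.all_conj D.S hm eS D.conf.ht D.conf.htS
    D.conf.htZ h₁ h₂ o₁ o₂ n₁ n₂ o₁₂
  refine ⟨m, ρ, hm, (Nat.card_congr eS.toEquiv).trans DihedralGroup.nat_card, hρ, hρle, ?_⟩
  set T := Nat.card (D.H ⊓ centI D.t : Subgroup G) with hT
  have hY : ∀ w, D.Refl w →
      (Nat.card (Subgroup.centralizer ({D.t, w} : Set G)) : ℚ) = 4 * T / ((D.q : ℚ) - D.e) := by
    intro w hw
    obtain ⟨ho, -⟩ := D.orbit_refl hw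
    have hle : Subgroup.centralizer ({D.t, w} : Set G) ≤ D.H ⊓ centI D.t :=
      le_inf (D.cent_pair_le hw.memL hw.ord hw.comm hw.ne) fun c hc =>
        Subgroup.mem_centralizer_singleton_iff.mpr (D.mem_cent_pair.mp hc).1
    have h := IIbFit.relIndex_mul_card (Subgroup.centralizer ({D.t, w} : Set G)) (D.H ⊓ centI D.t)
    rw [inf_eq_right.mpr hle] at h
    have hd : ((D.q : ℚ) - D.e) ≠ 0 := by exact_mod_cast D.q_sub_e_pos.ne'
    have ho' : ((Subgroup.centralizer ({D.t, w} : Set G)).relIndex (D.H ⊓ centI D.t) : ℚ) * 4 =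
        (D.q : ℚ) - D.e := by exact_mod_cast ho
    have h' : ((Subgroup.centralizer ({D.t, w} : Set G)).relIndex (D.H ⊓ centI D.t) : ℚ) *
        Nat.card (Subgroup.centralizer ({D.t, w} : Set G)) = T := by exact_mod_cast h
    rw [eq_div_iff hd, ← ho', ← h']
    ring
  have hC : (Nat.card (centI D.t) : ℚ) = D.kk * T := by
    have h := IIbFit.relIndex_mul_card D.H (centI D.t)
    rw [inf_comm] at h
    rw [kk, hT]
    exact_mod_cast h.symm
  rw [hY v₁ (D.refl_S h₁ o₁ n₁), hY v₂ (D.refl_S h₂ o₂ n₂), hC] at hG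
  have hT0 : (T : ℚ) ≠ 0 := by rw [hT]; exact_mod_cast Nat.card_pos.ne'
  have hd : ((D.q : ℚ) - D.e) ≠ 0 := by exact_mod_cast D.q_sub_e_pos.ne'
  have hG' : (Nat.card G : ℚ) = ρ * (D.kk : ℚ) ^ 3 * T * ((D.q : ℚ) - D.e) ^ 2 / 2 := by
    rw [hG]
    field_simp
    ring
  constructor
  · have hH : 2 * (Nat.card D.H : ℚ) = D.q * ((D.q : ℚ) + D.e) * T := by
      rw [hT]
      exact_mod_cast D.card_H.1
    have hi : (Nat.card D.H : ℚ) * D.H.index = Nat.card G := by exact_mod_cast D.H.card_mul_index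
    refine mul_right_cancel₀ hT0 ?_
    linear_combination (D.H.index : ℚ) * (-hH) + 2 * hi + 2 * hG'
  · have hi : (Nat.card (centI D.t) : ℚ) * (centI D.t).index = Nat.card G := by
      exact_mod_cast (centI D.t).card_mul_index
    rw [hC] at hi
    have hk0 : (D.kk : ℚ) ≠ 0 := by have := D.three_le_kk; exact_mod_cast (by omega : D.kk ≠ 0)
    refine mul_right_cancel₀ (mul_ne_zero hk0 hT0) ?_
    linear_combination 2 * hi + 2 * hG'

/-- `t` is the only conjugate of `t` in `L` fixing a point `x H`, `x ∈ C ∖ H`. -/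
theorem fixed_unique {x : G} (hx : x ∈ centI D.t) (hxH : x ∉ D.H) {u : G} (huL : u ∈ D.L)
    (hu2 : orderOf u = 2) (hux : x⁻¹ * u * x ∈ D.H) : u = D.t := by
  have hp := D.conf.hp
  have hp2 := D.conf.hp2
  haveI := Fact.mk hp
  set R := OO D.p (centI D.t)
  have huu := Involutions.mul_self_eq_one_of_orderOf hu2
  have hu1 : u ≠ 1 := fun e => by rw [e, orderOf_one] at hu2; omega
  set u' := x⁻¹ * u * x with hu'
  have hu'L : u' ∈ D.L := D.inner_involutions hux (by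
    rw [hu', show x⁻¹ * u * x = MulAut.conj x⁻¹ u by simp, MulEquiv.orderOf_eq, hu2])
  obtain ⟨a, ha, hao⟩ := IIbFit.exists_order hp ((BenderMax.OO_isPGroup D.p (centI D.t)).to_le D.A_le_P) D.A_ne
  set b := x * a * x⁻¹ with hb
  have hbR : b ∈ R := BenderMax.conj_OO hx (D.A_le_P ha)
  have hua : u * a = a * u := D.comm_W (D.A_le_W ha) huL
  have hub : u * b = b * u := by
    have h : u' * a = a * u' := D.comm_W (D.A_le_W ha) hu'L
    calc u * (x * a * x⁻¹) = x * (x⁻¹ * u * x * a) * x⁻¹ := by group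
      _ = x * (a * (x⁻¹ * u * x)) * x⁻¹ := by rw [← hu', h]
      _ = x * a * x⁻¹ * u := by group
  have ha1 : a ≠ 1 := fun e => by rw [e, orderOf_one] at hao; exact hp.ne_one hao.symm
  have hbA : b ∉ D.A := fun h => ha1 (D.meet_conj x hx hxH a ha h)
  have hfin : ∀ q ∈ D.Q D.p, q ≠ 1 → u * q = q * u → u = D.t := by
    intro q hq hq1 huq
    have hqR := (D.Q_le D.p hp hp2 hq)
    have hqo : Odd (orderOf q) := by
      obtain ⟨k, hk⟩ := (BenderMax.OO_isPGroup D.p (centI D.t)).exists_card_eq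
      exact ((hp.odd_of_ne_two hp2).pow (n := k)).of_dvd_nat (hk ▸ Subgroup.orderOf_dvd_natCard _ hqR.1)
    exact D.unique_L D.t_mem huL hqR.2 D.conf.tt D.t_ne_one huu hu1 hq1 hqo
      (D.conf.comm_t_core hqR.1) huq.symm
  by_cases hbH : b ∈ D.H
  · have hb' : b ∈ R ⊓ D.H := ⟨hbR, hbH⟩
    rw [D.core_split D.p hp hp2] at hb'
    obtain ⟨α, hα, q, hq, e⟩ := IIbFit.exists_mul_of_sup (A := R ⊓ D.W) (B := D.Q D.p)
      (fun s hs w hw => (D.comm_W hs.2 (D.Q_le D.p hp hp2 hw).2).symm) hb'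
    refine hfin q hq (fun e1 => hbA ?_) ?_
    · rw [e, e1, mul_one, ← D.A_meet]
      exact hα
    · have huα : u * α = α * u := D.comm_W hα.2 huL
      rw [e, ← mul_assoc, huα, mul_assoc, mul_assoc] at hub
      exact mul_left_cancel hub
  · obtain ⟨a', z, ha', hao', hzQ, -, -, haP, -, -, -⟩ := D.nonab fun h => hbH (h hbR)
    haveI := D.A_cyclic
    have haz : a ∈ Subgroup.zpowers a' := IIbFit.mem_zpowers_of_cyclic hp.pos ha' hao' ha (hao ▸ pow_orderOf_eq_one a)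
    obtain ⟨i, hi⟩ := Subgroup.mem_zpowers_iff.mp haz
    set c := b * a' * b⁻¹ * a'⁻¹ with hc
    have hcz : c ∈ D.Q D.p := (Subgroup.zpowers_le.mpr hzQ) (haP b hbR)
    refine hfin c hcz (fun e => hbH ?_) ?_
    · have hcomm : b * a' = a' * b := mul_inv_eq_iff_eq_mul.mp (mul_inv_eq_one.mp e)
      have hne : Subgroup.zpowers a ≠ ⊥ := fun e => ha1 (Subgroup.zpowers_eq_bot.mp e)
      exact D.normalizer_le _ (Subgroup.zpowers_le.mpr ha) hne (Subgroup.centralizer_le_normalizer _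
        (Subgroup.mem_centralizer_iff.mpr fun y hy => by
          obtain ⟨j, rfl⟩ := Subgroup.mem_zpowers_iff.mp hy
          rw [← hi, ← zpow_mul]
          exact ((show Commute b a' from hcomm).zpow_right _).eq.symm))
    · have hua' : Commute u a' := D.comm_W (D.A_le_W ha') huL
      have hub' : Commute u b := hub
      exact ((hub'.mul_right hua').mul_right hub'.inv_right |>.mul_right hua'.inv_right).eq

/-- The orbit inequality. -/
theorem orbit_bound {ρ : ℚ}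
    (hn : (D.H.index : ℚ) * ((D.q : ℚ) * ((D.q : ℚ) + D.e)) = ρ * (D.kk : ℚ) ^ 3 * ((D.q : ℚ) - D.e) ^ 2) :
    ((D.kk : ℚ) - 1) * ((D.q : ℚ) * ((D.q : ℚ) + D.e)) ^ 2 <
      2 * ρ * (D.kk : ℚ) ^ 3 * ((D.q : ℚ) - D.e) ^ 2 := by
  classical
  set C := centI D.t
  let f : ↥C ⧸ D.H.subgroupOf C → G ⧸ D.H := Quotient.map' (fun c => (c : G)) fun a b hab => by
    rw [QuotientGroup.leftRel_apply] at hab ⊢
    exact hab
  have hf : Function.Injective f := fun x y => by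
    refine QuotientGroup.induction_on x fun a => QuotientGroup.induction_on y fun b hab => ?_
    have h' := QuotientGroup.eq.mp (hab : (QuotientGroup.mk (a : G) : G ⧸ D.H) = QuotientGroup.mk (b : G))
    exact QuotientGroup.eq.mpr h'
  set base : G ⧸ D.H := QuotientGroup.mk 1
  set F : Set (G ⧸ D.H) := Set.range f \ {base}
  have hbaseR : base ∈ Set.range f := ⟨QuotientGroup.mk 1, rfl⟩
  have hFc : Nat.card F = D.kk - 1 := by
    rw [Nat.card_coe_set_eq, Set.ncard_sdiff_singleton_of_mem hbaseR, ← Nat.card_coe_set_eq,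
      Nat.card_range_of_injective hf, ← Subgroup.index_eq_card]
    rfl
  have hmem : ∀ ω ∈ F, ∃ x ∈ C, x ∉ D.H ∧ ω = QuotientGroup.mk x := by
    rintro _ ⟨⟨y, rfl⟩, hy⟩
    refine QuotientGroup.induction_on y (fun x hy => ⟨x, x.2, fun hxH => hy ?_, rfl⟩) hy
    show (QuotientGroup.mk (x : G) : G ⧸ D.H) = QuotientGroup.mk 1
    rw [QuotientGroup.eq]
    simpa using hxH
  have h := IIbFinal.fixed_bound (⟨D.t, D.t_mem⟩ : D.L) F ?_ ?_ base ?_ (fun h => h.2 rfl)
  · have hidx : (Subgroup.centralizer ({(⟨D.t, D.t_mem⟩ : D.L)} : Set D.L)).index = C.relIndex D.L := by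
      rw [Subgroup.relIndex]
      congr 1
      ext l
      rw [Subgroup.mem_subgroupOf, Subgroup.mem_centralizer_singleton_iff, Subgroup.mem_centralizer_singleton_iff]
      exact ⟨fun e => congrArg Subtype.val e, fun e => Subtype.ext e⟩
    rw [hFc, hidx, ← Subgroup.index_eq_card] at h
    set j := C.relIndex D.L
    have h2 : 2 * (j : ℚ) = D.q * ((D.q : ℚ) + D.e) := by exact_mod_cast D.card_H.2
    have h1 : ((D.kk : ℚ) - 1) * j < (D.H.index : ℚ) := by
      have hk := D.three_le_kk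
      have h' : (((D.kk - 1) * j : ℕ) : ℚ) < ((D.H.index : ℕ) : ℚ) := by exact_mod_cast h
      push_cast [Nat.cast_sub (by omega : 1 ≤ D.kk)] at h'
      exact h'
    have hQpos : (0 : ℚ) < D.q * ((D.q : ℚ) + D.e) := by
      have := D.hq
      have h3 : (11 : ℚ) ≤ D.q := by exact_mod_cast this
      rcases D.he with e | e <;> rw [e] <;> push_cast <;> nlinarith
    rw [← h2] at hn hQpos ⊢
    nlinarith
  · intro ω hω
    obtain ⟨x, hx, -, rfl⟩ := hmem ω hω
    show (QuotientGroup.mk (D.t * x) : G ⧸ D.H) = QuotientGroup.mk x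
    rw [QuotientGroup.eq, _root_.mul_inv_rev, mul_assoc, inv_eq_of_mul_eq_one_left D.conf.tt,
      ← Subgroup.mem_centralizer_singleton_iff.mp hx, inv_mul_cancel_left]
    exact D.L_le D.t_mem
  · intro ω hω l hl
    obtain ⟨x, hx, hxH, rfl⟩ := hmem ω hω
    have hl' : (QuotientGroup.mk ((l : G) * D.t * (l : G)⁻¹ * x) : G ⧸ D.H) = QuotientGroup.mk x := hl
    rw [eq_comm, QuotientGroup.eq] at hl'
    refine Subtype.ext (D.fixed_unique hx hxH (l * ⟨D.t, D.t_mem⟩ * l⁻¹ : D.L).2 ?_ ?_)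
    · exact ((MulAut.conj (l : G)).orderOf_eq D.t).trans D.conf.ht
    · simpa [mul_assoc] using hl'
  · intro l
    show (QuotientGroup.mk ((l : G) * 1) : G ⧸ D.H) = QuotientGroup.mk 1
    rw [QuotientGroup.eq]
    simpa using D.L_le l.2

end CfsgLib.GW.IIbData
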