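import Cfsg.Agent.Lib.SL2Centralizer
import Cfsg.Agent.Lib.OddOrder.FeitThompson
import Mathlib

/-!
Images in `GL₂(r)` of normal subgroups of odd order contained in the derived group.

`mat_bound`: an odd order subgroup `U` of `SL₂(r)`, contained in the derived group of a group `C` of matrices that
normalises it, is an `r`-group or has order prime to `r` and at most `(r + 1) / 2`.
`image_bound`: the same for a group acting on an elementary abelian group of order `r²`.
-/

set_option autoImplicit false
set_option linter.unusedSectionVars false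
set_option linter.style.haveILetI false

namespace CfsgLib.GW.IIbLin

open Matrix
open scoped MatrixGroups commutatorElement

variable {r : ℕ} [Fact r.Prime]

local notation "M2" => Matrix (Fin 2) (Fin 2) (ZMod r)
local notation "SL" => Matrix.SpecialLinearGroup (Fin 2) (ZMod r)
local notation "GL2" => GL (Fin 2) (ZMod r)

theorem two_ne (hr2 : r ≠ 2) : (2 : ZMod r) ≠ 0 := by
  intro h
  have h' : ((2 : ℕ) : ZMod r) = 0 := by exact_mod_cast h
  rw [ZMod.natCast_eq_zero_iff] at h'
  exact hr2 ((Nat.prime_dvd_prime_iff_eq Fact.out Nat.prime_two).mp h')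

/-- Cayley–Hamilton in dimension two. -/
theorem cayley (m : M2) : m * m = m.trace • m - m.det • (1 : M2) := by
  ext i j
  fin_cases i <;> fin_cases j <;>
    simp [Matrix.mul_apply, Fin.sum_univ_two, Matrix.trace_fin_two, Matrix.det_fin_two] <;> ring

/-- A matrix of determinant one commuting with `m`, of the same trace, is `m` or its inverse. -/
theorem eq_or_inv {g n : SL} (hr2 : r ≠ 2) (hg : g.1.trace ^ 2 ≠ 4) (hc : Commute n.1 g.1)
    (htr : n.1.trace = g.1.trace) : n = g ∨ n = g⁻¹ := by
  have h2 := two_ne hr2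
  obtain ⟨x, y, hn⟩ := SL2Centralizer.exists_of_commute (SL2Centralizer.not_scalar_of_trace hg) hc
  have hdet := n.2
  rw [hn, Matrix.det_fin_two] at hdet
  have hgd := g.2
  rw [Matrix.det_fin_two] at hgd
  rw [hn, Matrix.trace_fin_two, Matrix.trace_fin_two] at htr
  simp at hdet htr
  rw [Matrix.trace_fin_two] at hg
  have hx : (2 : ZMod r) * x = (g.1 0 0 + g.1 1 1) * (1 - y) := by linear_combination htr
  have key : (1 - y * y) * ((g.1 0 0 + g.1 1 1) ^ 2 - 4) = 0 := by
    linear_combination 4 * hdet - (2 * x + (g.1 0 0 + g.1 1 1) * (1 - y) + 2 * (g.1 0 0 + g.1 1 1) * y) * hx -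
      4 * y ^ 2 * hgd
  have hy := (mul_eq_zero.mp key).resolve_right (sub_ne_zero.mpr hg)
  rcases mul_self_eq_one_iff.mp (sub_eq_zero.mp hy).symm with rfl | rfl
  · left
    have hx0 : x = 0 := (mul_eq_zero.mp (show (2 : ZMod r) * x = 0 by linear_combination hx)).resolve_left h2
    exact Subtype.ext (by rw [hn, hx0, zero_smul, zero_add, one_smul])
  · right
    have hx0 : x = g.1 0 0 + g.1 1 1 := mul_left_cancel₀ h2 (by linear_combination hx)
    refine Subtype.ext ?_
    rw [hn, Matrix.SpecialLinearGroup.coe_inv, Matrix.adjugate_fin_two]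
    ext i j
    fin_cases i <;> fin_cases j <;> simp [hx0]

/-- A non-trivial element of odd order and determinant one with `trace ^ 2 = 4` has order `r`. -/
theorem pow_eq_one_of_trace (hr2 : r ≠ 2) {g : SL} (ho : Odd (orderOf g)) (ht : g.1.trace ^ 2 = 4) :
    g ^ r = 1 ∧ (g.1 - 1) * (g.1 - 1) = 0 := by
  have h2 := two_ne hr2
  have hsq : (g.1.trace - 2) * (g.1.trace + 2) = 0 := by linear_combination ht
  have hch : g.1 * g.1 = g.1.trace • g.1 - (1 : M2) := by rw [cayley, g.2, one_smul]
  obtain ⟨c, hc, hcg⟩ : ∃ c : ZMod r, (c = 1 ∨ c = -1) ∧ (g.1 - c • 1) * (g.1 - c • 1) = 0 := by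
    rcases mul_eq_zero.mp hsq with h | h
    · refine ⟨1, Or.inl rfl, ?_⟩
      rw [sub_mul, mul_sub, mul_sub, hch, sub_eq_zero.mp h]
      simp only [one_smul, mul_one, one_mul, two_smul]
      abel
    · refine ⟨-1, Or.inr rfl, ?_⟩
      rw [sub_mul, mul_sub, mul_sub, hch, eq_neg_of_add_eq_zero_left h]
      simp only [neg_smul, one_smul, mul_neg, mul_one, one_mul, neg_mul, two_smul]
      abel
  set N := g.1 - c • (1 : M2)
  have hg : g.1 = c • (1 : M2) + N := by simp [N]
  have hpow : ∀ k : ℕ, g.1 ^ k = c ^ k • (1 : M2) + ((k : ZMod r) * c ^ (k - 1)) • N := by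
    intro k
    induction k with
    | zero => simp
    | succ k ih =>
      rw [pow_succ, ih, hg]
      rcases k with _ | k
      · simp
      · simp only [add_mul, mul_add, Matrix.smul_mul, Matrix.mul_smul, smul_smul, one_mul, mul_one, hcg,
          smul_zero, add_zero, Nat.succ_sub_one]
        push_cast
        rw [add_assoc, ← add_smul]
        ring_nf
  have h1 := hpow r
  rw [ZMod.natCast_self, zero_mul, zero_smul, add_zero, ZMod.pow_card] at h1
  have hg2 : g ^ (r * 2) = 1 := Subtype.ext (by
    rw [Matrix.SpecialLinearGroup.coe_pow, pow_mul, h1, Matrix.SpecialLinearGroup.coe_one, smul_pow, one_pow]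
    rcases hc with rfl | rfl <;> simp)
  have hd := orderOf_dvd_of_pow_eq_one hg2
  have hcop : (orderOf g).Coprime 2 := (Nat.coprime_two_right).mpr ho
  have hgr := orderOf_dvd_iff_pow_eq_one.mp (hcop.dvd_of_dvd_mul_right hd)
  refine ⟨hgr, ?_⟩
  have hc1 : c = 1 := by
    have h00 : (g ^ r).1 0 0 = c := by
      rw [Matrix.SpecialLinearGroup.coe_pow, h1]; simp
    rw [hgr] at h00
    simpa using h00.symm
  rwa [show N = g.1 - 1 by simp [N, hc1]] at hcg

/-- The order of the centraliser of an element with `trace ^ 2 ≠ 4`. -/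
theorem card_cent (hr2 : r ≠ 2) {g : SL} (hg : g.1.trace ^ 2 ≠ 4) :
    ¬ r ∣ Nat.card (Subgroup.centralizer ({g} : Set SL)) ∧
      Even (Nat.card (Subgroup.centralizer ({g} : Set SL))) ∧
      Nat.card (Subgroup.centralizer ({g} : Set SL)) ≤ r + 1 := by
  have h := SL2Centralizer.card_centralizer hg
  rw [ZMod.card] at h
  have hr : 3 ≤ r := by have := (Fact.out : r.Prime).two_le; omega
  have ho : r % 2 = 1 := (Fact.out : r.Prime).eq_two_or_odd.resolve_left hr2
  rcases SL2Centralizer.card_roots hg with e | e <;> rw [e] at h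
  all_goals
    refine ⟨fun hd => ?_, Nat.even_iff.mpr (by omega), by omega⟩
    obtain ⟨j, hj⟩ := hd
    rcases j with _ | _ | j
    · omega
    · omega
    · rw [hj] at h; nlinarith

/-- An abelian subgroup `M ≠ ⊥` of a solvable `U ≠ ⊥`, invariant under everything normalising `U`. -/
theorem exists_abelian_sub {Γ : Type*} [Group Γ] [Finite Γ] (U : Subgroup Γ) (hU : U ≠ ⊥) [Group.IsSolvable U] :
    ∃ M : Subgroup Γ, M ≤ U ∧ M ≠ ⊥ ∧ (∀ a ∈ M, ∀ b ∈ M, a * b = b * a) ∧
      ∀ g : Γ, (∀ u, u ∈ U ↔ g * u * g⁻¹ ∈ U) → ∀ m ∈ M, g * m * g⁻¹ ∈ M := by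
  classical
  obtain ⟨n, hn⟩ := (inferInstance : Group.IsSolvable U).solvable
  have hex : ∃ k, derivedSeries U k = ⊥ := ⟨n, hn⟩
  obtain ⟨k, hk⟩ := Nat.exists_eq_succ_of_ne_zero (n := Nat.find hex) fun e => by
    have h0 := Nat.find_spec hex
    rw [e, derivedSeries_zero] at h0
    haveI : Subsingleton U := ⟨fun a b => by
      have ha : a ∈ (⊥ : Subgroup U) := h0 ▸ Subgroup.mem_top a
      have hb : b ∈ (⊥ : Subgroup U) := h0 ▸ Subgroup.mem_top b
      rw [Subgroup.mem_bot.mp ha, Subgroup.mem_bot.mp hb]⟩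
    exact hU (Subgroup.eq_bot_of_subsingleton _)
  have hk0 : derivedSeries U k ≠ ⊥ := Nat.find_min hex (by omega)
  have hk1 : derivedSeries U (k + 1) = ⊥ := by
    have := Nat.find_spec hex
    rwa [hk] at this
  refine ⟨(derivedSeries U k).map U.subtype, Subgroup.map_subtype_le _,
    fun e => hk0 ((Subgroup.map_eq_bot_iff_of_injective _ U.subtype_injective).mp e), ?_, ?_⟩
  · rintro _ ⟨a, ha, rfl⟩ _ ⟨b, hb, rfl⟩
    rw [derivedSeries_succ, Subgroup.commutator_eq_bot_iff_le_centralizer] at hk1
    exact congrArg Subtype.val (Subgroup.mem_centralizer_iff.mp (hk1 hb) a ha)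
  · rintro g hg _ ⟨m, hm, rfl⟩
    let f : U →* U := ((MulAut.conj g).toMonoidHom.comp U.subtype).codRestrict U fun u => (hg u).mp u.2
    have hf : Function.Surjective f := Finite.surjective_of_injective fun a b e =>
      Subtype.ext ((MulAut.conj g).injective (congrArg Subtype.val e))
    have h := map_derivedSeries_eq (f := f) hf k
    exact ⟨f m, h ▸ Subgroup.mem_map_of_mem _ hm, rfl⟩

/-- The bound on odd order subgroups of the derived group of a normalising matrix group. -/
theorem mat_bound (hr2 : r ≠ 2) (Cb U : Subgroup GL2) (hU : U ≤ ⁅Cb, Cb⁆)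
    (hn : ∀ g ∈ Cb, ∀ u, u ∈ U ↔ g * u * g⁻¹ ∈ U) (hodd : Odd (Nat.card U)) :
    IsPGroup r U ∨ (¬ r ∣ Nat.card U ∧ 2 * Nat.card U ≤ r + 1 ∧ ∀ a ∈ U, ∀ b ∈ U, a * b = b * a) := by
  classical
  by_cases hbot : U = ⊥
  · left; rw [hbot]; exact IsPGroup.of_bot
  haveI : Group.IsSolvable U := CfsgLib.OddOrder.feitThompson hodd
  have hdet : ∀ u ∈ U, (u : M2).det = 1 := by
    intro u hu
    have h : ⁅Cb, Cb⁆ ≤ (Matrix.GeneralLinearGroup.det : GL2 →* (ZMod r)ˣ).ker :=
      Subgroup.commutator_le.mpr fun a _ b _ => by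
        rw [MonoidHom.mem_ker, map_commutatorElement, commutatorElement_eq_one_iff_mul_comm, mul_comm]
    exact congrArg Units.val (MonoidHom.mem_ker.mp (h (hU hu)))
  have hlift : ∀ u ∈ U, ∃ s : SL, Matrix.SpecialLinearGroup.toGL s = u := fun u hu =>
    ⟨⟨u.1, hdet u hu⟩, Units.ext rfl⟩
  have hinj : Function.Injective (Matrix.SpecialLinearGroup.toGL : SL →* GL2) := fun a b e =>
    Subtype.ext (congrArg Units.val e)
  have hord : ∀ s : SL, Matrix.SpecialLinearGroup.toGL s ∈ U → Odd (orderOf s) := fun s hs => by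
    rw [← orderOf_injective _ hinj s]
    exact hodd.of_dvd_nat (Subgroup.orderOf_dvd_natCard _ hs)
  obtain ⟨M, hMU, hMne, hMab, hMn⟩ := exists_abelian_sub U hbot
  obtain ⟨m, hm, hm1⟩ := (Subgroup.bot_or_exists_ne_one M).resolve_left hMne
  obtain ⟨s, rfl⟩ := hlift m (hMU hm)
  have hs1 : s ≠ 1 := fun e => hm1 (by rw [e, map_one])
  by_cases ht : s.1.trace ^ 2 = 4
  · left
    obtain ⟨-, hN⟩ := pow_eq_one_of_trace hr2 (hord s (hMU hm)) ht
    set N := s.1 - (1 : M2)
    have hN0 : N ≠ 0 := fun e => hs1 (Subtype.ext (sub_eq_zero.mp e))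
    have hns : ∀ a : ZMod r, s.1 ≠ a • (1 : M2) := fun a e => hN0 (by
      have hz : a - 1 = 0 := by
        have := congrFun (congrFun hN 0) 0
        simpa [N, e, Matrix.mul_apply, Fin.sum_univ_two] using this
      simp [N, e, sub_eq_zero.mp hz])
    -- every element of `Cb` maps `N` to a multiple of itself
    have key : ∀ g ∈ Cb, ∃ y : ZMod r, (g : M2) * N = y • (N * (g : M2)) := fun g hg => by
      have hgm := hMn g (fun u => hn g hg u) _ hm
      obtain ⟨n, hn'⟩ : ∃ n : GL2, n = g * Matrix.SpecialLinearGroup.toGL s * g⁻¹ := ⟨_, rfl⟩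
      rw [← hn'] at hgm
      have hc : Commute (n : M2) s.1 := congrArg Units.val (hMab _ hgm _ hm)
      obtain ⟨x, y, hxy⟩ := SL2Centralizer.exists_of_commute hns hc
      have hgN : (g : M2) * N = ((n : M2) - 1) * (g : M2) := by
        have e : n * g = g * Matrix.SpecialLinearGroup.toGL s := by rw [hn']; group
        have e' := congrArg Units.val e
        rw [Units.val_mul, Units.val_mul] at e'
        rw [sub_mul, e', mul_sub, mul_one, one_mul]
        rfl
      have hn2 : ((n : M2) - 1) * ((n : M2) - 1) = 0 := by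
        have h1 : ((n : M2) - 1) * (g : M2) * N = 0 := by rw [← hgN, mul_assoc, hN, mul_zero]
        rw [mul_assoc, hgN, ← mul_assoc] at h1
        simpa [mul_assoc] using congrArg (fun A : M2 => A * ((g⁻¹ : GL2) : M2)) h1
      have hform : (n : M2) - 1 = (x + y - 1) • (1 : M2) + y • N := by
        rw [hxy]; simp only [N, add_smul, sub_smul, one_smul, smul_sub]; abel
      have hz : (x + y - 1) • ((x + y - 1) • (1 : M2) + (2 * y) • N) = 0 := by
        rw [← hn2, hform]
        simp only [add_mul, mul_add, Matrix.smul_mul, Matrix.mul_smul, smul_smul, one_mul, mul_one, hN,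
          smul_zero, add_zero, smul_add, add_assoc, ← add_smul]
        ring_nf
      have htrN : N.trace = 0 := by
        have h4 : s.1.trace = 2 := by
          have := congrArg Matrix.trace hN
          rw [cayley, Matrix.trace_sub, Matrix.trace_smul, Matrix.trace_smul, Matrix.trace_one, Matrix.trace_zero]
            at this
          have hd : N.det = 0 := by
            have := congrArg Matrix.det hN
            rw [Matrix.det_mul, Matrix.det_zero] at this
            exact mul_self_eq_zero.mp this
          rw [hd, zero_smul, sub_zero, smul_eq_mul] at this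
          have h0 : N.trace = 0 := mul_self_eq_zero.mp this
          simp [N, Matrix.trace_sub] at h0
          linear_combination h0
        simp [N, Matrix.trace_sub, h4]
      have hxy0 : x + y - 1 = 0 := by
        have h := congrArg Matrix.trace hz
        rw [Matrix.trace_smul, Matrix.trace_add, Matrix.trace_smul, Matrix.trace_smul, Matrix.trace_one,
          Matrix.trace_zero, htrN] at h
        simp only [smul_eq_mul, mul_zero, add_zero, Fintype.card_fin, Nat.cast_ofNat] at h
        rw [← mul_assoc] at h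
        exact mul_self_eq_zero.mp ((mul_eq_zero.mp h).resolve_right (two_ne hr2))
      rw [hxy0, zero_smul, zero_add] at hform
      exact ⟨y, by rw [hgN, hform, Matrix.smul_mul]⟩
    have hcomm : ∀ u ∈ ⁅Cb, Cb⁆, (u : M2) * N = N * (u : M2) := by
      let T : Subgroup GL2 :=
        { carrier := {g | (g : M2) * N = N * (g : M2)}
          one_mem' := by simp
          mul_mem' := fun {a b} ha hb => by
            show (a.1 * b.1) * N = N * (a.1 * b.1)
            rw [mul_assoc, hb, ← mul_assoc, ha, mul_assoc]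
          inv_mem' := fun {a} ha => by
            have h : Commute (a : M2) N := ha
            exact h.units_inv_left.eq }
      have hle : ⁅Cb, Cb⁆ ≤ T := Subgroup.commutator_le.mpr fun g hg h hh => by
        obtain ⟨y, hy⟩ := key g hg
        obtain ⟨z, hz⟩ := key h hh
        show ((⁅g, h⁆ : GL2) : M2) * N = N * ((⁅g, h⁆ : GL2) : M2)
        have hgh : ((g * h : GL2) : M2) * N = (z * y) • (N * ((g * h : GL2) : M2)) := by
          rw [Units.val_mul, mul_assoc, hz, Matrix.mul_smul, ← mul_assoc, hy, Matrix.smul_mul, smul_smul, mul_assoc]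
        have hhg : ((h * g : GL2) : M2) * N = (z * y) • (N * ((h * g : GL2) : M2)) := by
          rw [Units.val_mul, mul_assoc, hy, Matrix.mul_smul, ← mul_assoc, hz, Matrix.smul_mul, smul_smul, mul_assoc,
            mul_comm y z]
        have hzy : z * y ≠ 0 := fun e => by
          rw [e, zero_smul] at hgh
          have h1 := congrArg (fun A : M2 => ((g * h : GL2)⁻¹ : GL2).1 * A) hgh
          simp only [← mul_assoc, Units.inv_mul, one_mul, mul_zero] at h1
          exact hN0 h1
        have hinv : (((h * g : GL2)⁻¹ : GL2) : M2) * N = (z * y)⁻¹ • (N * (((h * g : GL2)⁻¹ : GL2) : M2)) := by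
          have h1 := congrArg (fun A : M2 => ((h * g : GL2)⁻¹ : GL2).1 * A * ((h * g : GL2)⁻¹ : GL2).1) hhg
          simp only [Matrix.mul_smul, Matrix.smul_mul, ← mul_assoc, Units.inv_mul, one_mul] at h1
          simp only [mul_assoc, Units.mul_inv, mul_one] at h1
          rw [h1, smul_smul, inv_mul_cancel₀ hzy, one_smul]
        rw [show (⁅g, h⁆ : GL2) = g * h * (h * g)⁻¹ by rw [commutatorElement_def]; group,
          Units.val_mul, mul_assoc, hinv, Matrix.mul_smul, ← mul_assoc, hgh, Matrix.smul_mul, smul_smul,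
          inv_mul_cancel₀ hzy, one_smul, mul_assoc]
      exact fun u hu => hle hu
    intro ⟨u, hu⟩
    refine ⟨1, Subtype.ext ?_⟩
    show u ^ r ^ 1 = 1
    obtain ⟨a, rfl⟩ := hlift u hu
    rw [pow_one, ← map_pow]
    have hca : Commute a.1 s.1 := by
      have h : a.1 * N = N * a.1 := hcomm _ (hU hu)
      simp only [N, mul_sub, sub_mul, mul_one, one_mul, sub_left_inj] at h
      exact h
    suffices hat : a.1.trace ^ 2 = 4 by rw [(pow_eq_one_of_trace hr2 (hord a hu) hat).1, map_one]
    by_contra hat
    obtain ⟨hnr, -, -⟩ := card_cent hr2 hat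
    have hsmem : s ∈ Subgroup.centralizer ({a} : Set SL) :=
      Subgroup.mem_centralizer_singleton_iff.mpr (Subtype.ext hca.symm.eq)
    have hso : orderOf s = r := orderOf_eq_prime (pow_eq_one_of_trace hr2 (hord s (hMU hm)) ht).1 hs1
    exact hnr ((dvd_of_eq hso.symm).trans (Subgroup.orderOf_dvd_natCard _ hsmem))
  · right
    obtain ⟨hnr, hev, hle⟩ := card_cent hr2 ht
    have hsub : U.comap Matrix.SpecialLinearGroup.toGL ≤ Subgroup.centralizer ({s} : Set SL) := fun a ha => by
      have ha' : Matrix.SpecialLinearGroup.toGL a ∈ U := ha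
      have hconj : ∀ u ∈ U, ∀ x, x ∈ U ↔ u * x * u⁻¹ ∈ U := fun u hu x =>
        ⟨fun hx => mul_mem (mul_mem hu hx) (inv_mem hu), fun hx => by
          have := mul_mem (mul_mem (inv_mem hu) hx) hu
          simpa [mul_assoc] using this⟩
      have hx := hMn _ (hconj _ ha') _ hm
      rw [← map_inv, ← map_mul, ← map_mul] at hx
      have hc : Commute (a * s * a⁻¹).1 s.1 := congrArg Units.val (hMab _ hx _ hm)
      have htr : (a * s * a⁻¹).1.trace = s.1.trace := by
        rw [Matrix.SpecialLinearGroup.coe_mul, Matrix.trace_mul_comm, ← Matrix.SpecialLinearGroup.coe_mul,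
          inv_mul_cancel_left]
      have h2 : Commute (a ^ 2) s := by
        rcases eq_or_inv hr2 ht hc htr with e | e
        · exact Commute.pow_left (mul_inv_eq_iff_eq_mul.mp e) 2
        · refine mul_inv_eq_iff_eq_mul.mp ?_
          calc a ^ 2 * s * (a ^ 2)⁻¹ = a * (a * s * a⁻¹) * a⁻¹ := by simp [sq, mul_assoc]
            _ = a * s⁻¹ * a⁻¹ := by rw [e]
            _ = (a * s * a⁻¹)⁻¹ := by group
            _ = s := by rw [e, inv_inv]
      obtain ⟨j, hj⟩ := hord a ha'
      have h3 := h2.pow_left (j + 1)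
      rw [← pow_mul, show 2 * (j + 1) = orderOf a + 1 by omega, pow_succ, pow_orderOf_eq_one, one_mul] at h3
      exact Subgroup.mem_centralizer_singleton_iff.mpr h3.eq
    have hUle : U ≤ (Matrix.SpecialLinearGroup.toGL : SL →* GL2).range := fun u hu => hlift u hu
    have hcard : Nat.card (U.comap (Matrix.SpecialLinearGroup.toGL : SL →* GL2)) = Nat.card U := by
      rw [← Subgroup.card_map_of_injective hinj, Subgroup.map_comap_eq_self hUle]
    have hd := Subgroup.card_dvd_of_le hsub
    rw [hcard] at hd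
    refine ⟨fun h => hnr (h.trans hd), ?_, fun a ha b hb => ?_⟩
    swap
    · obtain ⟨x, rfl⟩ := hUle ha
      obtain ⟨y, rfl⟩ := hUle hb
      have hxs : x * s = s * x := Subgroup.mem_centralizer_singleton_iff.mp
        (hsub (show x ∈ U.comap Matrix.SpecialLinearGroup.toGL from ha))
      have hys : y * s = s * y := Subgroup.mem_centralizer_singleton_iff.mp
        (hsub (show y ∈ U.comap Matrix.SpecialLinearGroup.toGL from hb))
      obtain ⟨c, d, hx⟩ := SL2Centralizer.exists_of_commute (SL2Centralizer.not_scalar_of_trace ht)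
        (C := x.1) (congrArg Subtype.val hxs)
      obtain ⟨c', d', hy⟩ := SL2Centralizer.exists_of_commute (SL2Centralizer.not_scalar_of_trace ht)
        (C := y.1) (congrArg Subtype.val hys)
      rw [← map_mul, ← map_mul]
      refine congrArg _ (Subtype.ext ?_)
      show x.1 * y.1 = y.1 * x.1
      rw [hx, hy]
      simp only [mul_add, add_mul, Matrix.smul_mul, Matrix.mul_smul, smul_smul, Matrix.one_mul, Matrix.mul_one]
      rw [mul_comm c c', mul_comm c d', mul_comm d c', mul_comm d d']
      abel
    obtain ⟨j, hj⟩ := hd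
    have hj2 : 2 ≤ j := by
      rcases Nat.lt_or_ge j 2 with h | h
      · interval_cases j
        · have := (Nat.card_pos : 0 < Nat.card (Subgroup.centralizer ({s} : Set SL))); omega
        · rw [mul_one] at hj
          rw [hj] at hev
          exact absurd hev (Nat.not_even_iff_odd.mpr hodd)
      · exact h
    nlinarith

/-- The bound for a group acting on an elementary abelian group of order `r²`. -/
theorem image_bound_comm {C : Type*} [Group C] [Finite C] {V : Type*} [CommGroup V] [Finite V] (hr2 : r ≠ 2)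
    (hc : Nat.card V = r ^ 2) (hexp : ∀ x : V, x ^ r = 1) (ρ : C →* MulAut V) (K : Subgroup C) [K.Normal]
    (hK : Odd (Nat.card K)) (hK' : K ≤ commutator C) :
    IsPGroup r (K.map ρ) ∨ (¬ r ∣ Nat.card (K.map ρ) ∧ 2 * Nat.card (K.map ρ) ≤ r + 1 ∧
      ∀ a ∈ K.map ρ, ∀ b ∈ K.map ρ, a * b = b * a) := by
  classical
  letI : Module (ZMod r) (Additive V) := AddCommGroup.zmodModule (n := r) (G := Additive V) hexp
  haveI : Finite (Additive V) := (inferInstance : Finite V)
  haveI : Module.Finite (ZMod r) (Additive V) := Module.Finite.of_finite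
  have hfr : Module.finrank (ZMod r) (Additive V) = 2 := by
    have := Module.natCard_eq_pow_finrank (K := ZMod r) (V := Additive V)
    rw [show Nat.card (Additive V) = Nat.card V from rfl, hc, Nat.card_zmod] at this
    exact (Nat.pow_right_injective (Fact.out : r.Prime).two_le this.symm)
  let b : Module.Basis (Fin 2) (ZMod r) (Additive V) := Module.finBasisOfFinrankEq (ZMod r) (Additive V) hfr
  let f : MulAut V →* GL2 :=
    (Units.mapEquiv (LinearMap.toMatrixAlgEquiv b).toMulEquiv).toMonoidHom.comp
    { toFun := fun σ => (LinearMap.GeneralLinearGroup.generalLinearEquiv (ZMod r) (Additive V)).symm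
        (LinearEquiv.ofBijective (AddMonoidHom.toZModLinearMap r (MonoidHom.toAdditive σ.toMonoidHom))
          σ.bijective)
      map_one' := Units.ext (LinearMap.ext fun w => rfl)
      map_mul' := fun σ τ => Units.ext (LinearMap.ext fun w => rfl) }
  have hf : Function.Injective f := by
    refine (Units.mapEquiv (LinearMap.toMatrixAlgEquiv b).toMulEquiv).injective.comp ?_
    intro σ τ e
    ext x
    exact congrArg (fun u : (Module.End (ZMod r) (Additive V))ˣ => Additive.toMul (u.1 (Additive.ofMul x))) e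
  have hcard : Nat.card ((K.map ρ).map f) = Nat.card (K.map ρ) := Subgroup.card_map_of_injective hf
  rcases mat_bound hr2 (f.comp ρ).range ((K.map ρ).map f) (by
      rw [Subgroup.map_map, MonoidHom.range_eq_map, ← Subgroup.map_commutator]
      exact Subgroup.map_mono hK') (by
      rintro _ ⟨c, rfl⟩ u
      rw [Subgroup.map_map]
      constructor
      · rintro ⟨k, hk, rfl⟩
        exact ⟨c * k * c⁻¹, (inferInstance : K.Normal).conj_mem k hk c, by simp⟩
      · rintro ⟨k, hk, he⟩
        refine ⟨c⁻¹ * k * c, by simpa using (inferInstance : K.Normal).conj_mem k hk c⁻¹, ?_⟩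
        simp only [map_mul, map_inv, he]
        group) (by rw [hcard]; exact hK.of_dvd_nat (Subgroup.card_map_dvd _ ρ)) with h | h
  · exact Or.inl (h.of_injective (f.subgroupMap (K.map ρ)) fun a b e =>
      Subtype.ext (hf (congrArg Subtype.val e)))
  · rw [hcard] at h
    refine Or.inr ⟨h.1, h.2.1, fun a ha b hb => hf ?_⟩
    rw [map_mul, map_mul]
    exact h.2.2 _ ⟨a, ha, rfl⟩ _ ⟨b, hb, rfl⟩

/-- The same without assuming commutativity. -/
theorem image_bound {C : Type*} [Group C] [Finite C] {V : Type*} [Group V] [Finite V] (hr2 : r ≠ 2)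
    (hc : Nat.card V = r ^ 2) (hexp : ∀ x : V, x ^ r = 1) (ρ : C →* MulAut V) (K : Subgroup C) [K.Normal]
    (hK : Odd (Nat.card K)) (hK' : K ≤ commutator C) :
    IsPGroup r (K.map ρ) ∨ (¬ r ∣ Nat.card (K.map ρ) ∧ 2 * Nat.card (K.map ρ) ≤ r + 1 ∧
      ∀ a ∈ K.map ρ, ∀ b ∈ K.map ρ, a * b = b * a) := by
  letI : CommGroup V :=
    { (inferInstance : Group V) with mul_comm := IsPGroup.isMulCommutative_of_card_eq_prime_sq hc |>.is_comm.comm }
  exact image_bound_comm hr2 hc hexp ρ K hK hK'

end CfsgLib.GW.IIbLin
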