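import Cfsg.Agent.Lib.BenderMax.LeadsTo
import Cfsg.Agent.Lib.CentralizeOmega
import Cfsg.Agent.Lib.PSolvable
import Cfsg.Agent.Lib.OddBase.Act
import Cfsg.Agent.Lib.GW.IIb.FinalLin

/-!
Coprime action and Fitting subgroup lemmas for the endgame of (IIb).

* `exists_pow_coprime`: the `r'`-part of an element as a power;
* `mem_fitting_of_comm`: the Fitting subgroup of a solvable group is self-centralising;
* `commutator_centralizes_cyclic`;
* `omega_pair`: the elements of order `r` in a product of two cyclic `r`-groups;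
* `exists_bound_omega`, `exists_bound_section`: the bound of `FinalLin` on `Ω₁` and on a central quotient.
-/

set_option autoImplicit false
set_option linter.unusedSectionVars false
set_option linter.style.haveILetI false
set_option linter.unusedVariables false

namespace CfsgLib.GW.IIbFit

open Cfsg
open CfsgLib.BenderMax (OO FF)
open scoped commutatorElement

universe u

variable {G : Type u} [Group G] [Finite G]

theorem exists_pow_coprime {r : ℕ} (hr : r.Prime) (x : G) :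
    ∃ a : ℕ, ∀ b, a ≤ b → (orderOf (x ^ r ^ b)).Coprime r := by
  obtain ⟨a, m, hm, he⟩ := Nat.exists_eq_pow_mul_and_not_dvd (orderOf_pos x).ne' r hr.ne_one
  refine ⟨a, fun b hb => ?_⟩
  refine Nat.Coprime.coprime_dvd_left (orderOf_dvd_of_pow_eq_one (n := m) ?_)
    (hr.coprime_iff_not_dvd.mpr hm).symm
  rw [← pow_mul]
  refine orderOf_dvd_iff_pow_eq_one.mp ?_
  rw [he]
  exact mul_dvd_mul_right (pow_dvd_pow r hb) m

theorem prime_dvd_card_of_OO_ne {C : Subgroup G} {r : ℕ} (hr : r.Prime) (h : OO r C ≠ ⊥) :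
    r ∣ Nat.card (OO r C) := by
  haveI := Fact.mk hr
  obtain ⟨k, hk⟩ := (BenderMax.OO_isPGroup r C).exists_card_eq
  rw [hk]
  exact dvd_pow_self r fun e => h (Subgroup.eq_bot_of_card_eq _ (by rw [hk, e, pow_zero]))

/-- In a solvable group an element centralising every `O_r` lies in the Fitting subgroup. -/
theorem mem_fitting_of_comm {C : Subgroup G} (hsol : Group.IsSolvable C) {x : G} (hxC : x ∈ C)
    (h : ∀ r : ℕ, r.Prime → ∀ y ∈ OO r C, x * y = y * x) :
    x ∈ FF C ∧ ∀ l : ℕ, l.Prime → l ∣ orderOf x → OO l C ≠ ⊥ := by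
  haveI := hsol
  have hFc : FF C ≤ Subgroup.centralizer ({x} : Set G) :=
    BenderMax.FF_le_of_primes fun r hr _ y hy => Subgroup.mem_centralizer_singleton_iff.mpr (h r hr y hy).symm
  have hmem : (⟨x, hxC⟩ : C) ∈ fittingSubgroup C :=
    CfsgLib.centralizer_fitting_le_of_solvable (G := C) (Subgroup.mem_centralizer_iff.mpr fun y hy =>
      Subtype.ext (Subgroup.mem_centralizer_singleton_iff.mp (hFc ⟨y, hy, rfl⟩)))
  refine ⟨⟨_, hmem, rfl⟩, fun l hl hd => ?_⟩
  haveI := Fact.mk hl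
  haveI hnil := CfsgLib.isNilpotent_fittingSubgroup (G := C)
  have hdF : l ∣ Nat.card (fittingSubgroup C) := by
    refine hd.trans ?_
    rw [← Subgroup.orderOf_mk x hxC]
    exact Subgroup.orderOf_dvd_natCard _ hmem
  obtain ⟨Z, hZ, hZle, -⟩ := BenderMax.center_OO C hl hdF
  exact fun e => hZ (le_bot_iff.mp (e ▸ hZle))

/-- The derived group of a group normalising a cyclic group centralises it. -/
theorem commutator_centralizes_cyclic {C Q : Subgroup G} (hQ : IsCyclic Q)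
    (hn : C ≤ Subgroup.normalizer (Q : Set G)) : ∀ x ∈ ⁅C, C⁆, ∀ y ∈ Q, x * y = y * x := by
  obtain ⟨g, hg⟩ := IsCyclic.exists_generator (α := Q)
  have hpow : ∀ c ∈ C, ∃ i : ℤ, ∀ y ∈ Q, c * y * c⁻¹ = y ^ i := fun c hc => by
    obtain ⟨i, hi⟩ := Subgroup.mem_zpowers_iff.mp
      (hg ⟨c * g * c⁻¹, (Subgroup.mem_normalizer_iff.mp (hn hc) g).mp g.2⟩)
    refine ⟨i, fun y hy => ?_⟩
    obtain ⟨j, hj⟩ := Subgroup.mem_zpowers_iff.mp (hg ⟨y, hy⟩)
    have hj' : (g : G) ^ j = y := congrArg Subtype.val hj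
    have hi' : (g : G) ^ i = c * g * c⁻¹ := congrArg Subtype.val hi
    rw [← hj', ← conj_zpow, ← hi', ← zpow_mul, ← zpow_mul, mul_comm i j]
  let T : Subgroup G :=
    { carrier := {x | ∀ y ∈ Q, x * y = y * x}
      one_mem' := fun y _ => by rw [one_mul, mul_one]
      mul_mem' := fun {a b} ha hb y hy => by rw [mul_assoc, hb y hy, ← mul_assoc, ha y hy, mul_assoc]
      inv_mem' := fun {a} ha y hy => ((show Commute a y from ha y hy).inv_left).eq }
  have hle : ⁅C, C⁆ ≤ T := Subgroup.commutator_le.mpr fun a ha b hb y hy => by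
    obtain ⟨i, hi⟩ := hpow a ha
    obtain ⟨j, hj⟩ := hpow b hb
    have hyj := Subgroup.zpow_mem _ hy j
    have hyi := Subgroup.zpow_mem _ hy i
    have e1 : ∀ y ∈ Q, a * b * y * (a * b)⁻¹ = b * a * y * (b * a)⁻¹ := fun y hy => by
      calc a * b * y * (a * b)⁻¹ = a * (b * y * b⁻¹) * a⁻¹ := by group
        _ = (y ^ j) ^ i := by rw [hj y hy, hi _ (Subgroup.zpow_mem _ hy j)]
        _ = (y ^ i) ^ j := by rw [← zpow_mul, ← zpow_mul, mul_comm]
        _ = b * (a * y * a⁻¹) * b⁻¹ := by rw [hi y hy, hj _ (Subgroup.zpow_mem _ hy i)]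
        _ = b * a * y * (b * a)⁻¹ := by group
    have hy' : (b * a)⁻¹ * y * (b * a) ∈ Q := by
      have hm : b * a ∈ Subgroup.normalizer (Q : Set G) := hn (mul_mem hb ha)
      have := (Subgroup.mem_normalizer_iff.mp (inv_mem hm) y).mp hy
      simpa using this
    refine mul_inv_eq_iff_eq_mul.mp ?_
    calc ⁅a, b⁆ * y * ⁅a, b⁆⁻¹ = a * b * ((b * a)⁻¹ * y * (b * a)) * (a * b)⁻¹ := by
          rw [commutatorElement_def]; group
      _ = b * a * ((b * a)⁻¹ * y * (b * a)) * (b * a)⁻¹ := e1 _ hy'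
      _ = y := by group
  exact fun x hx => hle hx

/-- The solutions of `x ^ r = 1` in a cyclic group containing an element of order `r`. -/
theorem mem_zpowers_of_cyclic {A : Subgroup G} [IsCyclic A] {r : ℕ} (hr : 0 < r) {a x : G} (ha : a ∈ A)
    (hao : orderOf a = r) (hx : x ∈ A) (hx1 : x ^ r = 1) : x ∈ Subgroup.zpowers a := by
  classical
  haveI := Fintype.ofFinite A
  set F := Finset.univ.filter fun c : A => c ^ r = 1
  have hcard : F.card ≤ r := IsCyclic.card_pow_eq_one_le hr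
  have hsub : (Finset.univ.filter fun c : A => (c : G) ∈ Subgroup.zpowers a) ⊆ F := fun c hc => by
    rw [Finset.mem_filter] at hc ⊢
    obtain ⟨i, hi⟩ := Subgroup.mem_zpowers_iff.mp hc.2
    refine ⟨Finset.mem_univ _, Subtype.ext ?_⟩
    rw [Subgroup.coe_pow, ← hi, ← zpow_natCast, ← zpow_mul, mul_comm, zpow_mul, zpow_natCast, ← hao,
      pow_orderOf_eq_one, one_zpow]
    rfl
  have hz : (Finset.univ.filter fun c : A => (c : G) ∈ Subgroup.zpowers a).card = r := by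
    rw [← hao, ← Nat.card_zpowers, ← Fintype.card_subtype, ← Nat.card_eq_fintype_card]
    exact Nat.card_congr
      { toFun := fun c => ⟨(c.1 : G), c.2⟩
        invFun := fun c => ⟨⟨c.1, (Subgroup.zpowers_le.mpr ha) c.2⟩, c.2⟩
        left_inv := fun c => rfl
        right_inv := fun c => rfl }
  have he := Finset.eq_of_subset_of_card_le hsub (hcard.trans hz.ge)
  have hxF : (⟨x, hx⟩ : A) ∈ F := Finset.mem_filter.mpr ⟨Finset.mem_univ _, Subtype.ext hx1⟩
  rw [← he, Finset.mem_filter] at hxF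
  exact hxF.2

theorem exists_order {A : Subgroup G} {r : ℕ} (hr : r.Prime) (hA : IsPGroup r A) (hne : A ≠ ⊥) :
    ∃ a ∈ A, orderOf a = r := by
  haveI := Fact.mk hr
  obtain ⟨k, hk⟩ := hA.exists_card_eq
  have hd : r ∣ Nat.card A := by
    rw [hk]; exact dvd_pow_self r fun e => hne (Subgroup.eq_bot_of_card_eq _ (by rw [hk, e, pow_zero]))
  obtain ⟨a, ha⟩ := exists_prime_orderOf_dvd_card' r hd
  exact ⟨a, a.2, by rw [Subgroup.orderOf_coe]; exact ha⟩

/-- An element of a product of commuting groups. -/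
theorem exists_mul_of_sup {A B : Subgroup G} (hc : ∀ a ∈ A, ∀ b ∈ B, a * b = b * a) {x : G} (hx : x ∈ A ⊔ B) :
    ∃ a ∈ A, ∃ b ∈ B, x = a * b := by
  have hn : B ≤ Subgroup.normalizer (A : Set G) := fun b hb => Subgroup.mem_normalizer_fintype fun a ha => by
    rw [← hc a ha b hb, mul_inv_cancel_right]
    exact ha
  have hx' : x ∈ ((A ⊔ B : Subgroup G) : Set G) := hx
  rw [Subgroup.coe_mul_of_right_le_normalizer_left A B hn] at hx'
  obtain ⟨a, ha, b, hb, rfl⟩ := hx'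
  exact ⟨a, ha, b, hb, rfl⟩

/-- The elements `x` with `x ^ r = 1` in a product of two cyclic groups meeting trivially. -/
theorem omega_pair {A B : Subgroup G} [IsCyclic A] [IsCyclic B] (hc : ∀ a ∈ A, ∀ b ∈ B, a * b = b * a)
    (hmeet : A ⊓ B = ⊥) {r : ℕ} (hr : 0 < r) {a b x : G} (ha : a ∈ A) (hao : orderOf a = r) (hb : b ∈ B)
    (hbo : orderOf b = r) (hx : x ∈ A ⊔ B) (hx1 : x ^ r = 1) :
    x ∈ Subgroup.zpowers a ⊔ Subgroup.zpowers b := by
  obtain ⟨α, hα, β, hβ, rfl⟩ := exists_mul_of_sup hc hx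
  rw [(show Commute α β from hc α hα β hβ).mul_pow] at hx1
  have hα1 : α ^ r ∈ A ⊓ B := ⟨pow_mem hα r, by
    rw [eq_inv_of_mul_eq_one_left hx1]; exact B.inv_mem (B.pow_mem hβ r)⟩
  rw [hmeet, Subgroup.mem_bot] at hα1
  rw [hα1, one_mul] at hx1
  exact Subgroup.mul_mem_sup (mem_zpowers_of_cyclic hr ha hao hα hα1) (mem_zpowers_of_cyclic hr hb hbo hβ hx1)

/-- A group generated by two commuting elements of order `r` meeting trivially. -/
theorem card_pair {r : ℕ} {a b : G} (hab : a * b = b * a) (hao : orderOf a = r) (hbo : orderOf b = r)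
    (hmeet : Subgroup.zpowers a ⊓ Subgroup.zpowers b = ⊥) :
    Nat.card (Subgroup.zpowers a ⊔ Subgroup.zpowers b : Subgroup G) = r ^ 2 ∧
      ∀ x ∈ Subgroup.zpowers a ⊔ Subgroup.zpowers b, x ^ r = 1 := by
  have hc : ∀ u ∈ Subgroup.zpowers a, ∀ w ∈ Subgroup.zpowers b, u * w = w * u := by
    intro u hu w hw
    obtain ⟨i, rfl⟩ := Subgroup.mem_zpowers_iff.mp hu
    obtain ⟨j, rfl⟩ := Subgroup.mem_zpowers_iff.mp hw
    exact ((show Commute a b from hab).zpow_zpow i j).eq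
  refine ⟨?_, fun x hx => ?_⟩
  · let e : Subgroup.zpowers a × Subgroup.zpowers b → (Subgroup.zpowers a ⊔ Subgroup.zpowers b : Subgroup G) :=
      fun p => ⟨p.1 * p.2, Subgroup.mul_mem_sup p.1.2 p.2.2⟩
    have he : Function.Bijective e := by
      constructor
      · rintro ⟨⟨u, hu⟩, ⟨w, hw⟩⟩ ⟨⟨u', hu'⟩, ⟨w', hw'⟩⟩ h
        have h' : u * w = u' * w' := congrArg Subtype.val h
        have hm : u'⁻¹ * u ∈ Subgroup.zpowers a ⊓ Subgroup.zpowers b := ⟨(Subgroup.zpowers a).mul_mem ((Subgroup.zpowers a).inv_mem hu') hu, by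
          rw [show u'⁻¹ * u = w' * w⁻¹ by
            rw [inv_mul_eq_iff_eq_mul, ← mul_assoc, ← h', mul_inv_cancel_right]]
          exact (Subgroup.zpowers b).mul_mem hw' ((Subgroup.zpowers b).inv_mem hw)⟩
        rw [hmeet, Subgroup.mem_bot, inv_mul_eq_one] at hm
        subst hm
        obtain rfl := mul_left_cancel h'
        rfl
      · rintro ⟨x, hx⟩
        obtain ⟨u, hu, w, hw, rfl⟩ := exists_mul_of_sup hc hx
        exact ⟨(⟨u, hu⟩, ⟨w, hw⟩), rfl⟩
    rw [← Nat.card_congr (Equiv.ofBijective e he), Nat.card_prod, Nat.card_zpowers, Nat.card_zpowers, hao, hbo, sq]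
  · obtain ⟨u, hu, w, hw, rfl⟩ := exists_mul_of_sup hc hx
    obtain ⟨i, rfl⟩ := Subgroup.mem_zpowers_iff.mp hu
    obtain ⟨j, rfl⟩ := Subgroup.mem_zpowers_iff.mp hw
    have key : ∀ (c : G) (k : ℤ), orderOf c = r → (c ^ k) ^ r = 1 := fun c k hc => by
      rw [← zpow_natCast, ← zpow_mul, mul_comm, zpow_mul, zpow_natCast, ← hc, pow_orderOf_eq_one, one_zpow]
    rw [((show Commute a b from hab).zpow_zpow i j).mul_pow, key a i hao, key b j hbo, one_mul]

/-- The shape of the bound: powers of `c` and `r'`-parts of elements of `K` centralise `V`. -/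
theorem exists_bound_omega {r : ℕ} (hr : r.Prime) (hr2 : r ≠ 2) {C K V P : Subgroup G} (hKC : K ≤ C)
    (hKn : C ≤ Subgroup.normalizer (K : Set G)) (hK : Odd (Nat.card K)) (hK' : K ≤ ⁅C, C⁆)
    (hVn : C ≤ Subgroup.normalizer (V : Set G)) (hV : Nat.card V = r ^ 2) (hexp : ∀ x ∈ V, x ^ r = 1)
    (hP : IsPGroup r P) (hPn : C ≤ Subgroup.normalizer (P : Set G)) (hom : ∀ x ∈ P, x ^ r = 1 → x ∈ V) :
    ∃ c : ℕ, 0 < c ∧ 2 * c ≤ r + 1 ∧ ∀ x ∈ K, ∃ a : ℕ, ∀ b, a ≤ b → ∀ y ∈ P,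
      x ^ (c * r ^ b) * y = y * x ^ (c * r ^ b) := by
  haveI := Fact.mk hr
  have hr3 : 3 ≤ r := by have := hr.two_le; omega
  let ρ : C →* MulAut V := V.normalizerMonoidHom.comp (Subgroup.inclusion hVn)
  haveI : (K.subgroupOf C).Normal := ⟨fun k hk g =>
    (Subgroup.mem_normalizer_iff.mp (hKn g.2) (k : G)).mp hk⟩
  have hKc : K.subgroupOf C ≤ commutator C := fun k hk => by
    have h := hK' hk
    rw [← Subgroup.map_subtype_commutator C] at h
    obtain ⟨k', hk', he⟩ := h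
    exact Subtype.ext (show (k' : G) = k from he) ▸ hk'
  have hb := IIbLin.image_bound hr2 hV (fun x => Subtype.ext (hexp x x.2)) ρ (K.subgroupOf C)
    (by rw [Nat.card_congr (Subgroup.subgroupOfEquivOfLe hKC).toEquiv]; exact hK) hKc
  set U := (K.subgroupOf C).map ρ
  have main : ∀ x ∈ K, ∀ m : ℕ, (∀ hx : x ∈ C, ρ ⟨x, hx⟩ ^ m = 1) → (orderOf (x ^ m)).Coprime r →
      ∀ y ∈ P, x ^ m * y = y * x ^ m := by
    intro x hx m hm hcop y hy
    have hxC := hKC hx
    refine mul_inv_eq_iff_eq_mul.mp (CfsgLib.centralizes_of_fixes_order_p hr2 (x ^ m) hcop P hP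
      (hPn (pow_mem hxC m)) (fun z hz hz1 => ?_) y hy)
    have h1 : ρ ((⟨x, hxC⟩ : C) ^ m) = 1 := by rw [map_pow]; exact hm hxC
    have h2 := congrArg (fun f : MulAut V => ((f ⟨z, hom z hz hz1⟩ : V) : G)) h1
    exact h2
  rcases hb with h | ⟨hnd, hle, hcomm⟩
  · refine ⟨1, one_pos, by omega, fun x hx => ?_⟩
    obtain ⟨a, ha⟩ := exists_pow_coprime hr x
    obtain ⟨k, hk⟩ := h ⟨ρ ⟨x, hKC hx⟩, ⟨x, hKC hx⟩, hx, rfl⟩
    have hk' : ρ ⟨x, hKC hx⟩ ^ r ^ k = 1 := congrArg Subtype.val hk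
    refine ⟨max a k, fun b hb => main x hx _ (fun _ => ?_) (by rw [one_mul]; exact ha b (le_trans (le_max_left _ _) hb))⟩
    obtain ⟨j, rfl⟩ := Nat.exists_eq_add_of_le (le_trans (le_max_right _ _) hb)
    rw [one_mul, pow_add, pow_mul, hk', one_pow]
  · refine ⟨Nat.card U, Nat.card_pos, hle, fun x hx => ?_⟩
    obtain ⟨a, ha⟩ := exists_pow_coprime hr x
    refine ⟨a, fun b hb => main x hx _ (fun _ => ?_) ?_⟩
    · have hu : ρ ⟨x, hKC hx⟩ ∈ U := ⟨⟨x, hKC hx⟩, hx, rfl⟩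
      rw [pow_mul, orderOf_dvd_iff_pow_eq_one.mp (Subgroup.orderOf_dvd_natCard U hu), one_pow]
    · rw [mul_comm, pow_mul]
      exact Nat.Coprime.coprime_dvd_left (orderOf_pow_dvd _) (ha b hb)

/-- An element of order prime to `r` centralising `Q` and acting trivially on `P` modulo `Q` centralises `P`. -/
theorem comm_of_section {r : ℕ} (hr : r.Prime) {P Q : Subgroup G} (hQ : IsPGroup r Q) {g : G}
    (hg : (orderOf g).Coprime r) (hgQ : ∀ y ∈ Q, g * y = y * g) (h : ∀ y ∈ P, ⁅g, y⁆ ∈ Q) :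
    ∀ y ∈ P, g * y = y * g := by
  haveI := Fact.mk hr
  intro y hy
  have hz := h y hy
  set z := ⁅g, y⁆ with hz'
  have hgy : g * y * g⁻¹ = z * y := by rw [hz', commutatorElement_def, inv_mul_cancel_right]
  have hgz : Commute g z := hgQ z hz
  have hpow : ∀ k : ℕ, g ^ k * y * (g ^ k)⁻¹ = z ^ k * y := by
    intro k
    induction k with
    | zero => simp
    | succ k ih =>
      calc g ^ (k + 1) * y * (g ^ (k + 1))⁻¹ = g * (g ^ k * y * (g ^ k)⁻¹) * g⁻¹ := by rw [pow_succ']; group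
        _ = g * z ^ k * y * g⁻¹ := by rw [ih]; group
        _ = z ^ k * (g * y * g⁻¹) := by rw [(hgz.pow_right k).eq]; group
        _ = z ^ (k + 1) * y := by rw [hgy, pow_succ, mul_assoc]
  have h1 : z ^ orderOf g = 1 := by
    have := hpow (orderOf g)
    rw [pow_orderOf_eq_one, inv_one, one_mul, mul_one] at this
    exact mul_eq_right.mp this.symm
  obtain ⟨k, hk⟩ := hQ ⟨z, hz⟩
  have h2 : z ^ r ^ k = 1 := congrArg Subtype.val hk
  have hz1 := BenderMax.eq_one_of_coprime_pows h1 h2 (hg.pow_right k)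
  rw [hz1, one_mul] at hgy
  exact mul_inv_eq_iff_eq_mul.mp hgy

/-- A group of order `r²` modulo a central subgroup, non-abelian, has exponent `r` modulo that subgroup. -/
theorem pow_mem_of_central {r : ℕ} (hr : r.Prime) {P Q : Subgroup G} (hQP : Q ≤ P)
    (hcard : Nat.card P = r ^ 2 * Nat.card Q) (hQc : ∀ y ∈ Q, ∀ u ∈ P, u * y = y * u)
    (hna : ∃ a ∈ P, ∃ b ∈ P, a * b ≠ b * a) : ∀ y ∈ P, y ^ r ∈ Q := by
  haveI := Fact.mk hr
  set Q' := Q.subgroupOf P
  have hcen : Q' ≤ Subgroup.center P := fun y hy =>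
    Subgroup.mem_center_iff.mpr fun u => Subtype.ext (hQc _ hy _ u.2)
  haveI : Q'.Normal := ⟨fun y hy g => by
    rw [Subgroup.mem_center_iff.mp (hcen hy) g, mul_inv_cancel_right]; exact hy⟩
  have hc : Nat.card (↥P ⧸ Q') = r ^ 2 := by
    have h := Subgroup.card_eq_card_quotient_mul_card_subgroup Q'
    rw [Nat.card_congr (Subgroup.subgroupOfEquivOfLe hQP).toEquiv, hcard] at h
    exact (Nat.eq_of_mul_eq_mul_right Nat.card_pos h).symm
  have hnc : ¬ IsCyclic (↥P ⧸ Q') := fun hcy => by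
    obtain ⟨a, ha, b, hb, hab⟩ := hna
    haveI := hcy
    exact hab (congrArg Subtype.val (commutative_of_cyclic_center_quotient (QuotientGroup.mk' Q')
      (by rw [QuotientGroup.ker_mk']; exact hcen) (⟨a, ha⟩ : P) ⟨b, hb⟩))
  intro y hy
  have hd := orderOf_dvd_natCard (QuotientGroup.mk (⟨y, hy⟩ : P) : ↥P ⧸ Q')
  rw [hc] at hd
  obtain ⟨j, hj2, hj⟩ := (Nat.dvd_prime_pow hr).mp hd
  have hj1 : j ≤ 1 := by
    by_contra hlt
    exact hnc (isCyclic_of_orderOf_eq_card _ (by rw [hj, hc, show j = 2 by omega]))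
  have h1 : (QuotientGroup.mk ((⟨y, hy⟩ : P) ^ r) : ↥P ⧸ Q') = 1 := by
    rw [QuotientGroup.mk_pow]
    exact orderOf_dvd_iff_pow_eq_one.mp (hj ▸ (pow_dvd_pow r hj1).trans (by rw [pow_one]))
  exact (QuotientGroup.eq_one_iff ((⟨y, hy⟩ : P) ^ r)).mp h1

/-- The bound on the action on a section of order `r²`. -/
theorem exists_bound_section {r : ℕ} (hr : r.Prime) (hr2 : r ≠ 2) {C K P Q : Subgroup G} (hKC : K ≤ C)
    (hKn : C ≤ Subgroup.normalizer (K : Set G)) (hK : Odd (Nat.card K)) (hK' : K ≤ ⁅C, C⁆) (hPC : P ≤ C)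
    (hQP : Q ≤ P) (hPn : C ≤ Subgroup.normalizer (P : Set G)) (hQn : C ≤ Subgroup.normalizer (Q : Set G))
    (hcard : Nat.card P = r ^ 2 * Nat.card Q) (hexp : ∀ y ∈ P, y ^ r ∈ Q) :
    ∃ M : Subgroup G, M ≤ K ∧ (∀ x ∈ M, ∀ y ∈ P, ⁅x, y⁆ ∈ Q) ∧ C ≤ Subgroup.normalizer (M : Set G) ∧
      ((∀ x ∈ K, ∃ a : ℕ, x ^ r ^ a ∈ M) ∨
        ((∀ x ∈ K, x ^ M.relIndex K ∈ M) ∧ ¬ r ∣ M.relIndex K ∧ 2 * M.relIndex K ≤ r + 1 ∧
          ∀ x ∈ K, ∀ y ∈ K, ⁅x, y⁆ ∈ M)) := by
  haveI := Fact.mk hr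
  haveI : (P.subgroupOf C).Normal := ⟨fun y hy g => (Subgroup.mem_normalizer_iff.mp (hPn g.2) (y : G)).mp hy⟩
  haveI : (Q.subgroupOf C).Normal := ⟨fun y hy g => (Subgroup.mem_normalizer_iff.mp (hQn g.2) (y : G)).mp hy⟩
  haveI hKN : (K.subgroupOf C).Normal := ⟨fun y hy g => (Subgroup.mem_normalizer_iff.mp (hKn g.2) (y : G)).mp hy⟩
  set ρ := CfsgLib.OddBase.phi (Q.subgroupOf C) (P.subgroupOf C)
  have hQ' : Nat.card ((Q.subgroupOf C).subgroupOf (P.subgroupOf C)) = Nat.card Q := by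
    have hle : Q.subgroupOf C ≤ P.subgroupOf C := fun y hy => hQP hy
    exact (Nat.card_congr (Subgroup.subgroupOfEquivOfLe hle).toEquiv).trans
      (Nat.card_congr (Subgroup.subgroupOfEquivOfLe (hQP.trans hPC)).toEquiv)
  have hV : Nat.card (↥(P.subgroupOf C) ⧸ (Q.subgroupOf C).subgroupOf (P.subgroupOf C)) = r ^ 2 := by
    have h := Subgroup.card_eq_card_quotient_mul_card_subgroup ((Q.subgroupOf C).subgroupOf (P.subgroupOf C))
    rw [Nat.card_congr (Subgroup.subgroupOfEquivOfLe hPC).toEquiv, hcard, hQ'] at h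
    exact (Nat.eq_of_mul_eq_mul_right Nat.card_pos h).symm
  have hKc : K.subgroupOf C ≤ commutator C := fun k hk => by
    have h := hK' hk
    rw [← Subgroup.map_subtype_commutator C] at h
    obtain ⟨k', hk', he⟩ := h
    exact Subtype.ext (show (k' : G) = k from he) ▸ hk'
  have hb := IIbLin.image_bound hr2 hV (fun v => QuotientGroup.induction_on v fun y => by
    rw [← QuotientGroup.mk_pow, QuotientGroup.eq_one_iff]
    exact hexp _ y.2) ρ (K.subgroupOf C) (by rw [Nat.card_congr (Subgroup.subgroupOfEquivOfLe hKC).toEquiv]; exact hK)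
    hKc
  set M := (K.subgroupOf C ⊓ ρ.ker).map C.subtype
  have hMK : M ≤ K := by
    rintro _ ⟨y, hy, rfl⟩
    exact hy.1
  refine ⟨M, hMK, ?_, ?_, ?_⟩
  · rintro _ ⟨x, hx, rfl⟩ y hy
    exact (CfsgLib.OddBase.phi_eq_one_iff (F := P.subgroupOf C) (Z := Q.subgroupOf C) x).mp
      (MonoidHom.mem_ker.mp hx.2) ⟨y, hPC hy⟩ hy
  · intro g hg
    refine Subgroup.mem_normalizer_fintype fun m hm => ?_
    obtain ⟨x, hx, rfl⟩ := hm
    exact ⟨⟨g, hg⟩ * x * ⟨g, hg⟩⁻¹,
      (inferInstance : (K.subgroupOf C ⊓ ρ.ker).Normal).conj_mem x hx _, rfl⟩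
  have hmem : ∀ x ∈ K, ∀ m : ℕ, (∀ hx : x ∈ C, ρ ⟨x, hx⟩ ^ m = 1) → x ^ m ∈ M := fun x hx m hm =>
    ⟨(⟨x, hKC hx⟩ : C) ^ m, ⟨pow_mem (show (⟨x, hKC hx⟩ : C) ∈ K.subgroupOf C from hx) m,
      MonoidHom.mem_ker.mpr (by rw [map_pow]; exact hm _)⟩, rfl⟩
  rcases hb with h | ⟨hnd, hle, hcomm⟩
  · refine Or.inl fun x hx => ?_
    obtain ⟨k, hk⟩ := h ⟨ρ ⟨x, hKC hx⟩, ⟨x, hKC hx⟩, hx, rfl⟩
    exact ⟨k, hmem x hx _ fun _ => congrArg Subtype.val hk⟩
  · have he : M.relIndex K = Nat.card ((K.subgroupOf C).map ρ) := by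
      set K' := K.subgroupOf C
      have hker : (ρ.comp K'.subtype).ker = (K' ⊓ ρ.ker).subgroupOf K' := by
        ext y
        simp [Subgroup.mem_subgroupOf]
      have h1 : Nat.card ((K'.map ρ)) * Nat.card (K' ⊓ ρ.ker : Subgroup C) = Nat.card K' := by
        have h := Subgroup.card_eq_card_quotient_mul_card_subgroup (ρ.comp K'.subtype).ker
        rw [Nat.card_congr (QuotientGroup.quotientKerEquivRange (ρ.comp K'.subtype)).toEquiv,
          MonoidHom.range_comp, Subgroup.range_subtype] at h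
        rw [h, ← Nat.card_congr (Subgroup.subgroupOfEquivOfLe (inf_le_left : K' ⊓ ρ.ker ≤ K')).toEquiv, hker]
      have h2 : Nat.card M = Nat.card (K' ⊓ ρ.ker : Subgroup C) :=
        Subgroup.card_map_of_injective C.subtype_injective
      have h3 : Nat.card M * M.relIndex K = Nat.card K := by
        rw [← Nat.card_congr (Subgroup.subgroupOfEquivOfLe hMK).toEquiv, Subgroup.relIndex]
        exact Subgroup.card_mul_index _
      rw [Nat.card_congr (Subgroup.subgroupOfEquivOfLe hKC).toEquiv, ← h2, mul_comm, ← h3] at h1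
      exact (Nat.eq_of_mul_eq_mul_left Nat.card_pos h1).symm
    refine Or.inr ⟨fun x hx => hmem x hx _ fun hxC => ?_, he ▸ hnd, he ▸ hle, fun x hx y hy => ?_⟩
    swap
    · refine ⟨⁅(⟨x, hKC hx⟩ : C), ⟨y, hKC hy⟩⁆, ⟨?_, MonoidHom.mem_ker.mpr ?_⟩, rfl⟩
      · exact (K.subgroupOf C).mul_mem ((K.subgroupOf C).mul_mem ((K.subgroupOf C).mul_mem hx hy)
          ((K.subgroupOf C).inv_mem hx)) ((K.subgroupOf C).inv_mem hy)
      · rw [map_commutatorElement, commutatorElement_eq_one_iff_mul_comm]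
        exact hcomm _ ⟨_, hx, rfl⟩ _ ⟨_, hy, rfl⟩
    rw [he]
    exact orderOf_dvd_iff_pow_eq_one.mp (Subgroup.orderOf_dvd_natCard _ ⟨⟨x, hxC⟩, hx, rfl⟩)

/-- A normal subgroup whose `p'`-parts are central is contained in the Fitting subgroup. -/
theorem le_fitting_of_central_powers {p : ℕ} (hp : p.Prime) {C M : Subgroup G} (hMC : M ≤ C)
    (hMn : C ≤ Subgroup.normalizer (M : Set G)) (h : ∀ x ∈ M, ∃ a : ℕ, ∀ y ∈ M, x ^ p ^ a * y = y * x ^ p ^ a) :
    M ≤ FF C := by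
  haveI := Fact.mk hp
  have hq : IsPGroup p (↥M ⧸ Subgroup.center M) := fun z => QuotientGroup.induction_on z fun x => by
    obtain ⟨a, ha⟩ := h x x.2
    refine ⟨a, ?_⟩
    rw [← QuotientGroup.mk_pow, QuotientGroup.eq_one_iff, Subgroup.mem_center_iff]
    exact fun y => Subtype.ext (ha y y.2).symm
  haveI := hq.isNilpotent
  haveI : Group.IsNilpotent M := Group.of_quotient_center_nilpotent inferInstance
  haveI : (M.subgroupOf C).Normal := ⟨fun y hy g => (Subgroup.mem_normalizer_iff.mp (hMn g.2) (y : G)).mp hy⟩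
  haveI : Group.IsNilpotent (M.subgroupOf C) :=
    Group.nilpotent_of_mulEquiv (Subgroup.subgroupOfEquivOfLe hMC).symm
  intro x hx
  exact ⟨⟨x, hMC hx⟩, CfsgLib.le_fittingSubgroup (N := M.subgroupOf C) inferInstance hx, rfl⟩

end CfsgLib.GW.IIbFit
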