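import Cfsg.Agent.Lib.GW.IIb.Data
import Cfsg.Agent.Lib.GW.IIb.LocalBasic
import Cfsg.Agent.Lib.GW.IIb.FinalFit
import Cfsg.Agent.Lib.PSolvable

/-!
(IIb) with `O(C(t)) ≤ [C(t), C(t)]`: what `O(C(t))` centralises.
-/

set_option autoImplicit false
set_option linter.style.haveILetI false
set_option linter.unusedSectionVars false

namespace CfsgLib.GW

open Cfsg
open CfsgLib.BenderMax (OO FF)
open scoped commutatorElement

universe u

variable {G : Type u} [Group G] [Finite G]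

namespace IIbData

variable (D : IIbData G)

theorem mem_C_comm {g : G} (hg : g ∈ centI D.t) : g * D.t = D.t * g := Subgroup.mem_centralizer_singleton_iff.1 hg

theorem core_le_C : coreC D.t ≤ centI D.t := Subgroup.map_subtype_le _

theorem core_conj {g u : G} (hg : g ∈ centI D.t) (hu : u ∈ coreC D.t) : g * u * g⁻¹ ∈ coreC D.t := by
  have h := Subgroup.mem_map_of_mem (MulAut.conj g).toMonoidHom hu
  rwa [map_coreC D.conf.hyp.dihedral D.conf.ht, D.mem_C_comm hg, mul_inv_cancel_right] at h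

theorem core_odd : Odd (Nat.card (coreC D.t)) := by
  rw [coreC, Subgroup.card_map_of_injective (Subgroup.subtype_injective _)]
  exact CfsgLib.odd_card_oddCore

theorem OO_le_core {r : ℕ} (hr : r.Prime) (hr2 : r ≠ 2) : OO r (centI D.t) ≤ coreC D.t := by
  haveI := Fact.mk hr
  intro x hx
  refine (mem_coreC D.conf.hyp.dihedral D.conf.ht).2 ⟨D.conf.comm_t_core hx, ?_⟩
  obtain ⟨k, hk⟩ := IsPGroup.iff_orderOf.1 (BenderMax.OO_isPGroup r (centI D.t)) ⟨x, hx⟩
  rw [Subgroup.orderOf_mk] at hk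
  rw [hk]
  exact (hr.odd_of_ne_two hr2).pow

theorem OO_le_C (r : ℕ) : OO r (centI D.t) ≤ centI D.t := Subgroup.map_subtype_le _

/-- A normal `r`-subgroup of `C(t)` lies in `O_r(C(t))`. -/
theorem le_OO {r : ℕ} {U : Subgroup G} (hU : U ≤ centI D.t) (hUp : IsPGroup r U)
    (hn : ∀ g ∈ centI D.t, ∀ u ∈ U, g * u * g⁻¹ ∈ U) : U ≤ OO r (centI D.t) := by
  haveI : (U.subgroupOf (centI D.t)).Normal := ⟨fun x hx g => hn g g.2 x hx⟩
  have h := CfsgLib.le_pCore (N := U.subgroupOf (centI D.t))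
    (hUp.comap_of_injective _ (centI D.t).subtype_injective)
  intro x hx
  exact ⟨⟨x, hU hx⟩, h hx, rfl⟩

/-- `O ≤ [C, C]` centralises a cyclic subgroup normalised by `C(t)`. -/
theorem core_comm_cyclic (hO' : coreC D.t ≤ ⁅centI D.t, centI D.t⁆) {q : G}
    (hq : ∀ g ∈ centI D.t, g * q * g⁻¹ ∈ Subgroup.zpowers q) {x : G} (hx : x ∈ Subgroup.zpowers q) :
    ∀ u ∈ coreC D.t, u * x = x * u := by
  intro u hu
  refine IIbFit.commutator_centralizes_cyclic (C := centI D.t) inferInstance (fun g hg => ?_) u (hO' hu) x hx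
  refine Subgroup.mem_normalizer_fintype fun w hw => ?_
  obtain ⟨j, rfl⟩ := Subgroup.mem_zpowers_iff.1 hw
  rw [← conj_zpow]
  exact zpow_mem (hq g hg) j

/-- The elements of order `p` of the cyclic group `Q`. -/
theorem omega_Q {z : G} (hz : z ∈ D.Q D.p) (hzo : orderOf z = D.p) {x : G} (hx : x ∈ D.Q D.p)
    (hxp : x ^ D.p = 1) : x ∈ Subgroup.zpowers z := by
  classical
  haveI := Fintype.ofFinite (D.Q D.p)
  haveI := D.Q_cyclic D.p D.conf.hp D.conf.hp2
  by_contra hc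
  haveI := Fintype.ofFinite (Subgroup.zpowers z)
  have hle := IsCyclic.card_pow_eq_one_le (α := D.Q D.p) D.conf.hp.pos
  have hsub : insert (⟨x, hx⟩ : D.Q D.p)
      ((Finset.univ : Finset (Subgroup.zpowers z)).map
        ⟨Subgroup.inclusion (Subgroup.zpowers_le.2 hz), Subgroup.inclusion_injective _⟩) ⊆
      (Finset.univ.filter fun a : D.Q D.p => a ^ D.p = 1) := by
    intro y hy
    refine Finset.mem_filter.2 ⟨Finset.mem_univ _, Subtype.ext ?_⟩
    rw [Subgroup.coe_pow, OneMemClass.coe_one]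
    rcases Finset.mem_insert.1 hy with rfl | hy
    · exact hxp
    · obtain ⟨w, -, rfl⟩ := Finset.mem_map.1 hy
      obtain ⟨j, hj⟩ := Subgroup.mem_zpowers_iff.1 w.2
      show (w : G) ^ D.p = 1
      rw [← hj, ← hzo, ← zpow_natCast, ← zpow_mul, mul_comm, zpow_mul, zpow_natCast, pow_orderOf_eq_one, one_zpow]
  have hcard := (Finset.card_le_card hsub).trans hle
  rw [Finset.card_insert_of_notMem (fun h => by
    obtain ⟨w, -, hw⟩ := Finset.mem_map.1 h
    have e : (w : G) = x := congrArg Subtype.val hw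
    exact hc (e ▸ w.2)), Finset.card_map, Finset.card_univ, ← Nat.card_eq_fintype_card,
    Nat.card_zpowers, hzo] at hcard
  omega

/-- The elements of order dividing `p` of `Q` are central in `O`. -/
theorem core_comm_omega (hP : ¬ OO D.p (centI D.t) ≤ D.H) (hO' : coreC D.t ≤ ⁅centI D.t, centI D.t⁆)
    {x : G} (hx : x ∈ D.Q D.p) (hxp : x ^ D.p = 1) : ∀ u ∈ coreC D.t, u * x = x * u := by
  obtain ⟨a, z, -, -, hzQ, hzo, hzP, -, hPc, -, -⟩ := D.nonab hP
  refine D.core_comm_cyclic hO' (fun g hg => ?_) (D.omega_Q hzQ hzo hx hxp)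
  have hzP' : z ∈ OO D.p (centI D.t) := (D.Q_le _ D.conf.hp D.conf.hp2 hzQ).1
  refine D.omega_Q hzQ hzo (hPc _ (BenderMax.conj_OO hg hzP') fun w hw => ?_) ?_
  · have hw' : g⁻¹ * w * g ∈ OO D.p (centI D.t) := by
      simpa using BenderMax.conj_OO ((centI D.t).inv_mem hg) hw
    calc w * (g * z * g⁻¹) = g * ((g⁻¹ * w * g) * z) * g⁻¹ := by group
      _ = g * (z * (g⁻¹ * w * g)) * g⁻¹ := by rw [hzP _ hw']
      _ = g * z * g⁻¹ * w := by group
  · rw [conj_pow, ← hzo, pow_orderOf_eq_one, mul_one, mul_inv_cancel]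

section Left

variable (hP : ¬ OO D.p (centI D.t) ≤ D.H) (hO' : coreC D.t ≤ ⁅centI D.t, centI D.t⁆)
  (hQc : ∀ y ∈ D.Q D.p, ∀ w ∈ OO D.p (centI D.t), w * y = y * w)

include hP hQc in
/-- `Q` is the centre of `P`. -/
theorem Q_conj {g y : G} (hg : g ∈ centI D.t) (hy : y ∈ D.Q D.p) : g * y * g⁻¹ ∈ D.Q D.p := by
  obtain ⟨-, -, -, -, -, -, -, -, hPc, -, -⟩ := D.nonab hP
  refine hPc _ (BenderMax.conj_OO hg (D.Q_le _ D.conf.hp D.conf.hp2 hy).1) fun w hw => ?_
  have hw' : g⁻¹ * w * g ∈ OO D.p (centI D.t) := by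
    simpa using BenderMax.conj_OO ((centI D.t).inv_mem hg) hw
  calc w * (g * y * g⁻¹) = g * ((g⁻¹ * w * g) * y) * g⁻¹ := by group
    _ = g * (y * (g⁻¹ * w * g)) * g⁻¹ := by rw [hQc y hy _ hw']
    _ = g * y * g⁻¹ * w := by group

include hP hO' hQc in
theorem core_comm_Q {x : G} (hx : x ∈ D.Q D.p) : ∀ u ∈ coreC D.t, u * x = x * u := by
  haveI := D.Q_cyclic D.p D.conf.hp D.conf.hp2
  obtain ⟨⟨q, hq⟩, hgen⟩ := IsCyclic.exists_generator (α := D.Q D.p)
  have hmem : ∀ y ∈ D.Q D.p, y ∈ Subgroup.zpowers q := fun y hy => by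
    obtain ⟨j, hj⟩ := Subgroup.mem_zpowers_iff.1 (hgen ⟨y, hy⟩)
    exact Subgroup.mem_zpowers_iff.2 ⟨j, congrArg Subtype.val hj⟩
  exact D.core_comm_cyclic hO' (fun g hg => hmem _ (D.Q_conj hP hQc hg hq)) (hmem x hx)

include hP in
/-- `O_r(C)` is cyclic for `r ≠ p`. -/
theorem OO_le_Q {r : ℕ} (hr : r.Prime) (hr2 : r ≠ 2) (hrp : r ≠ D.p) : OO r (centI D.t) ≤ D.Q r := by
  have hbot : OO r (centI D.t) ⊓ D.W = ⊥ := by_contra fun h => hP (D.core_mixed r hr hr2 hrp h)
  have h := D.core_split r hr hr2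
  rw [hbot, bot_sup_eq, inf_eq_left.2 (D.core_le r hr hr2 hrp)] at h
  exact h.le

include hP hO' in
theorem core_comm_OO {r : ℕ} (hr : r.Prime) (hrp : r ≠ D.p) {x : G} (hx : x ∈ OO r (centI D.t)) :
    ∀ u ∈ coreC D.t, u * x = x * u := by
  by_cases hr2 : r = 2
  · subst hr2
    intro u hu
    obtain ⟨u', hu', rfl⟩ := hu
    obtain ⟨x', hx', rfl⟩ := hx
    haveI := Fact.mk Nat.prime_two
    refine congrArg Subtype.val (Subgroup.commute_of_normal_of_disjoint _ _ inferInstance inferInstance ?_ u' x' hu' hx')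
    obtain ⟨k, hk⟩ := (CfsgLib.isPGroup_pCore (G := centI D.t) 2).exists_card_eq
    refine disjoint_iff.2 (Subgroup.inf_eq_bot_of_coprime ?_)
    rw [hk]
    exact Nat.Coprime.pow_right k (Nat.coprime_two_right.2 CfsgLib.odd_card_oddCore)
  · haveI := D.Q_cyclic r hr hr2
    obtain ⟨⟨q, hq⟩, hgen⟩ := IsCyclic.exists_generator (α := D.Q r)
    have hmem : ∀ y ∈ OO r (centI D.t), y ∈ Subgroup.zpowers q := fun y hy => by
      obtain ⟨j, hj⟩ := Subgroup.mem_zpowers_iff.1 (hgen ⟨y, D.OO_le_Q hP hr hr2 hrp hy⟩)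
      exact Subgroup.mem_zpowers_iff.2 ⟨j, congrArg Subtype.val hj⟩
    exact D.core_comm_cyclic hO'
      (fun g hg => hmem _ (BenderMax.conj_OO hg (D.Q_le r hr hr2 hq).1)) (hmem x hx)

include hP hO' hQc in
/-- An element of `O` centralising `P` is central in `O`. -/
theorem centP_central {c : G} (hc : c ∈ coreC D.t) (hcP : ∀ w ∈ OO D.p (centI D.t), w * c = c * w) :
    ∀ u ∈ coreC D.t, u * c = c * u := by
  classical
  haveI := D.conf.solvable
  set C := centI D.t with hC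
  obtain ⟨-, -, -, -, -, -, -, -, hPc, -, -⟩ := D.nonab hP
  have hFle : FF C ≤ C := Subgroup.map_subtype_le _
  have hOOF : ∀ r, r.Prime → OO r C ≤ FF C := fun r hr => Subgroup.map_mono (CfsgLib.pCore_le_fittingSubgroup hr)
  -- `c` lies in `F(C)`
  have hcF : c ∈ FF C := by
    have hcent : FF C ≤ Subgroup.centralizer ({c} : Set G) := by
      refine BenderMax.FF_le_of_primes fun r hr _ x hx => Subgroup.mem_centralizer_singleton_iff.2 ?_
      by_cases hrp : r = D.p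
      · subst hrp; exact hcP x hx
      · exact (D.core_comm_OO hP hO' hr hrp hx c hc).symm
    obtain ⟨c', hc', rfl⟩ := hc
    refine ⟨c', CfsgLib.centralizer_fitting_le (Subgroup.mem_centralizer_iff.2 fun f hf => Subtype.ext ?_), rfl⟩
    exact Subgroup.mem_centralizer_singleton_iff.1 (hcent ⟨f, hf, rfl⟩)
  -- decomposition
  set Z := FF C ⊓ Subgroup.centralizer (coreC D.t : Set G)
  have hZP : Z ≤ Subgroup.normalizer (OO D.p C : Set G) := fun g hg =>
    Subgroup.mem_normalizer_fintype fun w hw => BenderMax.conj_OO (hFle hg.1) hw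
  have hmem : c ∈ ((Z ⊔ OO D.p C : Subgroup G) : Set G) := by
    refine BenderMax.FF_le_of_primes (B := Z ⊔ OO D.p C) (fun r hr _ x hx => ?_) hcF
    by_cases hrp : r = D.p
    · exact Subgroup.mem_sup_right (hrp ▸ hx)
    · refine Subgroup.mem_sup_left ⟨hOOF r hr hx, Subgroup.mem_centralizer_iff.2 fun u hu => ?_⟩
      exact D.core_comm_OO hP hO' hr hrp hx u hu
  rw [Subgroup.coe_mul_of_left_le_normalizer_right Z _ hZP] at hmem
  obtain ⟨d, hd, w, hw, rfl⟩ := hmem
  have hdc : ∀ u ∈ coreC D.t, u * d = d * u := Subgroup.mem_centralizer_iff.1 hd.2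
  have hwQ : w ∈ D.Q D.p := hPc w hw fun u hu => by
    have h1 := hcP u hu
    simp only at h1
    rw [← mul_assoc, hdc u (D.OO_le_core D.conf.hp D.conf.hp2 hu), mul_assoc, mul_assoc] at h1
    exact mul_left_cancel h1
  intro u hu
  show u * (d * w) = d * w * u
  rw [← mul_assoc, hdc u hu, mul_assoc, D.core_comm_Q hP hO' hQc hwQ u hu, mul_assoc]

/-- A central `p`-element of `O` lies in `P`. -/
theorem central_pElem_mem {c : G} (hc : c ∈ coreC D.t) (hcc : ∀ u ∈ coreC D.t, u * c = c * u) {k : ℕ}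
    (hck : c ^ D.p ^ k = 1) : c ∈ OO D.p (centI D.t) := by
  let Z : Subgroup G :=
    { carrier := {x | x ∈ coreC D.t ∧ (∀ u ∈ coreC D.t, u * x = x * u) ∧ ∃ j, x ^ D.p ^ j = 1}
      one_mem' := ⟨one_mem _, fun u _ => by simp, 0, by simp⟩
      mul_mem' := by
        rintro x y ⟨hx, hxc, i, hi⟩ ⟨hy, hyc, j, hj⟩
        refine ⟨mul_mem hx hy, fun u hu => by rw [← mul_assoc, hxc u hu, mul_assoc, hyc u hu, mul_assoc], i + j, ?_⟩
        rw [(show Commute x y from hyc x hx).mul_pow, pow_add, pow_mul, hi, one_pow, one_mul, pow_mul',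
          hj, one_pow]
      inv_mem' := by
        rintro x ⟨hx, hxc, i, hi⟩
        exact ⟨inv_mem hx, fun u hu => ((show Commute u x from hxc u hu).inv_right).eq, i, by rw [inv_pow, hi, inv_one]⟩ }
  refine D.le_OO (U := Z) (fun x hx => D.core_le_C hx.1) (fun x => ?_) ?_ ⟨hc, hcc, k, hck⟩
  · obtain ⟨-, -, j, hj⟩ := x.2
    exact ⟨j, Subtype.ext (by rw [Subgroup.coe_pow]; exact hj)⟩
  · rintro g hg x ⟨hx, hxc, i, hi⟩
    refine ⟨D.core_conj hg hx, fun u hu => ?_, i, by rw [conj_pow, hi, mul_one, mul_inv_cancel]⟩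
    have hu' : g⁻¹ * u * g ∈ coreC D.t := by simpa using D.core_conj ((centI D.t).inv_mem hg) hu
    calc u * (g * x * g⁻¹) = g * ((g⁻¹ * u * g) * x) * g⁻¹ := by group
      _ = g * (x * (g⁻¹ * u * g)) * g⁻¹ := by rw [hxc _ hu']
      _ = g * x * g⁻¹ * u := by group

end Left

end IIbData

end CfsgLib.GW
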