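import Cfsg.Agent.Lib.GW.IIb.FinalCount
import Cfsg.Agent.Lib.GW.IIb.RotationCore

/-!
(IIb), step 7, the case `P ⧸ Z(P)` of order `p²`: `O ∩ C(v) = A`.

* `IIbData.le_FF_of_trivial`: a normal subgroup of `O` acting trivially on `P ⧸ Q` lies in `F(C)`;
* `IIbData.pElem_of_FF`: a `p`-element of `O ∩ F(C)` lies in `P`;
* `IIbData.core_meet_v`: `O ∩ C(v) = A`;
* `IIbData.W_eq_A`: `W = A`; `IIbData.H_eq_WL`: `H = W L`.
-/

set_option autoImplicit false
set_option linter.unusedSectionVars false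
set_option linter.style.haveILetI false

namespace CfsgLib.GW.IIbData

open Cfsg
open CfsgLib.BenderMax (OO FF)
open scoped commutatorElement

universe u

variable {G : Type u} [Group G] [Finite G] (D : IIbData G)

theorem not_isMulCommutative_P (hP : ¬ OO D.p (centI D.t) ≤ D.H) :
    ∃ a ∈ OO D.p (centI D.t), ∃ b ∈ OO D.p (centI D.t), a * b ≠ b * a := by
  obtain ⟨a, -, haA, hao, -, -, -, -, hPc, -, -⟩ := D.nonab hP
  by_contra hcon
  push Not at hcon
  have ha := hPc a (D.A_le_P haA) fun u hu => hcon u hu a (D.A_le_P haA)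
  have h1 : a ∈ (⊥ : Subgroup G) := (D.Q_meet D.p D.conf.hp D.conf.hp2).le ⟨ha, D.A_le_W haA⟩
  rw [Subgroup.mem_bot] at h1
  rw [h1, orderOf_one] at hao
  exact D.conf.hp.ne_one hao.symm

section Left

variable (hP : ¬ OO D.p (centI D.t) ≤ D.H)
  (hQc : ∀ y ∈ D.Q D.p, ∀ w ∈ OO D.p (centI D.t), w * y = y * w)

include hP hQc in
theorem le_FF_of_trivial {M : Subgroup G} (hM : M ≤ coreC D.t)
    (hMn : centI D.t ≤ Subgroup.normalizer (M : Set G))
    (hact : ∀ x ∈ M, ∃ k : ℕ, ∀ y ∈ OO D.p (centI D.t), ⁅x ^ D.p ^ k, y⁆ ∈ D.Q D.p) :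
    M ≤ FF (centI D.t) ∧ ∀ x ∈ M, ∃ b : ℕ, (orderOf (x ^ D.p ^ b)).Coprime D.p ∧
      ∀ u ∈ coreC D.t, u * x ^ D.p ^ b = x ^ D.p ^ b * u := by
  have hp := D.conf.hp
  have hp2 := D.conf.hp2
  have hQP : D.Q D.p ≤ OO D.p (centI D.t) := fun y hy => (D.Q_le D.p hp hp2 hy).1
  have key : ∀ x ∈ M, ∃ b : ℕ, (orderOf (x ^ D.p ^ b)).Coprime D.p ∧
      ∀ u ∈ coreC D.t, u * x ^ D.p ^ b = x ^ D.p ^ b * u := by
    intro x hx
    obtain ⟨k, hk⟩ := hact x hx
    obtain ⟨a, ha⟩ := IIbFit.exists_pow_coprime hp x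
    obtain ⟨j, hj⟩ := Nat.exists_eq_add_of_le (le_max_left k a)
    refine ⟨max k a, ha _ (le_max_right _ _), D.centP_central hP D.coreC_le_commutator hQc
      (pow_mem (hM hx) _) fun w hw => ?_⟩
    refine (IIbFit.comm_of_section hp ((BenderMax.OO_isPGroup D.p _).to_le hQP) (ha _ (le_max_right _ _))
      (fun q hq => D.core_comm_Q hP D.coreC_le_commutator hQc hq _ (pow_mem (hM hx) _)) (fun y hy => ?_) w hw).symm
    -- powers act trivially modulo the central subgroup `Q`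
    have hz := hk y hy
    have hgQ : Commute (x ^ D.p ^ k) ⁅x ^ D.p ^ k, y⁆ :=
      D.core_comm_Q hP D.coreC_le_commutator hQc hz _ (pow_mem (hM hx) _)
    have hpow : ∀ m : ℕ, ⁅(x ^ D.p ^ k) ^ m, y⁆ = ⁅x ^ D.p ^ k, y⁆ ^ m := by
      intro m
      induction m with
      | zero => simp
      | succ m ih =>
        set g := x ^ D.p ^ k
        have h1 : ⁅g ^ (m + 1), y⁆ = g * ⁅g ^ m, y⁆ * g⁻¹ * ⁅g, y⁆ := by
          simp only [commutatorElement_def, pow_succ']; group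
        rw [h1, ih, (hgQ.pow_right m).eq, mul_inv_cancel_right, pow_succ]
    rw [hj, pow_add, pow_mul, hpow]
    exact pow_mem hz _
  refine ⟨IIbFit.le_fitting_of_central_powers hp (hM.trans D.coreC_le) hMn fun x hx => ?_, key⟩
  obtain ⟨b, -, hb⟩ := key x hx
  exact ⟨b, fun y hy => (hb y (hM hy)).symm⟩

include hP hQc in
theorem pElem_of_FF {x : G} (hxO : x ∈ coreC D.t) (hxF : x ∈ FF (centI D.t)) {n : ℕ} (hxn : x ^ D.p ^ n = 1) :
    x ∈ OO D.p (centI D.t) := by
  haveI := Fact.mk D.conf.hp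
  set C := centI D.t
  set Z := C ⊓ Subgroup.centralizer (coreC D.t : Set G)
  have hle : FF C ≤ OO D.p C ⊔ Z := BenderMax.FF_le_of_primes fun r hr _ u hu => by
    by_cases hrp : r = D.p
    · exact Subgroup.mem_sup_left (hrp ▸ hu)
    · exact Subgroup.mem_sup_right ⟨D.OO_le r hu, Subgroup.mem_centralizer_iff.mpr fun o ho =>
        D.core_comm_OO hP D.coreC_le_commutator hr hrp hu o ho⟩
  have hn : Z ≤ Subgroup.normalizer (OO D.p C : Set G) := inf_le_left.trans (D.normalizes_OO D.p)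
  have hx' : x ∈ ((OO D.p C ⊔ Z : Subgroup G) : Set G) := hle hxF
  rw [Subgroup.coe_mul_of_right_le_normalizer_left _ _ hn] at hx'
  obtain ⟨w, hw, c, hc, he⟩ := hx'
  have hwO : w ∈ coreC D.t := D.OO_le_core D.conf.hp D.conf.hp2 hw
  have hcc : ∀ u ∈ coreC D.t, u * c = c * u := Subgroup.mem_centralizer_iff.mp hc.2
  have hcO : c ∈ coreC D.t := by
    rw [show c = w⁻¹ * x by rw [← he]; simp]
    exact mul_mem (inv_mem hwO) hxO
  obtain ⟨j, hj⟩ := (BenderMax.OO_isPGroup D.p C).exists_card_eq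
  have hwj : w ^ D.p ^ j = 1 := orderOf_dvd_iff_pow_eq_one.mp (hj ▸ Subgroup.orderOf_dvd_natCard _ hw)
  have hck : c ^ D.p ^ (n + j) = 1 := by
    have h1 : (w * c) ^ D.p ^ (n + j) = 1 := by rw [show w * c = x from he, pow_add, pow_mul, hxn, one_pow]
    rw [(show Commute w c from hcc w hwO).mul_pow, pow_add, pow_mul' w, hwj, one_pow, one_mul] at h1
    rw [pow_add]
    exact h1
  rw [← he]
  exact mul_mem hw (D.central_pElem_mem hcO hcc hck)

include hP hQc in
/-- `O ∩ C(v) = A`. -/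
theorem core_meet_v (hcard : Nat.card (OO D.p (centI D.t)) = D.p ^ 2 * Nat.card (D.Q D.p)) :
    coreC D.t ⊓ Subgroup.centralizer ({D.v} : Set G) = D.A := by
  classical
  have hp := D.conf.hp
  have hp2 := D.conf.hp2
  haveI := Fact.mk hp
  set C := centI D.t
  set P := OO D.p C
  have hAO : D.A ≤ coreC D.t := fun a ha => D.OO_le_core hp hp2 (D.A_le_P ha)
  refine le_antisymm ?_ (le_inf hAO (by rw [D.A_eq]; exact inf_le_right))
  have hQP : D.Q D.p ≤ P := fun y hy => (D.Q_le D.p hp hp2 hy).1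
  have hQn : C ≤ Subgroup.normalizer (D.Q D.p : Set G) := fun g hg =>
    Subgroup.mem_normalizer_fintype fun y hy => D.Q_conj hP hQc hg hy
  have hexp := IIbFit.pow_mem_of_central hp hQP hcard hQc (D.not_isMulCommutative_P hP)
  obtain ⟨M, hMO, hMact, hMn, hM⟩ := IIbFit.exists_bound_section hp hp2 D.coreC_le D.normalizes_coreC D.coreC_odd
    D.coreC_le_commutator (D.OO_le D.p) hQP (D.normalizes_OO D.p) hQn hcard hexp
  rintro x ⟨hxO, hxv⟩
  have hxv' : x * D.v = D.v * x := Subgroup.mem_centralizer_singleton_iff.mp hxv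
  -- a normal subgroup of `O` containing `x` and contained in `F(C)`
  obtain ⟨N, hN, hNn, hxN, hact⟩ : ∃ N : Subgroup G, N ≤ coreC D.t ∧ C ≤ Subgroup.normalizer (N : Set G) ∧ x ∈ N ∧
      ∀ y ∈ N, ∃ k : ℕ, ∀ w ∈ P, ⁅y ^ D.p ^ k, w⁆ ∈ D.Q D.p := by
    rcases hM with h | ⟨-, -, -, habel⟩
    · refine ⟨coreC D.t, le_rfl, D.normalizes_coreC, hxO, fun y hy => ?_⟩
      obtain ⟨k, hk⟩ := h y hy
      exact ⟨k, hMact _ hk⟩
    refine ⟨M, hMO, hMn, ?_, fun y hy => ⟨0, by rw [pow_zero, pow_one]; exact hMact y hy⟩⟩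
    haveI : (M.subgroupOf (coreC D.t)).Normal :=
      ⟨fun m hm g => (Subgroup.mem_normalizer_iff.mp (hMn (D.coreC_le g.2)) (m : G)).mp hm⟩
    set π := QuotientGroup.mk' (M.subgroupOf (coreC D.t))
    have hab : ∀ a b : coreC D.t, π a * π b = π b * π a := fun a b => by
      rw [← commutatorElement_eq_one_iff_mul_comm, ← map_commutatorElement]
      exact (QuotientGroup.eq_one_iff _).mpr (habel a a.2 b b.2)
    have hvC : D.v ∈ C := D.conf.v_mem
    let σ : coreC D.t →* coreC D.t :=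
      { toFun := fun o => ⟨D.v * o * D.v⁻¹, D.coreC_conj hvC o.2⟩
        map_one' := Subtype.ext (by simp)
        map_mul' := fun o o' => Subtype.ext (by simp [mul_assoc]) }
    let T : Subgroup G :=
      { carrier := {y | ∃ hy : y ∈ coreC D.t, π (σ ⟨y, hy⟩) * π ⟨y, hy⟩ = 1}
        one_mem' := ⟨one_mem _, by rw [show (⟨1, one_mem _⟩ : coreC D.t) = 1 from rfl, map_one, map_one, one_mul]⟩
        mul_mem' := by
          rintro a b ⟨ha, ea⟩ ⟨hb, eb⟩
          refine ⟨mul_mem ha hb, ?_⟩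
          rw [show (⟨a * b, mul_mem ha hb⟩ : coreC D.t) = ⟨a, ha⟩ * ⟨b, hb⟩ from rfl, map_mul, map_mul, map_mul]
          calc π (σ ⟨a, ha⟩) * π (σ ⟨b, hb⟩) * (π ⟨a, ha⟩ * π ⟨b, hb⟩)
              = π (σ ⟨a, ha⟩) * (π (σ ⟨b, hb⟩) * π ⟨a, ha⟩) * π ⟨b, hb⟩ := by group
            _ = π (σ ⟨a, ha⟩) * (π ⟨a, ha⟩ * π (σ ⟨b, hb⟩)) * π ⟨b, hb⟩ := by rw [hab]
            _ = π (σ ⟨a, ha⟩) * π ⟨a, ha⟩ * (π (σ ⟨b, hb⟩) * π ⟨b, hb⟩) := by group
            _ = 1 := by rw [ea, eb, mul_one]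
        inv_mem' := by
          rintro a ⟨ha, ea⟩
          refine ⟨inv_mem ha, ?_⟩
          rw [show (⟨a⁻¹, inv_mem ha⟩ : coreC D.t) = (⟨a, ha⟩ : coreC D.t)⁻¹ from rfl, map_inv, map_inv, map_inv,
            ← mul_inv_rev, hab, ea, inv_one] }
    have hS : ⁅coreC D.t, (D.S : Subgroup G)⁆ ≤ T := Subgroup.commutator_le.mpr fun g hg s hs => by
      have hsC := D.S_le_C hs
      have hmem : ⁅g, s⁆ ∈ coreC D.t := by
        rw [commutatorElement_def, show g * s * g⁻¹ * s⁻¹ = g * (s * g⁻¹ * s⁻¹) by group]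
        exact mul_mem hg (D.coreC_conj hsC (inv_mem hg))
      refine ⟨hmem, ?_⟩
      have hact : (∀ o ∈ coreC D.t, s * o * s⁻¹ = o) ∨ ∀ o ∈ coreC D.t, s * o * s⁻¹ = D.v * o * D.v⁻¹ := by
        rcases D.S_cases hs with h | ⟨w₁, w₂, h1, h2, o1, o2, n1, n2, rfl⟩
        · by_cases hs1 : s = 1
          · left; intro o _; simp [hs1]
          by_cases hst : s = D.t
          · left
            intro o ho
            rw [hst, ← ((mem_coreC D.hyp.dihedral D.conf.ht).mp ho).1, mul_inv_cancel_right]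
          · right
            intro o ho
            have hso : orderOf s = 2 := orderOf_eq_prime (by rw [sq]; exact h) hs1
            have h12 := D.rot_comm_core D.conf.hvS hs D.conf.hv hso D.conf.hvt hst o ho
            have hvi : D.v⁻¹ = D.v := inv_eq_of_mul_eq_one_left D.conf.vv
            have hsi : s⁻¹ = s := inv_eq_of_mul_eq_one_left h
            calc s * o * s⁻¹ = D.v⁻¹ * (D.v * s * o * s⁻¹) := by group
              _ = D.v⁻¹ * (o * (D.v * s) * s⁻¹) := by rw [h12]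
              _ = D.v * o * D.v⁻¹ := by rw [hvi]; group
        · left
          intro o ho
          rw [D.rot_comm_core h1 h2 o1 o2 n1 n2 o ho, mul_inv_cancel_right]
      rw [← map_mul, ← map_one π]
      refine congrArg π (Subtype.ext ?_)
      show D.v * ⁅g, s⁆ * D.v⁻¹ * ⁅g, s⁆ = 1
      rcases hact with h | h
      · have hgs : ⁅g, s⁆ = 1 := by
          rw [commutatorElement_def, show g * s * g⁻¹ * s⁻¹ = g * (s * g⁻¹ * s⁻¹) by group, h _ (inv_mem hg),
            mul_inv_cancel]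
        rw [hgs]; group
      · have hgs : ⁅g, s⁆ = g * (D.v * g⁻¹ * D.v⁻¹) := by
          rw [commutatorElement_def, show g * s * g⁻¹ * s⁻¹ = g * (s * g⁻¹ * s⁻¹) by group, h _ (inv_mem hg)]
        rw [hgs, inv_eq_of_mul_eq_one_left D.conf.vv]
        calc D.v * (g * (D.v * g⁻¹ * D.v)) * D.v * (g * (D.v * g⁻¹ * D.v))
            = D.v * g * D.v * g⁻¹ * (D.v * D.v) * g * D.v * g⁻¹ * D.v := by group
          _ = D.v * g * D.v * (g⁻¹ * g) * D.v * g⁻¹ * D.v := by rw [D.conf.vv]; group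
          _ = D.v * g * (D.v * D.v) * g⁻¹ * D.v := by group
          _ = 1 := by rw [D.conf.vv, mul_one, mul_assoc D.v, mul_assoc, mul_inv_cancel, one_mul, D.conf.vv]
    have hOT : coreC D.t ≤ T := by
      intro y hy
      exact hS (D.core_eq.ge hy)
    obtain ⟨_, ex⟩ := hOT hxO
    have hσx : σ ⟨x, hxO⟩ = ⟨x, hxO⟩ := Subtype.ext (by
      show D.v * x * D.v⁻¹ = x
      rw [← hxv', mul_inv_cancel_right])
    rw [hσx, ← map_mul] at ex
    have hx2 : x * x ∈ M := ((QuotientGroup.eq_one_iff _).mp ex : ((⟨x, hxO⟩ : coreC D.t) * ⟨x, hxO⟩ : coreC D.t) ∈ M.subgroupOf (coreC D.t))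
    obtain ⟨j, hj⟩ := D.coreC_odd.of_dvd_nat (Subgroup.orderOf_dvd_natCard _ hxO)
    have h2 := pow_mem hx2 (j + 1)
    rwa [← sq, ← pow_mul, show 2 * (j + 1) = orderOf x + 1 by omega, pow_succ, pow_orderOf_eq_one, one_mul] at h2
  obtain ⟨hNF, hpow⟩ := D.le_FF_of_trivial hP hQc hN hNn hact
  obtain ⟨b, hbc, hb⟩ := hpow x hxN
  set y := x ^ D.p ^ b
  have hy1 : y = 1 := by
    by_contra hne
    obtain ⟨l, hl, hld⟩ := Nat.exists_prime_and_dvd (mt orderOf_eq_one_iff.mp hne)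
    have hlp : l ≠ D.p := by
      rintro rfl
      exact hl.ne_one (Nat.dvd_one.mp (hbc ▸ Nat.dvd_gcd hld dvd_rfl))
    have hyO : y ∈ coreC D.t := pow_mem hxO _
    have hl2 : l ≠ 2 := by
      rintro rfl
      exact (Nat.not_even_iff_odd.mpr D.coreC_odd)
        (even_iff_two_dvd.mpr (hld.trans (Subgroup.orderOf_dvd_natCard _ hyO)))
    haveI := Fact.mk hl
    set z := y ^ (orderOf y / l)
    have hzo : orderOf z = l := orderOf_pow_orderOf_div (orderOf_pos y).ne' hld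
    have hyv : Commute y D.v := (show Commute x D.v from hxv').pow_left _
    have hyS : ∀ s ∈ (D.S : Subgroup G), Commute y s := by
      intro s hs
      rcases D.S_cases hs with h | ⟨w₁, w₂, h1, h2, o1, o2, n1, n2, rfl⟩
      · by_cases hs1 : s = 1
        · rw [hs1]; exact Commute.one_right _
        by_cases hst : s = D.t
        · rw [hst]; exact ((mem_coreC D.hyp.dihedral D.conf.ht).mp hyO).1
        · have hso : orderOf s = 2 := orderOf_eq_prime (by rw [sq]; exact h) hs1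
          have h12 : Commute y (D.v * s) := (D.rot_comm_core D.conf.hvS hs D.conf.hv hso D.conf.hvt hst y hyO).symm
          have := hyv.inv_right.mul_right h12
          rwa [inv_mul_cancel_left] at this
      · exact (D.rot_comm_core h1 h2 o1 o2 n1 n2 y hyO).symm
    have hzC : Subgroup.zpowers z ≤ C := Subgroup.zpowers_le.mpr (pow_mem (D.coreC_le hyO) _)
    have hzmem : z ∈ OO l C := by
      refine D.le_OO hzC (IsPGroup.of_card (n := 1) (by rw [Nat.card_zpowers, hzo, pow_one])) (fun g hg u hu => ?_)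
        (Subgroup.mem_zpowers z)
      obtain ⟨i, rfl⟩ := Subgroup.mem_zpowers_iff.mp hu
      obtain ⟨o, ho, s, hs, rfl⟩ := centralizer_eq_core_mul D.hyp.dihedral D.S D.conf.ht D.conf.htZ
        (Subgroup.mem_centralizer_singleton_iff.mp hg)
      have hc : Commute (o * s) y := (show Commute o y from hb o ho).mul_left (hyS s hs).symm
      rw [((hc.pow_right _).zpow_right i).eq, mul_inv_cancel_right]
      exact Subgroup.zpow_mem_zpowers _ _
    have hzQ := D.OO_le_Q hP hl hl2 hlp hzmem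
    have hinv := D.refl_inv l hl hl2 D.v (D.L_le D.v_mem) D.conf.hv D.conf.comm_tv.symm D.conf.hvt z hzQ
    have hzv : Commute z D.v := hyv.pow_left _
    rw [← hzv.eq, mul_inv_cancel_right] at hinv
    have := D.eq_one_of_sq hl hl2 hzmem (mul_eq_one_iff_eq_inv.mpr hinv)
    rw [this, orderOf_one] at hzo
    exact hl.ne_one hzo.symm
  rw [D.A_eq]
  exact ⟨D.pElem_of_FF hP hQc hxO (hNF hxN) hy1, hxv⟩

include hP hQc in
theorem W_eq_A (hcard : Nat.card (OO D.p (centI D.t)) = D.p ^ 2 * Nat.card (D.Q D.p)) : D.W ≤ D.A := fun w hw => by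
  rw [← D.core_meet_v hP hQc hcard]
  refine ⟨(mem_coreC D.hyp.dihedral D.conf.ht).mpr ⟨(D.comm_W hw D.t_mem).symm, ?_⟩, ?_⟩
  · exact D.W_odd.of_dvd_nat (Subgroup.orderOf_dvd_natCard _ hw)
  · exact Subgroup.mem_centralizer_singleton_iff.mpr (D.comm_W hw D.v_mem).symm

include hP hQc in
theorem H_eq_WL (hcard : Nat.card (OO D.p (centI D.t)) = D.p ^ 2 * Nat.card (D.Q D.p)) :
    ∀ h ∈ D.H, ∃ w ∈ D.W, ∃ l ∈ D.L, h = w * l := by
  intro h hh
  obtain ⟨l, hl, c, hc, rfl⟩ := D.H_split h hh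
  obtain ⟨n, hn, x, hx, rfl⟩ := (D.orbit_refl D.refl_v).2 c hc
  set T := fourOf (Involutions.mul_self_eq_one_of_orderOf D.conf.ht) D.conf.vv D.conf.comm_tv
  haveI hT := isKleinFour_fourOf D.conf.ht D.conf.hv D.conf.hvt.symm D.conf.comm_tv
  obtain ⟨h1, h2⟩ := D.mem_cent_pair.mp hx
  have hxT : x ∈ Subgroup.centralizer (T : Set G) := Subgroup.mem_centralizer_iff.mpr fun y hy => by
    rcases (mem_fourOf _ _ _).mp hy with rfl | rfl | rfl | rfl
    · rw [one_mul, mul_one]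
    · exact h1.symm
    · exact h2.symm
    · exact ((show Commute x D.t from h1).mul_right h2).eq.symm
  obtain ⟨a, ha, u, hu, rfl⟩ := centralizer_klein_eq D.hyp.dihedral hT hxT
  have htT : D.t ∈ T := (mem_fourOf _ _ _).mpr (Or.inr (Or.inl rfl))
  have hvT : D.v ∈ T := (mem_fourOf _ _ _).mpr (Or.inr (Or.inr (Or.inl rfl)))
  obtain ⟨huc, huo⟩ := (mem_coreT D.hyp.dihedral hT).mp hu
  have huA : u ∈ D.A := by
    rw [← D.core_meet_v hP hQc hcard]
    exact ⟨(mem_coreC D.hyp.dihedral D.conf.ht).mpr ⟨(Subgroup.mem_centralizer_iff.mp huc D.t htT).symm, huo⟩,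
      Subgroup.mem_centralizer_singleton_iff.mpr (Subgroup.mem_centralizer_iff.mp huc D.v hvT).symm⟩
  have haL : a ∈ D.L := by
    rcases (mem_fourOf _ _ _).mp ha with rfl | rfl | rfl | rfl
    exacts [one_mem _, D.t_mem, D.v_mem, mul_mem D.t_mem D.v_mem]
  have hm : l * n * a ∈ D.L := mul_mem (mul_mem hl hn.1) haL
  refine ⟨u, D.A_le_W huA, _, hm, ?_⟩
  rw [← D.comm_W (D.A_le_W huA) hm]
  group

end Left

end CfsgLib.GW.IIbData
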