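import Cfsg.Agent.Lib.GW.IIb.FinalBase
import Cfsg.Agent.Lib.GW.IIb.FinalFit
import Cfsg.Agent.Lib.GW.Model.Frame
import Cfsg.Agent.Lib.GW.IIb.LocalComp

/-!
(IIb), step 6: `H` has no involution outside `L`.

* `IIbData.exists_bound`: for every odd `r`, the `r'`-parts of `c`-th powers of elements of `O ⊓ C'` centralise
  `O_r(C)`, with `2 c ≤ r + 1`;
* `IIbData.inner_involutions`.
-/

set_option autoImplicit false
set_option linter.unusedSectionVars false
set_option linter.style.haveILetI false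

namespace CfsgLib.GW.IIbData

open Cfsg
open CfsgLib.BenderMax (OO FF)
open scoped commutatorElement

universe u

variable {G : Type u} [Group G] [Finite G] (D : IIbData G)

/-- `O ⊓ C'`. -/
def KK : Subgroup G := coreC D.t ⊓ ⁅centI D.t, centI D.t⁆

theorem coreC_le : coreC D.t ≤ centI D.t := Subgroup.map_subtype_le _

theorem coreC_odd : Odd (Nat.card (coreC D.t)) := by
  rw [coreC, Subgroup.card_map_of_injective (Subgroup.subtype_injective _)]
  exact CfsgLib.odd_card_oddCore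

theorem coreC_conj {g x : G} (hg : g ∈ centI D.t) (hx : x ∈ coreC D.t) : g * x * g⁻¹ ∈ coreC D.t :=
  BenderMax.conj_mem_map _ hg hx

theorem normalizes_coreC : centI D.t ≤ Subgroup.normalizer (coreC D.t : Set G) := fun _ hg =>
  Subgroup.mem_normalizer_fintype fun _ hx => D.coreC_conj hg hx

theorem normalizes_KK : centI D.t ≤ Subgroup.normalizer (D.KK : Set G) := fun g hg =>
  Subgroup.mem_normalizer_fintype fun x hx => by
    refine ⟨D.coreC_conj hg hx.1, ?_⟩
    have h : (⁅centI D.t, centI D.t⁆).map (MulAut.conj g).toMonoidHom = ⁅centI D.t, centI D.t⁆ := by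
      have hC : (centI D.t).map (MulAut.conj g).toMonoidHom = centI D.t := by
        rw [centI_map_conj, show g * D.t * g⁻¹ = D.t by
          rw [Subgroup.mem_centralizer_singleton_iff.mp hg, mul_inv_cancel_right]]
      rw [Subgroup.map_commutator, hC]
    exact h ▸ Subgroup.mem_map_of_mem (MulAut.conj g).toMonoidHom hx.2

theorem KK_le : D.KK ≤ centI D.t := inf_le_left.trans D.coreC_le

theorem KK_odd : Odd (Nat.card D.KK) := D.coreC_odd.of_dvd_nat (Subgroup.card_dvd_of_le inf_le_left)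

theorem normalizes_OO (r : ℕ) : centI D.t ≤ Subgroup.normalizer (OO r (centI D.t) : Set G) := fun _ hg =>
  Subgroup.mem_normalizer_fintype fun _ hx => BenderMax.conj_OO hg hx

theorem OO_le (r : ℕ) : OO r (centI D.t) ≤ centI D.t := Subgroup.map_subtype_le _

/-- The elements of `O_p(C)` commuting with all of it lie in `Q p`. -/
theorem center_P (hP : ¬ OO D.p (centI D.t) ≤ D.H) {y : G} (hy : y ∈ OO D.p (centI D.t))
    (hc : ∀ u ∈ OO D.p (centI D.t), u * y = y * u) : y ∈ D.Q D.p := by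
  obtain ⟨a, z, -, -, -, -, -, -, h, -, -⟩ := D.nonab hP
  exact h y hy hc

/-- The bound on the action of `O ⊓ C'` on `O_r(C)`. -/
theorem exists_bound {r : ℕ} (hr : r.Prime) (hr2 : r ≠ 2) (hne : OO r (centI D.t) ≠ ⊥) :
    ∃ c : ℕ, 0 < c ∧ 2 * c ≤ r + 1 ∧ ∀ x ∈ D.KK, ∃ a : ℕ, ∀ b, a ≤ b → ∀ y ∈ OO r (centI D.t),
      x ^ (c * r ^ b) * y = y * x ^ (c * r ^ b) := by
  classical
  haveI := Fact.mk hr
  have hr3 : 3 ≤ r := by have := hr.two_le; omega
  set C := centI D.t
  set R := OO r C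
  have hR : IsPGroup r R := BenderMax.OO_isPGroup r C
  have hK' : D.KK ≤ ⁅C, C⁆ := inf_le_right
  by_cases hRH : R ≤ D.H
  · have hsplit : R = R ⊓ D.W ⊔ D.Q r := by
      rw [← D.core_split r hr hr2]
      exact (inf_eq_left.mpr hRH).symm
    haveI hQc := D.Q_cyclic r hr hr2
    by_cases hW : R ⊓ D.W = ⊥
    · rw [hW, bot_sup_eq] at hsplit
      refine ⟨1, one_pos, by omega, fun x hx => ⟨0, fun b _ y hy => ?_⟩⟩
      have hcom := IIbFit.commutator_centralizes_cyclic (C := C) (Q := R) (hsplit ▸ hQc) (D.normalizes_OO r)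
      exact hcom _ (Subgroup.pow_mem _ (hK' hx) _) y hy
    · haveI := D.core_W_cyclic r hr hr2
      obtain ⟨α, hα, hαo⟩ := IIbFit.exists_order hr (hR.to_le inf_le_left) hW
      obtain ⟨β, hβ, hβo⟩ := IIbFit.exists_order hr
        (hR.to_le ((D.Q_le r hr hr2).trans inf_le_left)) (D.Q_ne r hr hr2 hne)
      have hcomm : ∀ u ∈ R ⊓ D.W, ∀ w ∈ D.Q r, u * w = w * u := fun u hu w hw =>
        (D.comm_W hu.2 (D.Q_le r hr hr2 hw).2).symm
      have hmeet : R ⊓ D.W ⊓ D.Q r = ⊥ := le_bot_iff.mp ((le_inf inf_le_right (inf_le_left.trans inf_le_right)).trans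
        (D.Q_meet r hr hr2).le)
      have hαβ : Subgroup.zpowers α ⊓ Subgroup.zpowers β = ⊥ := le_bot_iff.mp
        ((inf_le_inf (Subgroup.zpowers_le.mpr hα) (Subgroup.zpowers_le.mpr hβ)).trans hmeet.le)
      obtain ⟨hVc, hVe⟩ := IIbFit.card_pair (hcomm α hα β hβ) hαo hβo hαβ
      set V := Subgroup.zpowers α ⊔ Subgroup.zpowers β
      have hVR : V ≤ R := sup_le (Subgroup.zpowers_le.mpr hα.1) (Subgroup.zpowers_le.mpr (D.Q_le r hr hr2 hβ).1)
      have hom : ∀ x ∈ R, x ^ r = 1 → x ∈ V := fun x hx hx1 =>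
        IIbFit.omega_pair hcomm hmeet hr.pos hα hαo hβ hβo (hsplit ▸ hx) hx1
      refine IIbFit.exists_bound_omega hr hr2 D.KK_le D.normalizes_KK D.KK_odd hK' (fun g hg => ?_) hVc hVe hR
        (D.normalizes_OO r) hom
      exact Subgroup.mem_normalizer_fintype fun x hx => hom _ (BenderMax.conj_OO hg (hVR hx))
        (by rw [conj_pow, hVe x hx, mul_one, mul_inv_cancel])
  · have hrp : r = D.p := by
      by_contra h
      exact hRH (D.core_le r hr hr2 h)
    subst hrp
    obtain ⟨a, z, haA, hao, hzQ, hzo, hzP, haP, hPc, -, hcase⟩ := D.nonab hRH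
    have hPe := hPc
    have haR : a ∈ R := by rw [D.A_eq] at haA; exact haA.1
    have hzR : z ∈ R := (D.Q_le D.p hr hr2 hzQ).1
    haveI hQc := D.Q_cyclic D.p hr hr2
    -- the centre of `R`
    have hZn : C ≤ Subgroup.normalizer ((R ⊓ Subgroup.centralizer (R : Set G) : Subgroup G) : Set G) := fun g hg =>
      Subgroup.mem_normalizer_fintype fun x hx => by
        refine ⟨BenderMax.conj_OO hg hx.1, Subgroup.mem_centralizer_iff.mpr fun y hy => ?_⟩
        have hy' : g⁻¹ * y * g ∈ R := by simpa using BenderMax.conj_OO (inv_mem hg) hy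
        have h := Subgroup.mem_centralizer_iff.mp hx.2 _ hy'
        calc y * (g * x * g⁻¹) = g * (g⁻¹ * y * g * x) * g⁻¹ := by group
          _ = g * (x * (g⁻¹ * y * g)) * g⁻¹ := by rw [h]
          _ = g * x * g⁻¹ * y := by group
    rcases hcase with hE | ⟨hAp, hQcen, hcard⟩
    · have hza : z * a = a * z := (hzP a haR).symm
      have hmeet : Subgroup.zpowers a ⊓ Subgroup.zpowers z = ⊥ := le_bot_iff.mp
        ((inf_le_inf (Subgroup.zpowers_le.mpr (D.A_le_W haA)) (Subgroup.zpowers_le.mpr hzQ)).trans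
          ((inf_comm _ _).le.trans (D.Q_meet D.p hr hr2).le))
      obtain ⟨hVc, hVe⟩ := IIbFit.card_pair hza.symm hao hzo hmeet
      set V := Subgroup.zpowers a ⊔ Subgroup.zpowers z
      have hVR : V ≤ R := sup_le (Subgroup.zpowers_le.mpr haR) (Subgroup.zpowers_le.mpr hzR)
      obtain ⟨c, hc0, hc2, hc⟩ := IIbFit.exists_bound_omega (C := C) (P := V) hr hr2 D.KK_le D.normalizes_KK
        D.KK_odd hK' hE hVc hVe (hR.to_le hVR) hE (fun x hx _ => hx)
      refine ⟨c, hc0, hc2, fun x hx => ?_⟩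
      obtain ⟨b₁, hb₁⟩ := hc x hx
      obtain ⟨b₂, hb₂⟩ := IIbFit.exists_pow_coprime hr x
      refine ⟨max b₁ b₂, fun b hb y hy => ?_⟩
      set g := x ^ (c * D.p ^ b) with hg
      have hgC : g ∈ C := pow_mem (D.KK_le hx) _
      have hcop : (orderOf g).Coprime D.p := by
        rw [hg, mul_comm, pow_mul]
        exact Nat.Coprime.coprime_dvd_left (orderOf_pow_dvd _) (hb₂ b (le_trans (le_max_right _ _) hb))
      have hgV := hb₁ b (le_trans (le_max_left _ _) hb)
      have hga : g * a = a * g := hgV a (Subgroup.mem_sup_left (Subgroup.mem_zpowers a))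
      have hane : Subgroup.zpowers a ≠ ⊥ := fun e => by
        rw [Subgroup.zpowers_eq_bot] at e
        rw [e, orderOf_one] at hao
        exact hr.ne_one hao.symm
      have hcentH : ∀ u : G, u * a = a * u → u ∈ D.H := fun u hu =>
        D.normalizer_le _ (Subgroup.zpowers_le.mpr haA) hane (Subgroup.centralizer_le_normalizer _
          (Subgroup.mem_centralizer_iff.mpr fun k hk => by
            obtain ⟨i, rfl⟩ := Subgroup.mem_zpowers_iff.mp hk
            exact ((show Commute u a from hu).zpow_right i).eq.symm))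
      have hgH : g ∈ D.H := hcentH g hga
      have hBn : g ∈ Subgroup.normalizer ((R ⊓ D.H : Subgroup G) : Set G) :=
        Subgroup.mem_normalizer_fintype fun u hu =>
          ⟨BenderMax.conj_OO hgC hu.1, D.H.mul_mem (D.H.mul_mem hgH hu.2) (D.H.inv_mem hgH)⟩
      have hgB : ∀ u ∈ R ⊓ D.H, g * u * g⁻¹ = u := by
        refine CfsgLib.centralizes_of_fixes_order_p hr2 g hcop _ (hR.to_le inf_le_left) hBn fun u hu hu1 => ?_
        haveI := D.core_W_cyclic D.p hr hr2
        have huV : u ∈ V := IIbFit.omega_pair (A := R ⊓ D.W) (B := D.Q D.p)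
          (fun s hs w hw => (D.comm_W hs.2 (D.Q_le D.p hr hr2 hw).2).symm)
          (le_bot_iff.mp ((le_inf inf_le_right (inf_le_left.trans inf_le_right)).trans (D.Q_meet D.p hr hr2).le))
          hr.pos ⟨haR, D.A_le_W haA⟩ hao hzQ hzo (D.core_split D.p hr hr2 ▸ hu) hu1
        rw [hgV u huV, mul_inv_cancel_right]
      refine BenderMax.centralizes_of_selfCentralizing (W := R) (H := R ⊓ D.H) hR.isNilpotent inf_le_left ?_
        (fun w hw => BenderMax.conj_OO hgC hw) ?_ (fun u hu => mul_inv_eq_iff_eq_mul.mp (hgB u hu)) y hy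
      · exact fun u hu hcu => ⟨hu, hcentH u (hcu a ⟨haR, D.W_le (D.A_le_W haA)⟩)⟩
      · obtain ⟨k, hk⟩ := hR.exists_card_eq
        rw [hk]
        exact hcop.pow_right k
    · set Q := D.Q D.p
      have hQR : Q ≤ R := (D.Q_le D.p hr hr2).trans inf_le_left
      have hQeq : Q = R ⊓ Subgroup.centralizer (R : Set G) :=
        le_antisymm (fun y hy => ⟨hQR hy, Subgroup.mem_centralizer_iff.mpr fun u hu => hQcen y hy u hu⟩)
          fun y hy => hPe y hy.1 fun u hu => Subgroup.mem_centralizer_iff.mp hy.2 u hu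
      have hQn : C ≤ Subgroup.normalizer (Q : Set G) := by rw [hQeq]; exact hZn
      have hna : ∃ u ∈ R, ∃ w ∈ R, u * w ≠ w * u := by
        by_contra hcon
        push Not at hcon
        have ha := hPe a haR fun u hu => hcon u hu a haR
        have h1 : a ∈ (⊥ : Subgroup G) := (D.Q_meet D.p hr hr2).le ⟨ha, D.A_le_W haA⟩
        rw [Subgroup.mem_bot] at h1
        rw [h1, orderOf_one] at hao
        exact hr.ne_one hao.symm
      have hexp := IIbFit.pow_mem_of_central hr hQR hcard hQcen hna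
      obtain ⟨M, -, hMact, -, hM⟩ := IIbFit.exists_bound_section hr hr2 D.KK_le D.normalizes_KK D.KK_odd hK'
        (D.OO_le D.p) hQR (D.normalizes_OO D.p) hQn hcard hexp
      have hcom := IIbFit.commutator_centralizes_cyclic (C := C) (Q := Q) hQc hQn
      have main : ∀ x ∈ D.KK, ∀ m : ℕ, x ^ m ∈ M → (orderOf (x ^ m)).Coprime D.p →
          ∀ y ∈ R, x ^ m * y = y * x ^ m := fun x hx m hm hcop =>
        IIbFit.comm_of_section hr (hR.to_le hQR) hcop (fun y hy => hcom _ (Subgroup.pow_mem _ (hK' hx) _) y hy)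
          (hMact _ hm)
      rcases hM with h | ⟨h, -, hle, -⟩
      · refine ⟨1, one_pos, by omega, fun x hx => ?_⟩
        obtain ⟨k, hk⟩ := h x hx
        obtain ⟨b₂, hb₂⟩ := IIbFit.exists_pow_coprime hr x
        refine ⟨max k b₂, fun b hb => main x hx _ ?_ (by rw [one_mul]; exact hb₂ b (le_trans (le_max_right _ _) hb))⟩
        obtain ⟨j, rfl⟩ := Nat.exists_eq_add_of_le (le_trans (le_max_left _ _) hb)
        rw [one_mul, pow_add, pow_mul]
        exact pow_mem hk _
      · refine ⟨M.relIndex D.KK, Nat.pos_of_ne_zero Subgroup.index_ne_zero_of_finite, hle, fun x hx => ?_⟩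
        obtain ⟨b₂, hb₂⟩ := IIbFit.exists_pow_coprime hr x
        refine ⟨b₂, fun b hb => main x hx _ ?_ ?_⟩
        · rw [pow_mul]; exact pow_mem (h x hx) _
        · rw [mul_comm, pow_mul]
          exact Nat.Coprime.coprime_dvd_left (orderOf_pow_dvd _) (hb₂ b hb)

/-- `H` acts on the model of `L`. -/
noncomputable def act : D.H →* MulAut (Matrix.ProjectiveSpecialLinearGroup (Fin 2) D.F) :=
  (MulAut.congr D.psl).toMonoidHom.comp (D.L.normalizerMonoidHom.comp (Subgroup.inclusion D.L_normal))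

theorem act_apply (h : D.H) {l : G} (hl : l ∈ D.L) :
    D.act h (D.psl ⟨l, hl⟩) = D.psl ⟨(h : G) * l * (h : G)⁻¹, D.conj_L h.2 hl⟩ := by
  show D.psl (D.L.normalizerMonoidHom (Subgroup.inclusion D.L_normal h) (D.psl.symm (D.psl ⟨l, hl⟩))) = _
  rw [MulEquiv.symm_apply_apply]
  rfl

theorem act_ker_le (h : D.H) (hh : D.act h = 1) : (h : G) ∈ D.W := by
  rw [D.W_eq]
  refine ⟨h.2, Subgroup.mem_centralizer_iff.mpr fun l hl => ?_⟩
  have h1 : D.psl ⟨(h : G) * l * (h : G)⁻¹, D.conj_L h.2 hl⟩ = D.psl ⟨l, hl⟩ := by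
    rw [← D.act_apply h hl, hh]; rfl
  exact (mul_inv_eq_iff_eq_mul.mp (congrArg Subtype.val (D.psl.injective h1))).symm

/-- The field parts of involutions of `H` are trivial. -/
theorem fieldPart_invol (p : ℕ) [Fact p.Prime] [CharP D.F p] {w : D.H} (hw : w * w = 1) :
    CfsgLib.PSL2.fieldPart p (D.act w) = 1 := by
  classical
  haveI := D.L_perfect
  haveI : Group.IsPerfect (D.L.subgroupOf D.H) := isPerfect_subgroupOf D.L_le
  have hne : D.L.subgroupOf D.H ≠ ⊥ := fun e => by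
    have h : (⟨D.t, D.L_le D.t_mem⟩ : D.H) ∈ (⊥ : Subgroup D.H) :=
      e ▸ (show (⟨D.t, D.L_le D.t_mem⟩ : D.H) ∈ D.L.subgroupOf D.H from D.t_mem)
    have h1 : D.t = 1 := congrArg Subtype.val (Subgroup.mem_bot.mp h)
    have h2 := D.conf.ht
    rw [h1, orderOf_one] at h2
    omega
  obtain ⟨hd, -, -⟩ := D.hyp.sub_model D.H D.H_ne_top _ hne
  have hker : Odd (Nat.card D.act.ker) := by
    refine D.W_odd.of_dvd_nat (Subgroup.card_dvd_of_injective
      ((D.H.subtype.comp D.act.ker.subtype).codRestrict D.W fun h => D.act_ker_le h.1 (MonoidHom.mem_ker.mp h.2)) ?_)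
    exact fun a b h => Subtype.ext (Subtype.ext (congrArg (fun w : D.W => (w : G)) h))
  have hinner : (MulAut.conj : Matrix.ProjectiveSpecialLinearGroup (Fin 2) D.F →* _).range ≤ D.act.range := by
    rintro _ ⟨x, rfl⟩
    obtain ⟨⟨l, hl⟩, rfl⟩ := D.psl.surjective x
    refine ⟨⟨l, D.L_le hl⟩, MulEquiv.ext fun y => ?_⟩
    obtain ⟨⟨m, hm⟩, rfl⟩ := D.psl.surjective y
    rw [D.act_apply, MulAut.conj_apply, ← map_inv, ← map_mul, ← map_mul]
    exact congrArg _ (Subtype.ext rfl)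
  have hodd := field_odd_of_dihedral (H := D.H) hd D.odd_q D.three_lt_q p D.act hker hinner
  set f := (CfsgLib.PSL2.fieldPart p).comp D.act
  have h2 : orderOf (f.rangeRestrict w) ∣ 2 := orderOf_dvd_of_pow_eq_one (by rw [← map_pow, sq, hw, map_one])
  exact congrArg Subtype.val (orderOf_eq_one_iff.mp
    (Nat.eq_one_of_dvd_coprimes (Nat.coprime_two_left.mpr hodd) h2 (orderOf_dvd_natCard _)))

/-- Step 6: the involutions of `H` lie in `L`. -/
theorem inner_involutions {w : G} (hwH : w ∈ D.H) (hwo : orderOf w = 2) : w ∈ D.L := by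
  classical
  by_contra hwL
  have hww := Involutions.mul_self_eq_one_of_orderOf hwo
  obtain ⟨p, hp⟩ := CharP.exists D.F
  haveI := hp
  haveI : Fact p.Prime := ⟨CharP.char_is_prime D.F p⟩
  set φ := D.act ⟨w, hwH⟩
  have hφ : φ * φ = 1 := by
    rw [← map_mul, show (⟨w, hwH⟩ : D.H) * ⟨w, hwH⟩ = 1 from Subtype.ext hww, map_one]
  have hni : φ ∉ (MulAut.conj : Matrix.ProjectiveSpecialLinearGroup (Fin 2) D.F →* _).range := by
    rintro ⟨x, hx⟩
    obtain ⟨⟨l, hl⟩, rfl⟩ := D.psl.surjective x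
    have hmem : l⁻¹ * w ∈ D.W := by
      refine D.act_ker_le ⟨l⁻¹ * w, D.H.mul_mem (D.H.inv_mem (D.L_le hl)) hwH⟩ ?_
      rw [show (⟨l⁻¹ * w, D.H.mul_mem (D.H.inv_mem (D.L_le hl)) hwH⟩ : D.H) =
        (⟨l, D.L_le hl⟩ : D.H)⁻¹ * ⟨w, hwH⟩ from rfl, map_mul, map_inv, inv_mul_eq_one]
      refine (MulEquiv.ext fun y => ?_).trans hx
      obtain ⟨⟨m, hm⟩, rfl⟩ := D.psl.surjective y
      rw [D.act_apply, MulAut.conj_apply, ← map_inv, ← map_mul, ← map_mul]
      exact congrArg _ (Subtype.ext rfl)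
    set ω := l⁻¹ * w
    have hc : ω * l = l * ω := (D.comm_W hmem hl).symm
    have hsq : ω * ω * (l * l) = 1 := by
      rw [← hww, show w = l * ω by simp [ω]]
      calc ω * ω * (l * l) = ω * (ω * l) * l := by simp [mul_assoc]
        _ = ω * (l * ω) * l := by rw [hc]
        _ = ω * l * (ω * l) := by simp [mul_assoc]
        _ = l * ω * (l * ω) := by rw [hc]
    have hωL : ω * ω ∈ D.L ⊓ D.W := ⟨by
      rw [eq_inv_of_mul_eq_one_left hsq]; exact D.L.inv_mem (D.L.mul_mem hl hl), D.W.mul_mem hmem hmem⟩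
    rw [D.L_meet_W, Subgroup.mem_bot, ← sq] at hωL
    have h1 : ω = 1 := orderOf_eq_one_iff.mp (Nat.eq_one_of_dvd_coprimes (Nat.coprime_two_left.mpr D.W_odd)
      (orderOf_dvd_of_pow_eq_one hωL) (Subgroup.orderOf_dvd_natCard D.W hmem))
    exact hwL (inv_mul_eq_one.mp h1 ▸ hl)
  obtain ⟨d₀, u₀, hd₀, hu₀, huu, hu1, hud, hord⟩ := Model.diag_invol_dihedral D.odd_q D.three_lt_q p D.he D.hq4 hφ
    (D.fieldPart_invol p (Subtype.ext hww)) hni
  obtain ⟨⟨d, hdL⟩, rfl⟩ := D.psl.surjective d₀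
  obtain ⟨⟨u, huL⟩, rfl⟩ := D.psl.surjective u₀
  have hdw : w * d * w⁻¹ = d := congrArg Subtype.val (D.psl.injective ((D.act_apply ⟨w, hwH⟩ hdL).symm.trans hd₀))
  have huw : w * u * w⁻¹ = u := congrArg Subtype.val (D.psl.injective ((D.act_apply ⟨w, hwH⟩ huL).symm.trans hu₀))
  rw [← map_mul, ← map_one D.psl, D.psl.injective.eq_iff] at huu
  rw [← map_mul, ← map_inv, ← map_inv, ← map_mul, D.psl.injective.eq_iff] at hud
  have huu' : u * u = 1 := congrArg Subtype.val huu
  have hud' : u * d * u⁻¹ = d⁻¹ := congrArg Subtype.val hud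
  rw [MulEquiv.orderOf_eq, ← Subgroup.orderOf_coe] at hord
  change 2 * (orderOf d : ℤ) = _ at hord
  obtain ⟨g, hg⟩ := isConj_iff.mp (D.hyp.all_conj w D.t hwo D.conf.ht)
  have hgd := D.hyp.dihedral
  set x := g * d * g⁻¹ with hxdef
  set y := g * u * g⁻¹ with hydef
  have hxo : orderOf x = orderOf d := (MulAut.conj g).orderOf_eq d
  have hn : Odd (orderOf d) := by
    have := D.hq4
    rw [Nat.odd_iff]
    rcases D.he with e | e <;> rw [e] at this hord <;> omega
  have hct : ∀ z : G, w * z * w⁻¹ = z → g * z * g⁻¹ * D.t = D.t * (g * z * g⁻¹) := fun z hz => by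
    rw [← hg]
    calc g * z * g⁻¹ * (g * w * g⁻¹) = g * (z * w) * g⁻¹ := by group
      _ = g * (w * z) * g⁻¹ := by rw [mul_inv_eq_iff_eq_mul.mp hz]
      _ = g * w * g⁻¹ * (g * z * g⁻¹) := by group
  have hxC : x ∈ centI D.t := Subgroup.mem_centralizer_singleton_iff.mpr (hct d hdw)
  have hyC : y ∈ centI D.t := Subgroup.mem_centralizer_singleton_iff.mpr (hct u huw)
  have hxK : x ∈ D.KK := by
    refine ⟨(mem_coreC hgd D.conf.ht).mpr ⟨hct d hdw, hxo ▸ hn⟩, ?_⟩
    obtain ⟨j, hj⟩ := hn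
    have hyy : y⁻¹ = y := inv_eq_of_mul_eq_one_left (by
      rw [hydef, show g * u * g⁻¹ * (g * u * g⁻¹) = g * (u * u) * g⁻¹ by group, huu', mul_one, mul_inv_cancel])
    have hyx : y * x * y⁻¹ = x⁻¹ := by
      rw [hydef, hxdef, show g * u * g⁻¹ * (g * d * g⁻¹) * (g * u * g⁻¹)⁻¹ = g * (u * d * u⁻¹) * g⁻¹ by group, hud']
      group
    have hyxp : y * x ^ (j + 1) * y⁻¹ = (x ^ (j + 1))⁻¹ := by rw [← conj_pow, hyx, inv_pow]
    have e : ⁅x ^ (j + 1), y⁆ = x := by
      have hyxp' : y * (x ^ (j + 1))⁻¹ * y⁻¹ = x ^ (j + 1) := by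
        rw [← conj_inv, hyxp, inv_inv]
      calc ⁅x ^ (j + 1), y⁆ = x ^ (j + 1) * (y * (x ^ (j + 1))⁻¹ * y⁻¹) := by
            rw [commutatorElement_def]; group
        _ = x ^ (j + 1) * x ^ (j + 1) := by rw [hyxp']
        _ = x ^ orderOf x * x := by rw [← pow_add, ← pow_succ, hxo, hj]; ring_nf
        _ = x := by rw [pow_orderOf_eq_one, one_mul]
    exact e ▸ Subgroup.commutator_mem_commutator (pow_mem hxC _) hyC
  -- the primes of the Fitting subgroup
  set C := centI D.t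
  set pi := (Nat.card (fittingSubgroup C)).primeFactors.filter (fun r => r ≠ 2)
  have hpi : ∀ r ∈ pi, r.Prime ∧ r ≠ 2 ∧ OO r C ≠ ⊥ := fun r hr => by
    obtain ⟨hr, hr2⟩ := Finset.mem_filter.mp hr
    have hp' := Nat.prime_of_mem_primeFactors hr
    obtain ⟨Z, hZ, hZle, -⟩ := BenderMax.center_OO C hp' (Nat.dvd_of_mem_primeFactors hr)
    exact ⟨hp', hr2, fun e => hZ (le_bot_iff.mp (e ▸ hZle))⟩
  choose! c hc0 hc2 hc using fun r (hr : r ∈ pi) => D.exists_bound (hpi r hr).1 (hpi r hr).2.1 (hpi r hr).2.2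
  choose! a ha using fun r (hr : r ∈ pi) => hc r hr x hxK
  set b := pi.sup a
  set m := (∏ r ∈ pi, c r) * (∏ r ∈ pi, r) ^ b
  have hcomm : ∀ r : ℕ, r.Prime → ∀ y ∈ OO r C, x ^ m * y = y * x ^ m := by
    intro r hr y hy
    by_cases hr2 : r = 2
    · subst hr2
      haveI : Fact (Nat.Prime 2) := ⟨Nat.prime_two⟩
      have hxm : x ^ m ∈ coreC D.t := pow_mem hxK.1 _
      refine mul_inv_eq_iff_eq_mul.mp (mul_inv_eq_one.mp ?_)
      set z := x ^ m * y * (x ^ m)⁻¹ * y⁻¹
      have hz2 : z ∈ OO 2 C := mul_mem (BenderMax.conj_OO (D.coreC_le hxm) hy) (inv_mem hy)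
      have hzO : z ∈ coreC D.t := by
        rw [show z = x ^ m * (y * (x ^ m)⁻¹ * y⁻¹) by simp [z, mul_assoc]]
        exact mul_mem hxm (D.coreC_conj (D.OO_le 2 hy) (inv_mem hxm))
      obtain ⟨k, hk⟩ := (BenderMax.OO_isPGroup 2 C).exists_card_eq
      exact orderOf_eq_one_iff.mp (Nat.eq_one_of_dvd_coprimes
        (Nat.Coprime.pow_left k (Nat.coprime_two_left.mpr D.coreC_odd)) (hk ▸ Subgroup.orderOf_dvd_natCard _ hz2)
        (Subgroup.orderOf_dvd_natCard _ hzO))
    by_cases hRb : OO r C = ⊥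
    · rw [hRb, Subgroup.mem_bot] at hy
      simp [hy]
    · have hrpi : r ∈ pi := by
        refine Finset.mem_filter.mpr ⟨Nat.mem_primeFactors.mpr ⟨hr, ?_, Nat.card_pos.ne'⟩, hr2⟩
        have := IIbFit.prime_dvd_card_of_OO_ne hr hRb
        rw [OO, Subgroup.card_map_of_injective C.subtype_injective] at this
        exact this.trans (Subgroup.card_dvd_of_le (CfsgLib.pCore_le_fittingSubgroup hr))
      have hd : c r * r ^ b ∣ m :=
        mul_dvd_mul (Finset.dvd_prod_of_mem c hrpi) (pow_dvd_pow_of_dvd (Finset.dvd_prod_of_mem _ hrpi) b)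
      obtain ⟨i, hi⟩ := hd
      rw [hi, pow_mul]
      exact ((show Commute (x ^ (c r * r ^ b)) y from ha r hrpi b (Finset.le_sup hrpi) y hy).pow_left i).eq
  obtain ⟨-, hl⟩ := IIbFit.mem_fitting_of_comm D.conf.solvable (pow_mem hxC m) hcomm
  have hdvd : ∀ r ∈ pi, (r : ℤ) ∣ (D.q : ℤ) - D.e := fun r hr => by
    obtain ⟨hr', hr2, hne⟩ := hpi r hr
    refine (Int.natCast_dvd_natCast.mpr ?_).trans (D.Q_dvd r hr' hr2)
    obtain ⟨β, hβ, hβo⟩ := IIbFit.exists_order hr'
      ((BenderMax.OO_isPGroup r C).to_le ((D.Q_le r hr' hr2).trans inf_le_left)) (D.Q_ne r hr' hr2 hne)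
    exact (dvd_of_eq hβo.symm).trans (Subgroup.orderOf_dvd_natCard _ hβ)
  have hcopd : ∀ r ∈ pi, (orderOf d).Coprime r := by
    intro r hr
    obtain ⟨hr', hr2, -⟩ := hpi r hr
    refine ((Nat.Prime.coprime_iff_not_dvd hr').mpr fun hd => ?_).symm
    have h1 : (r : ℤ) ∣ (D.q : ℤ) + D.e := hord ▸ (Int.natCast_dvd_natCast.mpr hd).mul_left 2
    have h2 : (r : ℤ) ∣ 2 * D.e := by
      have := dvd_sub h1 (hdvd r hr)
      rwa [show (D.q : ℤ) + D.e - ((D.q : ℤ) - D.e) = 2 * D.e by ring] at this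
    have h3 : (r : ℤ) ∣ 2 := by
      rcases D.he with e | e <;> rw [e] at h2 <;> simpa using h2
    exact hr2 ((Nat.prime_dvd_prime_iff_eq hr' Nat.prime_two).mp (by exact_mod_cast h3))
  have hone : orderOf (x ^ m) = 1 := by
    by_contra hne
    obtain ⟨l, hlp, hld⟩ := Nat.exists_prime_and_dvd hne
    have hl2 : l ≠ 2 := by
      rintro rfl
      have hdn : 2 ∣ orderOf d := hxo ▸ hld.trans (orderOf_pow_dvd m)
      exact (Nat.not_even_iff_odd.mpr hn) (even_iff_two_dvd.mpr hdn)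
    have hlpi : l ∈ pi := by
      refine Finset.mem_filter.mpr ⟨Nat.mem_primeFactors.mpr ⟨hlp, ?_, Nat.card_pos.ne'⟩, hl2⟩
      have := IIbFit.prime_dvd_card_of_OO_ne hlp (hl l hlp hld)
      rw [OO, Subgroup.card_map_of_injective C.subtype_injective] at this
      exact this.trans (Subgroup.card_dvd_of_le (CfsgLib.pCore_le_fittingSubgroup hlp))
    have h1 : l ∣ orderOf d := hxo ▸ hld.trans (orderOf_pow_dvd m)
    exact hlp.ne_one (Nat.dvd_one.mp ((hcopd l hlpi) ▸ Nat.dvd_gcd h1 dvd_rfl))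
  have hdiv : orderOf d ∣ ∏ r ∈ pi, c r := by
    have h1 : orderOf x ∣ m := orderOf_dvd_of_pow_eq_one (orderOf_eq_one_iff.mp hone)
    rw [hxo] at h1
    exact (Nat.Coprime.pow_right b (Nat.Coprime.prod_right hcopd)).dvd_of_dvd_mul_right h1
  have hne : pi.Nonempty := by
    refine ⟨D.p, Finset.mem_filter.mpr ⟨Nat.mem_primeFactors.mpr ⟨D.conf.hp, D.conf.p_dvd, Nat.card_pos.ne'⟩,
      D.conf.hp2⟩⟩
  have key : ∀ s : Finset ℕ, s ⊆ pi → s.Nonempty → 3 * ∏ r ∈ s, c r ≤ 2 * ∏ r ∈ s, r := by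
    intro s
    induction s using Finset.induction_on with
    | empty => exact fun _ h => absurd h (by simp)
    | insert r s hrs ih =>
      intro hsub _
      rw [Finset.prod_insert hrs, Finset.prod_insert hrs]
      have hr := hsub (Finset.mem_insert_self r s)
      have hr3 : 3 ≤ r := by have := (hpi r hr).1.two_le; have := (hpi r hr).2.1; omega
      have hcr := hc2 r hr
      rcases s.eq_empty_or_nonempty with rfl | hs
      · simp only [Finset.prod_empty, mul_one]; omega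
      · calc 3 * (c r * ∏ i ∈ s, c i) = c r * (3 * ∏ i ∈ s, c i) := by ring
          _ ≤ r * (2 * ∏ i ∈ s, i) := Nat.mul_le_mul (by omega)
              (ih ((Finset.subset_insert r s).trans hsub) hs)
          _ = 2 * (r * ∏ i ∈ s, i) := by ring
  have h3 := key pi (Finset.Subset.refl _) hne
  have hprod : (4 * ((∏ r ∈ pi, r : ℕ) : ℤ)) ∣ (D.q : ℤ) - D.e := by
    refine IsCoprime.mul_dvd ?_ D.hq4 ?_
    · rw [show (4 : ℤ) = ((4 : ℕ) : ℤ) from rfl, Int.isCoprime_iff_nat_coprime, Int.natAbs_natCast, Int.natAbs_natCast]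
      exact Nat.Coprime.prod_right fun r hr => Nat.Coprime.pow_left 2 (Nat.coprime_two_left.mpr
        ((hpi r hr).1.odd_of_ne_two (hpi r hr).2.1))
    · rw [Int.natCast_dvd]
      exact Finset.prod_primes_dvd _ (fun r hr => Nat.prime_iff.mp (hpi r hr).1)
        fun r hr => Int.natCast_dvd.mp (hdvd r hr)
  have hpos : 0 < (D.q : ℤ) - D.e := by
    have h := D.hq
    unfold IIbData.q
    rcases D.he with e | e <;> rw [e] <;> omega
  have hle := Int.le_of_dvd hpos hprod
  have hd1 := Nat.le_of_dvd (Finset.prod_pos fun r hr => hc0 r hr) hdiv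
  have h11 := D.hq
  unfold IIbData.q at *
  rcases D.he with e | e <;> rw [e] at hle hord <;> omega

end CfsgLib.GW.IIbData
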