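import Cfsg.Agent.Lib.GW.IIb.FinalOuter
import Cfsg.Agent.Lib.GW.LCharS

/-!
(IIb), step 7, structure.

* `IIbData.S_le_L`: the Sylow 2-subgroup lies in `L`;
* `IIbData.refl_fix`, `IIbData.cent_pair_le`: `C_P(w) = A` and `C(t, w) ≤ H` for every reflection `w` of `L` at `t`;
* `IIbData.rot_comm_core`: products of two reflections centralise `O`;
* `IIbData.coreC_le_commutator`: `O ≤ C'`.
-/

set_option autoImplicit false
set_option linter.unusedSectionVars false
set_option linter.style.haveILetI false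

namespace CfsgLib.GW.IIbData

open Cfsg
open CfsgLib.BenderMax (OO FF)
open scoped commutatorElement

universe u

variable {G : Type u} [Group G] [Finite G] (D : IIbData G)

theorem eq_one_of_sq {r : ℕ} (hr : r.Prime) (hr2 : r ≠ 2) {x : G} (hx : x ∈ OO r (centI D.t)) (h : x * x = 1) :
    x = 1 := by
  haveI := Fact.mk hr
  obtain ⟨k, hk⟩ := (BenderMax.OO_isPGroup r (centI D.t)).exists_card_eq
  refine orderOf_eq_one_iff.mp (Nat.eq_one_of_dvd_coprimes (Nat.Coprime.pow_left k ?_)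
    (hk ▸ Subgroup.orderOf_dvd_natCard _ hx) (orderOf_dvd_of_pow_eq_one (by rw [sq]; exact h)))
  exact (Nat.coprime_primes hr Nat.prime_two).mpr hr2

theorem t_ne_one : D.t ≠ 1 := fun e => by
  have := D.conf.ht
  rw [e, orderOf_one] at this
  omega

theorem A_le_P : D.A ≤ OO D.p (centI D.t) := by rw [D.A_eq]; exact inf_le_left

theorem A_meet : OO D.p (centI D.t) ⊓ D.W = D.A := by
  refine le_antisymm ?_ (le_inf D.A_le_P D.A_le_W)
  rw [D.core_W D.p D.conf.hp D.conf.hp2]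
  rw [D.A_eq]
  exact le_inf (inf_le_left.trans inf_le_left) inf_le_right

theorem norm_A_of_conj {g : G} (h : ∀ a ∈ D.A, g * a * g⁻¹ ∈ D.A) : g ∈ D.H :=
  D.normalizer_le D.A le_rfl D.A_ne (Subgroup.mem_normalizer_fintype h)

theorem S_le_C : (D.S : Subgroup G) ≤ centI D.t := D.conf.S_le

theorem S_le_H : (D.S : Subgroup G) ≤ D.H := by
  haveI : Fact (Nat.Prime 2) := ⟨Nat.prime_two⟩
  by_contra hne
  haveI := D.S.isPGroup'.isNilpotent
  have hlt := Group.normalizerCondition_of_isNilpotent (D.H.subgroupOf (D.S : Subgroup G))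
    (lt_top_iff_ne_top.mpr fun e => hne (Subgroup.subgroupOf_eq_top.mp e))
  obtain ⟨⟨s, hs⟩, hsN, hsH⟩ := SetLike.exists_of_lt hlt
  refine hsH ?_
  show s ∈ D.H
  set w := s * D.v * s⁻¹ with hw
  have hwH : w ∈ D.H := by
    have h := (Subgroup.mem_normalizer_iff.mp hsN ⟨D.v, D.conf.hvS⟩).mp (D.L_le D.v_mem)
    simpa [Subgroup.mem_subgroupOf] using h
  have hwL := D.inner_involutions hwH (by rw [hw, ← MulAut.conj_apply, MulEquiv.orderOf_eq]; exact D.conf.hv)
  have hsi : s⁻¹ ∈ D.H := by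
    refine D.norm_A_of_conj fun a ha => ?_
    rw [D.A_eq]
    refine ⟨BenderMax.conj_OO (inv_mem (D.S_le_C hs)) (D.A_le_P ha), Subgroup.mem_centralizer_singleton_iff.mpr ?_⟩
    have h1 : w * a = a * w := D.comm_W (D.A_le_W ha) hwL
    calc s⁻¹ * a * s⁻¹⁻¹ * D.v = s⁻¹ * (a * w) * s := by rw [hw]; group
      _ = s⁻¹ * (w * a) * s := by rw [h1]
      _ = D.v * (s⁻¹ * a * s⁻¹⁻¹) := by rw [hw]; group
  simpa using D.H.inv_mem hsi

/-- Every element of `S` is of order at most two or a product of two reflections. -/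
theorem S_cases {s : G} (hs : s ∈ (D.S : Subgroup G)) :
    s * s = 1 ∨ ∃ w₁ w₂ : G, w₁ ∈ (D.S : Subgroup G) ∧ w₂ ∈ (D.S : Subgroup G) ∧ orderOf w₁ = 2 ∧
      orderOf w₂ = 2 ∧ w₁ ≠ D.t ∧ w₂ ≠ D.t ∧ s = w₁ * w₂ := by
  obtain ⟨n, hn, ⟨eS⟩⟩ := D.hyp.dihedral.shape D.S
  rcases hc : eS ⟨s, hs⟩ with i | i
  · set a : (D.S : Subgroup G) := eS.symm (.sr 0)
    set b : (D.S : Subgroup G) := eS.symm (.sr i)
    have hs' : s = (a : G) * b := by
      have h : (⟨s, hs⟩ : (D.S : Subgroup G)) = a * b := by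
        apply eS.injective
        rw [map_mul, hc, MulEquiv.apply_symm_apply, MulEquiv.apply_symm_apply, DihedralGroup.sr_mul_sr, sub_zero]
      exact congrArg Subtype.val h
    have ha : orderOf (a : G) = 2 := by rw [Subgroup.orderOf_coe, MulEquiv.orderOf_eq, DihedralGroup.orderOf_sr]
    have hb : orderOf (b : G) = 2 := by rw [Subgroup.orderOf_coe, MulEquiv.orderOf_eq, DihedralGroup.orderOf_sr]
    by_cases h : (a : G) = D.t ∨ (b : G) = D.t
    · left
      have hcm : (a : G) * b = b * a := by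
        rcases h with e | e
        · rw [e]; exact (D.conf.htZ b b.2).symm
        · rw [e]; exact D.conf.htZ a a.2
      have ha2 := Involutions.mul_self_eq_one_of_orderOf ha
      have hb2 := Involutions.mul_self_eq_one_of_orderOf hb
      rw [hs']
      calc (a : G) * b * (a * b) = a * (b * a) * b := by simp [mul_assoc]
        _ = a * (a * b) * b := by rw [hcm]
        _ = 1 := by rw [← mul_assoc, ha2, one_mul, hb2]
    · push Not at h
      exact Or.inr ⟨a, b, a.2, b.2, ha, hb, h.1, h.2, hs'⟩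
  · left
    have h : (⟨s, hs⟩ : (D.S : Subgroup G)) * ⟨s, hs⟩ = 1 := eS.injective (by
      rw [map_mul, hc, map_one, DihedralGroup.sr_mul_self])
    exact congrArg Subtype.val h

theorem S_le_L : (D.S : Subgroup G) ≤ D.L := by
  intro s hs
  rcases D.S_cases hs with h | ⟨w₁, w₂, h1, h2, o1, o2, -, -, rfl⟩
  · by_cases hs1 : s = 1
    · exact hs1 ▸ one_mem _
    · exact D.inner_involutions (D.S_le_H hs) (orderOf_eq_prime (by rw [sq]; exact h) hs1)
  · exact mul_mem (D.inner_involutions (D.S_le_H h1) o1) (D.inner_involutions (D.S_le_H h2) o2)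

/-- `C_P(w) = A`. -/
theorem refl_fix {w : G} (hwL : w ∈ D.L) (hwo : orderOf w = 2) (hwt : w * D.t = D.t * w) (hne : w ≠ D.t) :
    OO D.p (centI D.t) ⊓ Subgroup.centralizer ({w} : Set G) = D.A := by
  have hp := D.conf.hp
  have hp2 := D.conf.hp2
  haveI := Fact.mk hp
  set R := OO D.p (centI D.t) ⊓ Subgroup.centralizer ({w} : Set G)
  have hAR : D.A ≤ R := le_inf D.A_le_P fun a ha =>
    Subgroup.mem_centralizer_singleton_iff.mpr (D.comm_W (D.A_le_W ha) hwL).symm
  have hRH : ∀ x ∈ R, x ∈ D.H → x ∈ D.A := by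
    intro x hx hxH
    have hx' : x ∈ OO D.p (centI D.t) ⊓ D.H := ⟨hx.1, hxH⟩
    rw [D.core_split D.p hp hp2] at hx'
    obtain ⟨α, hα, β, hβ, rfl⟩ := IIbFit.exists_mul_of_sup (A := OO D.p (centI D.t) ⊓ D.W) (B := D.Q D.p)
      (fun s hs u hu => (D.comm_W hs.2 (D.Q_le D.p hp hp2 hu).2).symm) hx'
    have h1 := D.refl_inv D.p hp hp2 w (D.L_le hwL) hwo hwt hne β hβ
    have hαw : w * α = α * w := D.comm_W hα.2 hwL
    have hxw : α * β * w = w * (α * β) := Subgroup.mem_centralizer_singleton_iff.mp hx.2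
    have hβw : β * w = w * β := by
      rw [mul_assoc, ← mul_assoc w, hαw, mul_assoc α w] at hxw
      exact mul_left_cancel hxw
    rw [← hβw, mul_inv_cancel_right] at h1
    have hβ1 := D.eq_one_of_sq hp hp2 (D.Q_le D.p hp hp2 hβ).1 (mul_eq_one_iff_eq_inv.mpr h1)
    rw [hβ1, mul_one, ← D.A_meet]
    exact hα
  refine le_antisymm ?_ hAR
  by_contra hne'
  haveI := ((BenderMax.OO_isPGroup D.p (centI D.t)).to_le (inf_le_left : R ≤ _)).isNilpotent
  have hlt := Group.normalizerCondition_of_isNilpotent (D.A.subgroupOf R)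
    (lt_top_iff_ne_top.mpr fun e => hne' (Subgroup.subgroupOf_eq_top.mp e))
  obtain ⟨⟨x, hx⟩, hxN, hxA⟩ := SetLike.exists_of_lt hlt
  refine hxA (hRH x hx (D.norm_A_of_conj fun a ha => ?_))
  simpa [Subgroup.mem_subgroupOf] using (Subgroup.mem_normalizer_iff.mp hxN ⟨a, hAR ha⟩).mp ha

theorem cent_pair_le {w : G} (hwL : w ∈ D.L) (hwo : orderOf w = 2) (hwt : w * D.t = D.t * w) (hne : w ≠ D.t) :
    Subgroup.centralizer ({D.t, w} : Set G) ≤ D.H := by
  intro c hc
  have hct : c ∈ centI D.t := Subgroup.mem_centralizer_singleton_iff.mpr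
    (Subgroup.mem_centralizer_iff.mp hc D.t (Set.mem_insert _ _)).symm
  have hcw : w * c = c * w := Subgroup.mem_centralizer_iff.mp hc w (Set.mem_insert_of_mem _ rfl)
  refine D.norm_A_of_conj fun a ha => ?_
  rw [← D.refl_fix hwL hwo hwt hne]
  refine ⟨BenderMax.conj_OO hct (D.A_le_P ha), Subgroup.mem_centralizer_singleton_iff.mpr ?_⟩
  have haw : w * a = a * w := D.comm_W (D.A_le_W ha) hwL
  exact ((show Commute w c from hcw).mul_right (show Commute w a from haw)
    |>.mul_right (show Commute w c from hcw).inv_right).eq.symm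

/-- A 2-element of `C` centralising every odd `O_r(C)` centralises `O`. -/
theorem comm_core_of_comm_fitting {σ : G} (hσC : σ ∈ centI D.t) {j : ℕ} (hσo : orderOf σ = 2 ^ j)
    (h : ∀ r : ℕ, r.Prime → r ≠ 2 → ∀ u ∈ OO r (centI D.t), σ * u = u * σ) :
    ∀ x ∈ coreC D.t, σ * x = x * σ := by
  haveI : Fact (Nat.Prime 2) := ⟨Nat.prime_two⟩
  set C := centI D.t
  intro x hx
  obtain ⟨y, hy⟩ : ∃ y, y = σ * x * σ⁻¹ * x⁻¹ := ⟨_, rfl⟩
  have hyO : y ∈ coreC D.t := hy ▸ mul_mem (D.coreC_conj hσC hx) (inv_mem hx)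
  have htwo : ∀ u ∈ OO 2 C, ∀ o ∈ coreC D.t, o * u = u * o := by
    intro u hu o ho
    refine mul_inv_eq_iff_eq_mul.mp (mul_inv_eq_one.mp ?_)
    have hz2 : o * u * o⁻¹ * u⁻¹ ∈ OO 2 C := mul_mem (BenderMax.conj_OO (D.coreC_le ho) hu) (inv_mem hu)
    have hzO : o * u * o⁻¹ * u⁻¹ ∈ coreC D.t := by
      rw [show o * u * o⁻¹ * u⁻¹ = o * (u * o⁻¹ * u⁻¹) by group]
      exact mul_mem ho (D.coreC_conj (D.OO_le 2 hu) (inv_mem ho))
    obtain ⟨k, hk⟩ := (BenderMax.OO_isPGroup 2 C).exists_card_eq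
    exact orderOf_eq_one_iff.mp (Nat.eq_one_of_dvd_coprimes
      (Nat.Coprime.pow_left k (Nat.coprime_two_left.mpr D.coreC_odd)) (hk ▸ Subgroup.orderOf_dvd_natCard _ hz2)
      (Subgroup.orderOf_dvd_natCard _ hzO))
  have hall : ∀ r : ℕ, r.Prime → ∀ u ∈ OO r C, y * u = u * y := by
    intro r hr u hu
    by_cases hr2 : r = 2
    · exact htwo u (hr2 ▸ hu) y hyO
    have hxu : x⁻¹ * u * x ∈ OO r C := by simpa using BenderMax.conj_OO (inv_mem (D.coreC_le hx)) hu
    refine mul_inv_eq_iff_eq_mul.mp ?_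
    calc y * u * y⁻¹ = σ * x * (σ⁻¹ * (x⁻¹ * u * x) * σ) * x⁻¹ * σ⁻¹ := by rw [hy]; group
      _ = σ * x * (x⁻¹ * u * x) * x⁻¹ * σ⁻¹ := by
        rw [show σ⁻¹ * (x⁻¹ * u * x) * σ = x⁻¹ * u * x by rw [mul_assoc, ← h r hr hr2 _ hxu, inv_mul_cancel_left]]
      _ = σ * u * σ⁻¹ := by group
      _ = u := by rw [h r hr hr2 u hu, mul_inv_cancel_right]
  obtain ⟨hyF, -⟩ := IIbFit.mem_fitting_of_comm D.conf.solvable (D.coreC_le hyO) hall
  have hFle : FF C ≤ OO 2 C ⊔ C ⊓ Subgroup.centralizer ({σ} : Set G) := by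
    refine BenderMax.FF_le_of_primes fun r hr _ u hu => ?_
    by_cases hr2 : r = 2
    · exact Subgroup.mem_sup_left (hr2 ▸ hu)
    · exact Subgroup.mem_sup_right ⟨D.OO_le r hu, Subgroup.mem_centralizer_singleton_iff.mpr (h r hr hr2 u hu).symm⟩
  have hn : C ⊓ Subgroup.centralizer ({σ} : Set G) ≤ Subgroup.normalizer (OO 2 C : Set G) :=
    inf_le_left.trans (D.normalizes_OO 2)
  have hy' : y ∈ ((OO 2 C ⊔ C ⊓ Subgroup.centralizer ({σ} : Set G) : Subgroup G) : Set G) := hFle hyF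
  rw [Subgroup.coe_mul_of_right_le_normalizer_left _ _ hn] at hy'
  obtain ⟨a, ha, b, hb, hab⟩ := hy'
  have hay : Commute y a := htwo a ha y hyO
  have hb' : b = a⁻¹ * y := by rw [← hab]; simp
  obtain ⟨k, hk⟩ := (BenderMax.OO_isPGroup 2 C).exists_card_eq
  have ha2 : a ^ 2 ^ k = 1 := orderOf_dvd_iff_pow_eq_one.mp (hk ▸ Subgroup.orderOf_dvd_natCard _ ha)
  have hyb : y ^ 2 ^ k = b ^ 2 ^ k := by
    rw [hb', hay.symm.inv_left.mul_pow, inv_pow, ha2, inv_one, one_mul]
  have hσy : Commute σ (y ^ 2 ^ k) := by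
    rw [hyb]; exact ((Subgroup.mem_centralizer_singleton_iff.mp hb.2).symm : σ * b = b * σ) |> fun e => Commute.pow_right e _
  have hyodd : Odd (orderOf y) := D.coreC_odd.of_dvd_nat (Subgroup.orderOf_dvd_natCard _ hyO)
  obtain ⟨i, hi⟩ := exists_pow_eq_self_of_coprime (x := y) (n := 2 ^ k)
    (Nat.Coprime.pow_left k (Nat.coprime_two_left.mpr hyodd))
  have hcy : Commute σ y := hi ▸ hσy.pow_right i
  have hsxy : σ * x * σ⁻¹ = y * x := by rw [hy, inv_mul_cancel_right]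
  have hpow : ∀ m : ℕ, σ ^ m * x * (σ ^ m)⁻¹ = y ^ m * x := by
    intro m
    induction m with
    | zero => simp
    | succ m ih =>
      calc σ ^ (m + 1) * x * (σ ^ (m + 1))⁻¹ = σ * (σ ^ m * x * (σ ^ m)⁻¹) * σ⁻¹ := by rw [pow_succ']; group
        _ = σ * y ^ m * x * σ⁻¹ := by rw [ih]; group
        _ = y ^ m * (σ * x * σ⁻¹) := by rw [(hcy.pow_right m).eq]; group
        _ = y ^ (m + 1) * x := by rw [hsxy, pow_succ, mul_assoc]
  have h1 : y ^ 2 ^ j = 1 := by
    have := hpow (2 ^ j)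
    rw [show σ ^ 2 ^ j = 1 from hσo ▸ pow_orderOf_eq_one σ, inv_one, one_mul, mul_one] at this
    exact mul_eq_right.mp this.symm
  have hy1 : y = 1 := orderOf_eq_one_iff.mp (Nat.eq_one_of_dvd_coprimes
    (Nat.Coprime.pow_left j (Nat.coprime_two_left.mpr hyodd)) (orderOf_dvd_of_pow_eq_one h1) dvd_rfl)
  exact mul_inv_eq_iff_eq_mul.mp (mul_inv_eq_one.mp (hy ▸ hy1))

/-- Products of two reflections centralise `O`. -/
theorem rot_comm_core {w₁ w₂ : G} (h1 : w₁ ∈ (D.S : Subgroup G)) (h2 : w₂ ∈ (D.S : Subgroup G))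
    (o1 : orderOf w₁ = 2) (o2 : orderOf w₂ = 2) (n1 : w₁ ≠ D.t) (n2 : w₂ ≠ D.t) :
    ∀ x ∈ coreC D.t, w₁ * w₂ * x = x * (w₁ * w₂) := by
  haveI : Fact (Nat.Prime 2) := ⟨Nat.prime_two⟩
  set σ := w₁ * w₂
  have hσS : σ ∈ (D.S : Subgroup G) := mul_mem h1 h2
  obtain ⟨j, hj⟩ := IsPGroup.iff_orderOf.1 D.S.isPGroup' ⟨σ, hσS⟩
  rw [Subgroup.orderOf_mk] at hj
  refine D.comm_core_of_comm_fitting (D.S_le_C hσS) hj fun r hr hr2 u hu => ?_
  haveI := Fact.mk hr
  have hσL : σ ∈ D.L := D.S_le_L hσS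
  have hH : ∀ x ∈ OO r (centI D.t) ⊓ D.H, σ * x = x * σ := by
    intro x hx
    rw [D.core_split r hr hr2] at hx
    obtain ⟨α, hα, β, hβ, rfl⟩ := IIbFit.exists_mul_of_sup (A := OO r (centI D.t) ⊓ D.W) (B := D.Q r)
      (fun s hs u hu => (D.comm_W hs.2 (D.Q_le r hr hr2 hu).2).symm) hx
    have hinv : ∀ w ∈ (D.S : Subgroup G), orderOf w = 2 → w ≠ D.t → ∀ b ∈ D.Q r, w * b * w⁻¹ = b⁻¹ :=
      fun w hw ho hn b hb => D.refl_inv r hr hr2 w (D.S_le_H hw) ho (D.conf.htZ w hw) hn b hb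
    have hβσ : Commute σ β := by
      refine mul_inv_eq_iff_eq_mul.mp ?_
      calc σ * β * σ⁻¹ = w₁ * (w₂ * β * w₂⁻¹) * w₁⁻¹ := by simp [σ, mul_assoc]
        _ = β := by rw [hinv w₂ h2 o2 n2 β hβ, hinv w₁ h1 o1 n1 _ ((D.Q r).inv_mem hβ), inv_inv]
    exact ((show Commute σ α from D.comm_W hα.2 hσL).mul_right hβσ).eq
  by_cases hRH : OO r (centI D.t) ≤ D.H
  · exact hH u ⟨hu, hRH hu⟩
  · obtain rfl : r = D.p := by
      by_contra h
      exact hRH (D.core_le r hr hr2 h)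
    refine BenderMax.centralizes_of_selfCentralizing (W := OO D.p (centI D.t))
      (H := OO D.p (centI D.t) ⊓ D.H) (BenderMax.OO_isPGroup _ _).isNilpotent inf_le_left ?_
      (fun w hw => BenderMax.conj_OO (D.S_le_C hσS) hw) ?_ hH u hu
    · intro x hx hc
      refine ⟨hx, D.norm_A_of_conj fun a ha => ?_⟩
      rw [hc a ⟨D.A_le_P ha, D.W_le (D.A_le_W ha)⟩, mul_inv_cancel_right]
      exact ha
    · obtain ⟨k, hk⟩ := (BenderMax.OO_isPGroup D.p (centI D.t)).exists_card_eq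
      rw [hk, hj]
      exact Nat.Coprime.pow _ _ ((Nat.coprime_primes Nat.prime_two hr).mpr (Ne.symm hr2))

/-- An element of odd order of `L` permuting a four Sylow 2-subgroup. -/
theorem exists_perm (hS : Nat.card (D.S : Subgroup G) = 4) :
    ∃ g ∈ D.L, g ∈ Subgroup.normalizer ((D.S : Subgroup G) : Set G) ∧ g * D.t * g⁻¹ ≠ D.t := by
  classical
  haveI : Fact (Nat.Prime 2) := ⟨Nat.prime_two⟩
  haveI := D.L_perfect
  obtain ⟨n, hn, ⟨eS⟩⟩ := D.hyp.dihedral.shape D.S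
  have hn2 : n = 2 := by
    have h := (Nat.card_congr eS.toEquiv).trans DihedralGroup.nat_card
    omega
  subst hn2
  let S' : Sylow 2 D.L := D.S.subtype D.S_le_L
  have eS' : (S' : Subgroup D.L) ≃* DihedralGroup 2 :=
    (Subgroup.subgroupOfEquivOfLe D.S_le_L).trans eS
  have hK : IsKleinFour (S' : Subgroup D.L) := by
    refine DihedralFusion.isKleinFour_of_sq ?_ fun x => eS'.injective ?_
    · rw [Nat.card_congr eS'.toEquiv, DihedralGroup.nat_card]
    · have h' : ∀ y : DihedralGroup 2, y * y = 1 := by decide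
      rw [map_mul, map_one]
      exact h' _
  have hnot : ¬ DihedralFusion.Lacking (S' : Subgroup D.L) := fun hL => by
    obtain ⟨K, hK'⟩ := DihedralFusion.exists_index_two_of_lacking eS' le_rfl le_rfl hK hL
    exact index_ne_two K hK'
  rw [DihedralFusion.Lacking] at hnot
  push Not at hnot
  obtain ⟨g, hgN, hgo, hgC⟩ := hnot
  have hmem : ∀ x, x ∈ (D.S : Subgroup G) ↔ (g : G) * x * (g : G)⁻¹ ∈ (D.S : Subgroup G) := by
    intro x
    constructor
    · intro hx
      exact (Subgroup.mem_normalizer_iff.mp hgN ⟨x, D.S_le_L hx⟩).mp hx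
    · intro hx
      have hxL : x ∈ D.L := by
        have := D.L.mul_mem (D.L.mul_mem (D.L.inv_mem g.2) (D.S_le_L hx)) g.2
        simpa [mul_assoc] using this
      exact (Subgroup.mem_normalizer_iff.mp hgN ⟨x, hxL⟩).mpr hx
  refine ⟨g, g.2, Subgroup.mem_normalizer_iff.mpr hmem, fun e => hgC ?_⟩
  have hgv : ∀ x ∈ (D.S : Subgroup G), (g : G) * ((g : G) * x * (g : G)⁻¹) * (g : G)⁻¹ = x := by
    intro x hx
    have hfour : ∀ y ∈ (D.S : Subgroup G), y = 1 ∨ y = D.t ∨ y = D.v ∨ y = D.t * D.v := by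
      intro y hy
      have hsub : (fourOf D.conf.tt D.conf.vv D.conf.comm_tv) = (D.S : Subgroup G) := by
        refine Subgroup.eq_of_le_of_card_ge ?_ ?_
        · rintro y (rfl | rfl | rfl | rfl)
          exacts [one_mem _, D.conf.htS, D.conf.hvS, mul_mem D.conf.htS D.conf.hvS]
        · haveI := isKleinFour_fourOf D.conf.ht D.conf.hv (Ne.symm D.conf.hvt) D.conf.comm_tv
          rw [hS, IsKleinFour.card_four]
      exact (mem_fourOf _ _ _).mp (hsub.symm ▸ hy)
    have ht2 : ∀ y : G, g * y * (g : G)⁻¹ = D.t → y = D.t := fun y hy =>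
      mul_left_cancel (mul_right_cancel (hy.trans e.symm))
    have hinj : ∀ y z : G, g * y * (g : G)⁻¹ = g * z * (g : G)⁻¹ → y = z := fun y z h =>
      mul_left_cancel (mul_right_cancel h)
    rcases hfour x hx with rfl | rfl | rfl | rfl
    · group
    · rw [e, e]
    · rcases hfour _ ((hmem D.v).mp hx) with h | h | h | h
      · exact absurd (conj_eq_one_iff.mp h) (fun h' => by have := D.conf.hv; rw [h', orderOf_one] at this; omega)
      · exact absurd (ht2 _ h) D.conf.hvt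
      · rw [h, h]
      · rw [h, show (g : G) * (D.t * D.v) * (g : G)⁻¹ = g * D.t * (g : G)⁻¹ * (g * D.v * (g : G)⁻¹) by group, e, h,
          ← mul_assoc, D.conf.tt, one_mul]
    · have hv := (hmem D.v).mp D.conf.hvS
      rcases hfour _ hv with h | h | h | h
      · exact absurd (conj_eq_one_iff.mp h) (fun h' => by have := D.conf.hv; rw [h', orderOf_one] at this; omega)
      · exact absurd (ht2 _ h) D.conf.hvt
      · have h1 : (g : G) * (D.t * D.v) * (g : G)⁻¹ = D.t * D.v := by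
          rw [show (g : G) * (D.t * D.v) * (g : G)⁻¹ = g * D.t * (g : G)⁻¹ * (g * D.v * (g : G)⁻¹) by group, e, h]
        rw [h1, h1]
      · have h1 : (g : G) * (D.t * D.v) * (g : G)⁻¹ = D.v := by
          rw [show (g : G) * (D.t * D.v) * (g : G)⁻¹ = g * D.t * (g : G)⁻¹ * (g * D.v * (g : G)⁻¹) by group, e, h,
            ← mul_assoc, D.conf.tt, one_mul]
        rw [h1, h]
  refine Subgroup.mem_centralizer_iff.mpr fun x hx => Subtype.ext ?_
  have h2 : Commute ((g : G) ^ 2) (x : G) := mul_inv_eq_iff_eq_mul.mp (by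
    rw [sq]
    simpa [mul_assoc] using hgv x hx)
  obtain ⟨j, hj⟩ := hgo
  have h3 := h2.pow_left (j + 1)
  rw [← pow_mul, show 2 * (j + 1) = orderOf (g : G) + 1 by rw [Subgroup.orderOf_coe]; omega, pow_succ,
    pow_orderOf_eq_one, one_mul] at h3
  exact h3.eq.symm

/-- `⁅O, S⁆ = O`. -/
theorem core_eq : ⁅coreC D.t, (D.S : Subgroup G)⁆ = coreC D.t := by
  by_cases hS : Nat.card (D.S : Subgroup G) = 4
  · obtain ⟨g, hgL, hgN, hgt⟩ := D.exists_perm hS
    refine D.hyp.core_eq_commutator_four D.S hS D.conf.ht D.conf.htS ⟨g, hgN, hgt, fun x hx hc => ?_⟩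
    have hxv : x * D.v = D.v * x := hc D.v D.conf.hvS
    have hxt : x * D.t = D.t * x := hc D.t D.conf.htS
    have hxH : x ∈ D.H := D.cent_pair_le D.v_mem D.conf.hv D.conf.comm_tv.symm D.conf.hvt
      (Subgroup.mem_centralizer_iff.mpr fun y hy => by
        rcases hy with rfl | hy
        · exact hxt.symm
        · rw [Set.mem_singleton_iff.mp hy]; exact hxv.symm)
    have hS' : ∀ y ∈ (D.S : Subgroup G), g * x * g⁻¹ * y = y * (g * x * g⁻¹) := fun y hy => by
      have hy' : g⁻¹ * y * g ∈ (D.S : Subgroup G) := by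
        have := (Subgroup.mem_normalizer_iff.mp (inv_mem hgN) y).mp hy
        simpa using this
      calc g * x * g⁻¹ * y = g * (x * (g⁻¹ * y * g)) * g⁻¹ := by group
        _ = g * (g⁻¹ * y * g * x) * g⁻¹ := by rw [hc _ hy']
        _ = y * (g * x * g⁻¹) := by group
    set k := g * x * g⁻¹ * x⁻¹ with hk
    have hkL : k ∈ D.L := by
      rw [hk, show g * x * g⁻¹ * x⁻¹ = g * (x * g⁻¹ * x⁻¹) by group]
      exact mul_mem hgL (D.conj_L hxH (inv_mem hgL))
    have hkc : ∀ y ∈ (D.S : Subgroup G), k * y = y * k := fun y hy =>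
      ((show Commute (g * x * g⁻¹) y from hS' y hy).mul_left (show Commute x y from hc y hy).inv_left).eq
    have hkS : k ∈ (D.S : Subgroup G) := by
      rcases D.four_L D.t_mem D.v_mem hkL D.conf.tt D.t_ne_one D.conf.vv
        (fun e => by have := D.conf.hv; rw [e, orderOf_one] at this; omega) D.conf.hvt D.conf.comm_tv.symm
        (hkc _ D.conf.htS) (hkc _ D.conf.hvS) with e | e | e | e <;> rw [e]
      exacts [one_mem _, D.conf.htS, D.conf.hvS, mul_mem D.conf.htS D.conf.hvS]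
    have hxo : Odd (orderOf x) := D.coreC_odd.of_dvd_nat (Subgroup.orderOf_dvd_natCard _ hx)
    have hk2 : k * k = 1 := by
      rcases D.S_cases hkS with h | ⟨w₁, w₂, h1, h2, o1, o2, -, -, e⟩
      · exact h
      · haveI : Fact (Nat.Prime 2) := ⟨Nat.prime_two⟩
        obtain ⟨n, hn, ⟨eS⟩⟩ := D.hyp.dihedral.shape D.S
        have hn2 : n = 2 := by
          have h := (Nat.card_congr eS.toEquiv).trans DihedralGroup.nat_card
          omega
        subst hn2
        have h' : ∀ y : DihedralGroup 2, y * y = 1 := by decide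
        exact congrArg Subtype.val (eS.injective (by rw [map_mul, map_one]; exact h' _) :
          (⟨k, hkS⟩ : (D.S : Subgroup G)) * ⟨k, hkS⟩ = 1)
    have hkx : Commute k x := (hc k hkS).symm
    have e1 : (k * x) ^ orderOf x = 1 := by
      rw [hk, inv_mul_cancel_right, conj_pow, pow_orderOf_eq_one, mul_one, mul_inv_cancel]
    rw [hkx.mul_pow, pow_orderOf_eq_one, mul_one] at e1
    have hk1 : k = 1 := orderOf_eq_one_iff.mp (Nat.eq_one_of_dvd_coprimes
      (Nat.coprime_two_left.mpr hxo) (orderOf_dvd_of_pow_eq_one (by rw [sq]; exact hk2))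
      (orderOf_dvd_of_pow_eq_one e1))
    exact mul_inv_eq_iff_eq_mul.mp (mul_inv_eq_one.mp (hk ▸ hk1))
  · refine D.hyp.core_eq_commutator_of_rot D.S hS D.conf.ht D.conf.htS D.conf.htZ fun s hs hso x hx => ?_
    rcases D.S_cases hs with h | ⟨w₁, w₂, h1, h2, o1, o2, n1, n2, rfl⟩
    · by_cases hs1 : s = 1
      · rw [hs1, one_mul, mul_one]
      · exact absurd (orderOf_eq_prime (by rw [sq]; exact h) hs1) hso
    · exact (D.rot_comm_core h1 h2 o1 o2 n1 n2 x hx).symm

/-- `O ≤ C'`. -/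
theorem coreC_le_commutator : coreC D.t ≤ ⁅centI D.t, centI D.t⁆ :=
  D.core_eq.ge.trans (Subgroup.commutator_mono D.coreC_le D.S_le_C)

end CfsgLib.GW.IIbData
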