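import Cfsg.Agent.Lib.GW.IIb.FourF

/-!
The last case of (IIb) for a four-group Sylow 2-subgroup: the contradiction.
-/

set_option autoImplicit false
set_option linter.style.haveILetI false
set_option linter.unusedSectionVars false

namespace CfsgLib.GW.IIb

open Cfsg CfsgLib.CharTheory
open scoped ComplexConjugate

universe u

/-- The arithmetic at the end. -/
theorem four_arith {A a₂ a₃ τ M : ℤ} (hs : A + a₂ + a₃ = 1) (hq : a₂ * a₃ + τ ^ 2 * A * (a₂ + a₃) = A * a₂ * a₃)
    (hA : A ≠ 1) (h2 : M ≤ a₂ ∨ a₂ ≤ -M) (h3 : M ≤ a₃ ∨ a₃ ≤ -M) (hM : 3 ≤ M)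
    (hc : 2 * τ ^ 2 < M ∨ a₂ = a₃) : False := by
  have h1 : a₂ * a₃ + τ ^ 2 * A = 0 := by
    have h : (1 - A) * (a₂ * a₃ + τ ^ 2 * A) = 0 := by linear_combination hq - τ ^ 2 * A * hs
    exact (mul_eq_zero.1 h).resolve_left (by omega)
  have hk : (a₂ - τ ^ 2) * (a₃ - τ ^ 2) = τ ^ 4 - τ ^ 2 := by linear_combination h1 - τ ^ 2 * hs
  by_cases ht : τ = 0
  · subst ht
    have : a₂ * a₃ = 0 := by linear_combination h1
    rcases mul_eq_zero.1 this with e | e <;> omega
  have ht2 : 1 ≤ τ ^ 2 := by rcases lt_or_gt_of_ne ht with e | e <;> nlinarith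
  rcases hc with hc | hc
  · rcases h2 with h2 | h2 <;> rcases h3 with h3 | h3
    · nlinarith [mul_pos (show 0 < a₂ - 2 * τ ^ 2 by linarith) (show 0 < a₃ - τ ^ 2 by linarith)]
    · nlinarith [mul_pos (show 0 < a₂ - τ ^ 2 by linarith) (show 0 < τ ^ 2 - a₃ by linarith)]
    · nlinarith [mul_pos (show 0 < τ ^ 2 - a₂ by linarith) (show 0 < a₃ - τ ^ 2 by linarith)]
    · nlinarith [mul_pos (show 0 < -a₂ by linarith) (show 0 < τ ^ 2 - a₃ by linarith)]
  · subst hc
    set k := a₂ - τ ^ 2 with hkdef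
    have hd : τ ∣ k := (Int.pow_dvd_pow_iff two_ne_zero).1 ⟨τ ^ 2 - 1, by rw [sq k, hk]; ring⟩
    obtain ⟨j, hj⟩ := hd
    rw [hj] at hk
    have hj2 : (τ - j) * (τ + j) = 1 := by
      have h : τ ^ 2 * ((τ - j) * (τ + j) - 1) = 0 := by linear_combination -hk
      linarith [(mul_eq_zero.1 h).resolve_left (by linarith)]
    have hj0 : j = 0 := by
      rcases Int.eq_one_or_neg_one_of_mul_eq_one' hj2 with ⟨e1, e2⟩ | ⟨e1, e2⟩ <;> omega
    have ht1 : τ ^ 2 = 1 := by rw [hj0, sub_zero, add_zero] at hj2; rw [sq]; exact hj2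
    rw [hj0, mul_zero, hkdef, ht1] at hj
    omega

namespace FourB

variable {G : Type u} [Group G] [Fintype G] (D : FourB G)

theorem sum_four [DecidableEq (IrrCharacter G)] {R : Type*} [CommRing R] {o X Y W : IrrCharacter G}
    (ho : o ≠ X ∧ o ≠ Y ∧ o ≠ W) (hXY : X ≠ Y) (hXW : X ≠ W) (hYW : Y ≠ W)
    (hb : ∀ χ, χ ≠ o → χ ≠ X → χ ≠ Y → χ ≠ W → D.b χ = 0) (K : IrrCharacter G → R) :
    ∑ χ : IrrCharacter G, (D.b χ : R) * K χ =
      (D.b o : R) * K o + (D.b X : R) * K X + (D.b Y : R) * K Y + (D.b W : R) * K W := by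
  rw [← Finset.sum_subset (Finset.subset_univ ({o, X, Y, W} : Finset _)) (fun x _ hx => by
    simp only [Finset.mem_insert, Finset.mem_singleton, not_or] at hx
    rw [hb x hx.1 hx.2.1 hx.2.2.1 hx.2.2.2, Int.cast_zero, zero_mul])]
  rw [Finset.sum_insert (by simp [ho.1, ho.2.1, ho.2.2]), Finset.sum_insert (by simp [hXY, hXW]),
    Finset.sum_pair hYW]
  ring

theorem value_int (χ : IrrCharacter G) : ∃ τ : ℤ, (χ : G → ℂ) D.t = (τ : ℂ) :=
  ⟨∑ φ : IrrCharacter D.O, D.c χ φ * (deg φ : ℤ), by rw [D.value_t]; push_cast; simp only [deg_spec]⟩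

protected theorem false [IsSimpleGroup G] (D : FourB G) : False := by
  classical
  set o : IrrCharacter G := ⟨fun _ => 1, isIrrCharacter_one⟩ with ho
  set φ1 : IrrCharacter D.O := ⟨fun _ => 1, isIrrCharacter_one⟩ with hφ1
  have hf1 : D.sConj φ1 = φ1 := Subtype.ext rfl
  have hdeg_o : deg o = 1 := by
    have h := deg_spec o
    rw [show (o : G → ℂ) 1 = 1 from rfl] at h
    exact_mod_cast h.symm
  have hdeg1 : deg φ1 = 1 := by
    have h := deg_spec φ1
    rw [show (φ1 : D.O → ℂ) 1 = 1 from rfl] at h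
    exact_mod_cast h.symm
  have hco : ∀ φ, D.c o φ = if φ = φ1 then 1 else 0 := by
    intro φ
    have h := D.c_spec o φ
    rw [show D.sec (o : G → ℂ) = (φ1 : D.O → ℂ) from rfl, classInner_irr φ1.2 φ.2] at h
    by_cases e : φ = φ1
    · subst e; rw [if_pos rfl] at h ⊢; exact_mod_cast h.symm
    · rw [if_neg fun e' => e (Subtype.ext e'.symm)] at h
      rw [if_neg e]; exact_mod_cast h.symm
  have hbo : D.b o = -D.e := D.b_one rfl
  have hee : D.e * D.e = 1 := by rcases D.he with e | e <;> rw [e] <;> decide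
  have hr1 : 1 ≤ D.r := le_trans (Nat.pos_of_ne_zero Subgroup.index_ne_zero_of_finite) D.hr
  have hM : 3 ≤ D.p * D.m := by nlinarith [D.hpm]
  have hbig : ∀ χ, χ ≠ o → D.p * D.m ≤ deg χ := fun χ h => D.deg_ge fun e => h (Subtype.ext e)
  -- the three further constituents
  have hsq := D.sum_b_sq
  rw [← Finset.add_sum_erase Finset.univ _ (Finset.mem_univ o), hbo] at hsq
  set T := (Finset.univ.erase o).filter fun χ => D.b χ ≠ 0 with hT
  have hsq' : ∑ χ ∈ T, D.b χ * D.b χ = 3 := by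
    rw [Finset.sum_subset (Finset.filter_subset _ (Finset.univ.erase o)) fun x hx hx' => by
      rw [not_not.1 fun h => hx' (Finset.mem_filter.2 ⟨hx, h⟩), mul_zero]]
    linarith
  have hb1 : ∀ χ ∈ T, D.b χ = 1 ∨ D.b χ = -1 := by
    intro χ hχ
    have h0 := (Finset.mem_filter.1 hχ).2
    have hle := Finset.single_le_sum (fun x _ => mul_self_nonneg (D.b x)) hχ
    rw [hsq'] at hle
    have h1 : D.b χ < 2 := by nlinarith
    have h2 : -2 < D.b χ := by nlinarith
    omega
  have hcard : T.card = 3 := by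
    rw [Finset.sum_congr rfl fun x hx => (by rcases hb1 x hx with e | e <;> rw [e] <;> rfl :
      D.b x * D.b x = 1), Finset.sum_const, nsmul_eq_mul, mul_one] at hsq'
    exact_mod_cast hsq'
  -- the equations for such a triple
  have main : ∀ X Y W : IrrCharacter G, X ≠ Y → X ≠ W → Y ≠ W → T = {X, Y, W} → D.c X φ1 ≠ 0 →
      (D.c Y φ1 = 0 ↔ D.c W φ1 = 0) → False := by
    intro X Y W hXY hXW hYW hTe hX hiff
    have hmem : ∀ χ ∈ ({X, Y, W} : Finset _), χ ≠ o := fun χ h =>
      (Finset.mem_erase.1 (Finset.mem_filter.1 (hTe ▸ h)).1).1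
    have hXo : X ≠ o := hmem X (by simp)
    have hYo : Y ≠ o := hmem Y (by simp)
    have hWo : W ≠ o := hmem W (by simp)
    have hbX := hb1 X (by rw [hTe]; simp)
    have hbY := hb1 Y (by rw [hTe]; simp)
    have hbW := hb1 W (by rw [hTe]; simp)
    have hb0 : ∀ χ, χ ≠ o → χ ≠ X → χ ≠ Y → χ ≠ W → D.b χ = 0 := fun χ h0 h1 h2 h3 => by
      by_contra hc
      have : χ ∈ T := Finset.mem_filter.2 ⟨Finset.mem_erase.2 ⟨h0, Finset.mem_univ _⟩, hc⟩
      simp [hTe, h1, h2, h3] at this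
    have hd := D.sum_b_deg
    have hs4 := D.sum_four ⟨hXo.symm, hYo.symm, hWo.symm⟩ hXY hXW hYW hb0 (R := ℤ)
    simp only [Int.cast_id] at hs4
    rw [hs4, hdeg_o, hbo] at hd
    have hcφ : ∀ φ, φ ≠ φ1 → D.b X * D.c X φ + D.b Y * D.c Y φ + D.b W * D.c W φ = 0 := fun φ hφ => by
      have h := D.sum_b_c φ
      rw [hs4, hco, if_neg hφ, mul_zero, zero_add] at h
      exact h
    have hX0 : ∀ φ, φ ≠ φ1 → D.c X φ = 0 := fun φ hφ => D.one_orbit hX φ hφ (by rwa [hf1])
    have hval1 : ∀ χ, D.c χ φ1 ≠ 0 → (χ : G → ℂ) D.t ^ 2 = 1 := fun χ h => by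
      rw [D.value_single (D.one_orbit h), if_pos hf1, hdeg1]
      rcases (D.fixed_cases hf1 χ).resolve_left h with e | e <;> rw [e] <;> simp
    obtain ⟨τ, hτ⟩ := D.value_int Y
    have hWt : (W : G → ℂ) D.t ^ 2 = (τ : ℂ) ^ 2 := by
      by_cases h0 : D.c Y φ1 = 0
      · have h0' := hiff.1 h0
        have hs : (D.b Y : ℂ) * (Y : G → ℂ) D.t + (D.b W : ℂ) * (W : G → ℂ) D.t = 0 := by
          rw [D.value_t, D.value_t, Finset.mul_sum, Finset.mul_sum, ← Finset.sum_add_distrib]
          refine Finset.sum_eq_zero fun φ _ => ?_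
          rw [← mul_assoc, ← mul_assoc, ← add_mul]
          by_cases e : φ = φ1
          · rw [e, h0, h0']; simp
          · have h := hcφ φ e
            rw [hX0 φ e, mul_zero, zero_add] at h
            have h' : (D.b Y : ℂ) * (D.c Y φ : ℂ) + (D.b W : ℂ) * (D.c W φ : ℂ) = 0 := by exact_mod_cast h
            rw [h', zero_mul]
        rw [hτ] at hs
        rcases hbY with e | e <;> rcases hbW with e' | e' <;> rw [e, e'] at hs <;> push_cast at hs
        · rw [show (W : G → ℂ) D.t = -(τ : ℂ) by linear_combination hs]; ring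
        · rw [show (W : G → ℂ) D.t = (τ : ℂ) by linear_combination -hs]
        · rw [show (W : G → ℂ) D.t = (τ : ℂ) by linear_combination hs]
        · rw [show (W : G → ℂ) D.t = -(τ : ℂ) by linear_combination -hs]; ring
      · rw [← hτ, hval1 Y h0, hval1 W (fun e => h0 (hiff.2 e))]
    have hE := D.sum_b_E
    rw [D.sum_four ⟨hXo.symm, hYo.symm, hWo.symm⟩ hXY hXW hYW hb0, hbo, hWt, hτ, hval1 X hX] at hE
    simp only [deg_spec, hdeg_o, show (o : G → ℂ) D.t = 1 from rfl] at hE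
    have hx0 : (deg X : ℂ) ≠ 0 := Nat.cast_ne_zero.2 (deg_pos X).ne'
    have hy0 : (deg Y : ℂ) ≠ 0 := Nat.cast_ne_zero.2 (deg_pos Y).ne'
    have hw0 : (deg W : ℂ) ≠ 0 := Nat.cast_ne_zero.2 (deg_pos W).ne'
    have hI : D.b X * (deg Y * deg W) + (D.b Y * deg W + D.b W * deg Y) * deg X * τ ^ 2 -
        D.e * (deg X * deg Y * deg W) = 0 := by
      have : ((D.b X * (deg Y * deg W) + (D.b Y * deg W + D.b W * deg Y) * deg X * τ ^ 2 -
          D.e * (deg X * deg Y * deg W) : ℤ) : ℂ) = 0 := by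
        push_cast at hE ⊢
        field_simp at hE
        linear_combination hE
      exact_mod_cast this
    have hsX : D.b X * D.b X = 1 := by rcases hbX with e | e <;> rw [e] <;> decide
    have hsY : D.b Y * D.b Y = 1 := by rcases hbY with e | e <;> rw [e] <;> decide
    have hsW : D.b W * D.b W = 1 := by rcases hbW with e | e <;> rw [e] <;> decide
    have hbig' : ∀ χ, χ ≠ o → (D.b χ = 1 ∨ D.b χ = -1) →
        ((D.p * D.m : ℕ) : ℤ) ≤ D.e * D.b χ * deg χ ∨ D.e * D.b χ * deg χ ≤ -((D.p * D.m : ℕ) : ℤ) := by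
      intro χ h hb
      have := Int.ofNat_le.2 (hbig χ h)
      rcases D.he with e | e <;> rcases hb with e' | e' <;> rw [e, e'] <;> omega
    refine four_arith (A := D.e * D.b X * deg X) (a₂ := D.e * D.b Y * deg Y) (a₃ := D.e * D.b W * deg W)
      (τ := τ) (M := ((D.p * D.m : ℕ) : ℤ)) ?_ ?_ ?_ (hbig' Y hYo hbY) (hbig' W hWo hbW) (by exact_mod_cast hM) ?_
    · linear_combination D.e * hd + hee
    · linear_combination (D.b X * D.b Y * D.b W * D.e ^ 2) * hI
        - D.e ^ 2 * D.b Y * D.b W * deg Y * deg W * hsX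
        - τ ^ 2 * deg X * D.e ^ 2 * D.b X * D.b Y * deg Y * hsW
        - τ ^ 2 * deg X * D.e ^ 2 * D.b X * D.b W * deg W * hsY
    · have := hbig' X hXo hbX; omega
    by_cases h0 : D.c Y φ1 = 0
    swap
    · left
      have h := hval1 Y h0
      rw [hτ] at h
      have hτ1 : τ ^ 2 = 1 := by exact_mod_cast h
      rw [hτ1]; omega
    by_cases hcY : ∀ φ, D.c Y φ = 0
    · left
      have hτ0 : τ = 0 := by
        have h : (Y : G → ℂ) D.t = 0 := by
          rw [D.value_t]; exact Finset.sum_eq_zero fun φ _ => by rw [hcY]; simp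
        rw [hτ] at h; exact_mod_cast h
      rw [hτ0]; omega
    push Not at hcY
    obtain ⟨φ, hφ⟩ := hcY
    by_cases hf : D.sConj φ = φ
    · left
      have h := D.value_single (D.one_orbit hφ)
      rw [if_pos hf, one_mul, hτ] at h
      have hτ1 : τ = D.c Y φ * deg φ := by exact_mod_cast h
      have hd : (deg φ : ℤ) ≤ D.r := by exact_mod_cast D.deg_fixed_le hf
      have hpm : 2 * (D.r : ℤ) ^ 2 < ((D.p * D.m : ℕ) : ℤ) := by exact_mod_cast D.hpm
      have hτ2 : τ ^ 2 = (deg φ : ℤ) ^ 2 := by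
        rw [hτ1]
        rcases (D.fixed_cases hf Y).resolve_left hφ with e | e <;> rw [e] <;> ring
      rw [hτ2]
      nlinarith [pow_le_pow_left₀ (by positivity : (0 : ℤ) ≤ deg φ) hd 2]
    · right
      have hne : φ ≠ φ1 := fun e => hφ (e ▸ h0)
      have h := hcφ φ hne
      rw [hX0 φ hne, mul_zero, zero_add] at h
      have hW : D.c W φ ≠ 0 := fun e => by
        rw [e, mul_zero, add_zero] at h
        rcases mul_eq_zero.1 h with e' | e'
        · rw [e'] at hsY; simp at hsY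
        · exact hφ e'
      obtain ⟨q, -, hq, he, hdeq, hz⟩ := D.moved_pair hf hφ
      obtain rfl : W = q := by
        by_contra hc
        exact hW (hz W hYW.symm hc)
      rw [hq] at h
      have hbe : D.b W = D.b Y := by
        have h' : (D.b Y - D.b W) * D.c Y φ = 0 := by linear_combination h
        linarith [(mul_eq_zero.1 h').resolve_right hφ]
      rw [hbe, hdeq]
  -- the trivial character of `O`
  obtain ⟨X, Y, W, hXY, hXW, hYW, hTe⟩ := Finset.card_eq_three.1 hcard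
  have h1 := D.sum_b_c φ1
  have hb0 : ∀ χ, χ ≠ o → χ ≠ X → χ ≠ Y → χ ≠ W → D.b χ = 0 := fun χ h0 h1 h2 h3 => by
    by_contra hc
    have : χ ∈ T := Finset.mem_filter.2 ⟨Finset.mem_erase.2 ⟨h0, Finset.mem_univ _⟩, hc⟩
    simp [hTe, h1, h2, h3] at this
  have hmem : ∀ χ ∈ ({X, Y, W} : Finset _), o ≠ χ := fun χ h =>
    ((Finset.mem_erase.1 (Finset.mem_filter.1 (hTe ▸ h)).1).1).symm
  have hs4 := D.sum_four ⟨hmem X (by simp), hmem Y (by simp), hmem W (by simp)⟩ hXY hXW hYW hb0 (R := ℤ)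
  simp only [Int.cast_id] at hs4
  rw [hs4, hco, if_pos rfl, hbo] at h1
  have hTX : T = {Y, X, W} := by rw [hTe]; ext; simp; tauto
  have hTW : T = {W, X, Y} := by rw [hTe]; ext; simp; tauto
  have hbX := hb1 X (by rw [hTe]; simp)
  have hbY := hb1 Y (by rw [hTe]; simp)
  have hbW := hb1 W (by rw [hTe]; simp)
  by_cases cX : D.c X φ1 = 0 <;> by_cases cY : D.c Y φ1 = 0 <;> by_cases cW : D.c W φ1 = 0
  · rw [cX, cY, cW] at h1; rcases D.he with e | e <;> omega
  · exact main W X Y hXW.symm hYW.symm hXY hTW cW (iff_of_true cX cY)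
  · exact main Y X W hXY.symm hYW hXW hTX cY (iff_of_true cX cW)
  · have eY := (D.fixed_cases hf1 Y).resolve_left cY
    have eW := (D.fixed_cases hf1 W).resolve_left cW
    rw [cX] at h1
    rcases D.he with e | e <;> rcases hbY with b2 | b2 <;> rcases hbW with b3 | b3 <;> rcases eY with c2 | c2 <;>
      rcases eW with c3 | c3 <;> simp [e, b2, b3, c2, c3] at h1
  · exact main X Y W hXY hXW hYW hTe cX (iff_of_true cY cW)
  · have eX := (D.fixed_cases hf1 X).resolve_left cX
    have eW := (D.fixed_cases hf1 W).resolve_left cW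
    rw [cY] at h1
    rcases D.he with e | e <;> rcases hbX with b1 | b1 <;> rcases hbW with b3 | b3 <;> rcases eX with c1 | c1 <;>
      rcases eW with c3 | c3 <;> simp [e, b1, b3, c1, c3] at h1
  · have eX := (D.fixed_cases hf1 X).resolve_left cX
    have eY := (D.fixed_cases hf1 Y).resolve_left cY
    rw [cW] at h1
    rcases D.he with e | e <;> rcases hbX with b1 | b1 <;> rcases hbY with b2 | b2 <;> rcases eX with c1 | c1 <;>
      rcases eY with c2 | c2 <;> simp [e, b1, b2, c1, c2] at h1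
  · exact main X Y W hXY hXW hYW hTe cX (iff_of_false cY cW)

end FourB

end CfsgLib.GW.IIb
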