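import Cfsg.Agent.Lib.GW.IIb.Data
import Cfsg.Agent.Lib.GW.IIb.FourFinal
import Cfsg.Agent.Lib.GW.IIb.FourModel

/-!
The left case of (IIb) for a four-group Sylow 2-subgroup (`FourB`) from the data of the local analysis.
-/

set_option autoImplicit false
set_option linter.style.haveILetI false
set_option linter.unusedSectionVars false

namespace CfsgLib.GW

open Cfsg
open CfsgLib.BenderMax (OO)

universe u

variable {G : Type u} [Group G] [Finite G]

/-- The elements of a Sylow four group at `(t, v)`. -/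
theorem IIbData.four_elements (D : IIbData G) (hS : Nat.card (D.S : Subgroup G) = 4) :
    ∀ s ∈ (D.S : Subgroup G), s = 1 ∨ s = D.t ∨ s = D.v ∨ s = D.t * D.v := by
  classical
  have hne1 : ∀ {i : G}, orderOf i = 2 → i ≠ 1 := fun h e => by rw [e, orderOf_one] at h; omega
  have hvi : D.v⁻¹ = D.v :=
    inv_eq_of_mul_eq_one_right (CfsgLib.Involutions.mul_self_eq_one_of_orderOf D.conf.hv)
  intro s hs
  by_contra hc
  push Not at hc
  haveI : Fintype (D.S : Subgroup G) := Fintype.ofFinite _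
  have h1 : D.t ≠ 1 := hne1 D.conf.ht
  have h2 : D.v ≠ 1 := hne1 D.conf.hv
  have hvt' : D.t ≠ D.v := D.conf.hvt.symm
  have h3 : D.t * D.v ≠ 1 := fun e => D.conf.hvt (by rw [mul_eq_one_iff_eq_inv, hvi] at e; exact e.symm)
  have hsub : ({s, 1, D.t, D.v, D.t * D.v} : Finset G) ⊆ (D.S : Set G).toFinset := by
    intro x hx
    simp only [Finset.mem_insert, Finset.mem_singleton] at hx
    rw [Set.mem_toFinset]
    rcases hx with rfl | rfl | rfl | rfl | rfl
    exacts [hs, one_mem _, D.conf.htS, D.conf.hvS, mul_mem D.conf.htS D.conf.hvS]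
  have hle := Finset.card_le_card hsub
  have hcard : (D.S : Set G).toFinset.card = 4 := by
    rw [Set.toFinset_card, ← Nat.card_eq_fintype_card]; exact hS
  rw [hcard, Finset.card_insert_of_notMem (by simp [hc.1, hc.2.1, hc.2.2.1, hc.2.2.2]),
    Finset.card_insert_of_notMem (by simp [Ne.symm h1, Ne.symm h2, Ne.symm h3]),
    Finset.card_insert_of_notMem (by simp [hvt', h2]),
    Finset.card_insert_of_notMem (by simp [h1]), Finset.card_singleton] at hle
  omega

/-- No configuration (IIb) with `|S| = 4`, `|A| = p`, `C_O(v) = A` and `F(O)` of index at most `(p + 1) / 2`. -/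
theorem IIbData.no_four (D : IIbData G) (hS : Nat.card (D.S : Subgroup G) = 4)
    (hP : ¬ OO D.p (centI D.t) ≤ D.H) (hAp : Nat.card D.A = D.p) (hWA : D.W = D.A)
    (hX : coreC D.t ⊓ Subgroup.centralizer ({D.v} : Set G) = D.A)
    (hHWL : ∀ h ∈ D.H, ∃ w ∈ D.W, ∃ l ∈ D.L, h = w * l)
    (hZL : Subgroup.center D.L = ⊥)
    (hzc : ∀ z ∈ D.Q D.p, z ^ D.p = 1 → ∀ u ∈ coreC D.t, u * z = z * u)
    (hN : ∀ z ∈ D.Q D.p, orderOf z = D.p → ∃ N : Subgroup (coreC D.t), N.Normal ∧
      (∀ b ∈ N, ∀ b' ∈ N, ((b * b' * b⁻¹ * b'⁻¹ : coreC D.t) : G) ∈ Subgroup.zpowers z) ∧ 2 * N.index ≤ D.p + 1) :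
    False := by
  classical
  letI : Fintype G := Fintype.ofFinite G
  haveI : IsSimpleGroup G := D.conf.hyp.simple
  obtain ⟨a, z, haA, hao, hzQ, hzo, hzP, haP, hPc, -, -⟩ := D.nonab hP
  set p := D.p with hpdef
  set t := D.t with htdef
  set v := D.v with hvdef
  have hp := D.conf.hp
  have hp2 := D.conf.hp2
  haveI : Fact p.Prime := ⟨hp⟩
  have hzp : z ^ p = 1 := hzo ▸ pow_orderOf_eq_one z
  have hA : Subgroup.zpowers a = D.A :=
    Subgroup.eq_of_le_of_card_ge (Subgroup.zpowers_le.2 haA) (by rw [Nat.card_zpowers, hao, hAp])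
  have haX : a ∈ coreC t ⊓ Subgroup.centralizer ({v} : Set G) := by rw [hX]; exact haA
  have haO : a ∈ coreC t := haX.1
  have hgd := D.conf.hyp.dihedral
  have hOt : ∀ u ∈ coreC t, u * t = t * u := fun u hu => ((mem_coreC hgd D.conf.ht).1 hu).1
  have hodd : Odd (Nat.card (coreC t)) := by
    rw [coreC, Subgroup.card_map_of_injective (Subgroup.subtype_injective _)]
    exact CfsgLib.odd_card_oddCore
  have hvt : v * t = t * v := D.conf.htZ v D.conf.hvS
  have hv2 : v * v = 1 := CfsgLib.Involutions.mul_self_eq_one_of_orderOf D.conf.hv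
  have ht2 : t * t = 1 := CfsgLib.Involutions.mul_self_eq_one_of_orderOf D.conf.ht
  have hne1 : ∀ {i : G}, orderOf i = 2 → i ≠ 1 := fun h e => by rw [e, orderOf_one] at h; omega
  have hvi : v⁻¹ = v := inv_eq_of_mul_eq_one_right hv2
  have hvO : ∀ u ∈ coreC t, v * u * v ∈ coreC t := by
    intro u hu
    have h := Subgroup.mem_map_of_mem (MulAut.conj v).toMonoidHom hu
    rw [map_coreC hgd D.conf.ht, show v * t * v⁻¹ = t by rw [hvt, mul_inv_cancel_right]] at h
    simp only [MulEquiv.coe_toMonoidHom, MulAut.conj_apply, hvi] at h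
    exact h
  have hSel := D.four_elements hS
  have hC : ∀ c : G, c * t = t * c → ∃ s : G, (s = 1 ∨ s = t ∨ s = v ∨ s = t * v) ∧ ∃ u ∈ coreC t, c = s * u := by
    intro c hc
    obtain ⟨y, hy, s, hs, rfl⟩ := centralizer_eq_core_mul hgd D.S D.conf.ht D.conf.htZ hc
    refine ⟨s, hSel s hs, s⁻¹ * y * s, ?_, by group⟩
    have h := Subgroup.mem_map_of_mem (MulAut.conj s⁻¹).toMonoidHom hy
    rw [map_coreC hgd D.conf.ht, show s⁻¹ * t * s⁻¹⁻¹ = t by
      rw [inv_inv, mul_assoc, ← D.conf.htZ s hs, inv_mul_cancel_left]] at h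
    simpa only [MulEquiv.coe_toMonoidHom, MulAut.conj_apply, inv_inv] using h
  have hcent : ∀ u ∈ coreC t, (u * v = v * u ↔ u ∈ Subgroup.zpowers a) := fun u hu => by
    rw [hA]
    constructor
    · intro h; rw [← hX]; exact ⟨hu, Subgroup.mem_centralizer_singleton_iff.2 h⟩
    · intro h; rw [← hX] at h; exact Subgroup.mem_centralizer_singleton_iff.1 h.2
  have haW : a ∈ D.W := D.A_le_W haA
  have hWc : ∀ w ∈ D.W, ∀ l ∈ D.L, l * w = w * l := fun w hw l hl => by
    have hw' := hw; rw [D.W_eq] at hw'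
    exact Subgroup.mem_centralizer_iff.1 hw'.2 l hl
  have hLA : ∀ l ∈ D.L, l ∈ Subgroup.zpowers a → l = 1 := by
    intro l hl hla
    rw [hA, ← hWA] at hla
    have h : (⟨l, hl⟩ : D.L) ∈ Subgroup.center D.L :=
      Subgroup.mem_center_iff.2 fun g => Subtype.ext (hWc l hla g g.2)
    rw [hZL, Subgroup.mem_bot] at h
    exact congrArg Subtype.val h
  have hne : Subgroup.zpowers a ≠ ⊥ := fun e => by
    rw [Subgroup.zpowers_eq_bot] at e; rw [e, orderOf_one] at hao; exact hp.ne_one hao.symm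
  have hnorm : ∀ g : G, g * a * g⁻¹ ∈ Subgroup.zpowers a → ∃ w ∈ D.W, ∃ l ∈ D.L, g = w * l := by
    intro g hg
    refine hHWL g (D.normalizer_le (Subgroup.zpowers a) (hA.le) hne ?_)
    have hle : (Subgroup.zpowers a).map (MulAut.conj g).toMonoidHom ≤ Subgroup.zpowers a := by
      rw [MonoidHom.map_zpowers]; exact Subgroup.zpowers_le.2 hg
    have heq := Subgroup.eq_of_le_of_card_ge hle
      (by rw [Subgroup.card_map_of_injective (MulAut.conj g).injective])
    rw [Subgroup.mem_normalizer_iff]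
    intro k
    conv_rhs => rw [← heq, Subgroup.mem_map_equiv, MulAut.conj_symm_apply]
    simp [mul_assoc]
  have hWA' : ∀ w ∈ D.W, w ∈ Subgroup.zpowers a := fun w hw => by rw [hA, ← hWA]; exact hw
  have hNA : ∀ g : G, g * a * g⁻¹ ∈ Subgroup.zpowers a → g * a = a * g := by
    intro g hg
    obtain ⟨w, hw, l, hl, rfl⟩ := hnorm g hg
    obtain ⟨i, rfl⟩ := Subgroup.mem_zpowers_iff.1 (hWA' w hw)
    rw [mul_assoc, hWc a haW l hl, ← mul_assoc, ← mul_assoc]
    congr 1
    exact ((Commute.refl a).zpow_left i).eq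
  have hCa : ∀ g : G, g * a = a * g → ∃ w ∈ Subgroup.zpowers a, ∃ l ∈ D.L, g = w * l := by
    intro g hg
    obtain ⟨w, hw, l, hl, e⟩ := hnorm g (by rw [hg, mul_inv_cancel_right]; exact Subgroup.mem_zpowers a)
    exact ⟨w, hWA' w hw, l, hl, e⟩
  have hzL : z ∈ D.L := (D.Q_le p hp hp2 hzQ).2
  have hz1 : z ≠ 1 := fun e => by rw [e, orderOf_one] at hzo; exact hp.ne_one hzo.symm
  have hzt : z * t = t * z := by
    obtain ⟨y, -, hy⟩ := (D.Q_le p hp hp2 hzQ).1
    rw [← hy]
    exact Subgroup.mem_centralizer_singleton_iff.1 y.2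
  have hzO : z ∈ coreC t := (mem_coreC hgd D.conf.ht).2 ⟨hzt, by rw [hzo]; exact hp.odd_of_ne_two hp2⟩
  have hzv : v * z * v = z⁻¹ := by
    have h := D.refl_inv p hp hp2 v (D.L_le D.v_mem) D.conf.hv hvt D.conf.hvt z hzQ
    rwa [hvi] at h
  have haPm : a ∈ OO p (centI t) := by
    have h := haA; rw [D.A_eq] at h; exact h.1
  obtain ⟨y, hy, hya⟩ : ∃ y ∈ OO p (centI t), y * a ≠ a * y := by
    by_contra hc
    push Not at hc
    have haQ := hPc a haPm hc
    have := (D.Q_meet p hp hp2).le ⟨haQ, haW⟩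
    rw [Subgroup.mem_bot] at this
    rw [this, orderOf_one] at hao
    exact hp.ne_one hao.symm
  -- a shift
  obtain ⟨x, hxz, hax⟩ : ∃ x : G, x * z = z * x ∧ x⁻¹ * a * x = a * z := by
    obtain ⟨i, hi⟩ := Subgroup.mem_zpowers_iff.1 (haP y hy)
    have hpow : ∀ k : ℕ, y ^ k * a * (y ^ k)⁻¹ = z ^ (i * k) * a := by
      intro k
      induction k with
      | zero => simp
      | succ k ih =>
        have hzk : y * z ^ (i * k) = z ^ (i * k) * y := ((show Commute y z from hzP y hy).zpow_right _).eq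
        calc y ^ (k + 1) * a * (y ^ (k + 1))⁻¹ = y * (y ^ k * a * (y ^ k)⁻¹) * y⁻¹ := by
              rw [pow_succ']; group
          _ = y * z ^ (i * k) * a * y⁻¹ := by rw [ih]; group
          _ = z ^ (i * k) * (y * a * y⁻¹) := by rw [hzk]; group
          _ = z ^ (i * k) * (z ^ i * a) := by rw [hi]; group
          _ = _ := by rw [← mul_assoc, ← zpow_add]; push_cast; ring_nf
    have hpi : ¬ (p : ℤ) ∣ i := fun h => hya (by
      have : z ^ i = 1 := orderOf_dvd_iff_zpow_eq_one.1 (hzo ▸ h)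
      rw [this] at hi
      exact (mul_inv_eq_iff_eq_mul.1 (mul_inv_eq_one.1 hi.symm)))
    obtain ⟨k, hk⟩ : ∃ k : ℕ, (p : ℤ) ∣ i * k - (-1) := by
      have hi0 : (i : ZMod p) ≠ 0 := fun e => hpi ((ZMod.intCast_zmod_eq_zero_iff_dvd i p).1 e)
      refine ⟨(-(i : ZMod p)⁻¹).val, (ZMod.intCast_zmod_eq_zero_iff_dvd _ p).1 ?_⟩
      push_cast
      rw [ZMod.natCast_val, ZMod.cast_id, mul_neg, mul_inv_cancel₀ hi0]
      ring
    refine ⟨y ^ k, ((show Commute y z from hzP y hy).pow_left k).eq, ?_⟩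
    have hz' : z ^ (i * k) = z⁻¹ := by
      rw [← zpow_neg_one]
      refine mul_inv_eq_one.1 ?_
      rw [← zpow_sub]
      exact orderOf_dvd_iff_zpow_eq_one.1 (hzo ▸ hk)
    have e := hpow k
    rw [hz'] at e
    have hcz : (y ^ k)⁻¹ * z * y ^ k = z := by
      rw [mul_assoc, ← ((show Commute y z from hzP y hy).pow_left k).eq, inv_mul_cancel_left]
    calc (y ^ k)⁻¹ * a * y ^ k = (y ^ k)⁻¹ * (z * (y ^ k * a * (y ^ k)⁻¹)) * y ^ k := by rw [e]; group
      _ = ((y ^ k)⁻¹ * z * y ^ k) * a := by group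
      _ = z * a := by rw [hcz]
      _ = a * z := hWc a haW z hzL
  obtain ⟨N, hNn, hNc, hNi⟩ := hN z hzQ hzo
  -- the model
  let φ : D.L ≃* Matrix.ProjectiveSpecialLinearGroup (Fin 2) D.F :=
    (QuotientGroup.quotientBot (G := D.L)).symm.trans ((QuotientGroup.quotientMulEquivOfEq hZL.symm).trans D.model.some)
  have hq := D.hq
  have hq4 := D.hq4
  have hqodd : Odd (Fintype.card D.F) := by
    rw [Nat.odd_iff]; rcases D.he with e | e <;> rw [e] at hq4 <;> omega
  have hpq : (p : ℤ) ∣ (Fintype.card D.F : ℤ) - D.e := by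
    refine (Int.natCast_dvd_natCast.2 ?_).trans (D.Q_dvd p hp hp2)
    exact hzo.symm.dvd.trans (Subgroup.orderOf_dvd_natCard _ hzQ)
  letI : Fintype D.L := Fintype.ofFinite _
  obtain ⟨π, hπ, hπ1, hπ2, hπfix⟩ :=
    IIbFinal.exists_line_char hqodd (by omega) φ hp hp2 D.he hq4 hpq
  have hpm : 2 * ((p + 1) / 2) ^ 2 < p * ((Fintype.card D.F - 1) / 2) := by
    have h4p : (4 * (p : ℤ)) ∣ (Fintype.card D.F : ℤ) - D.e := by
      refine IsCoprime.mul_dvd ?_ hq4 hpq
      rw [Int.isCoprime_iff_nat_coprime]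
      exact Nat.Coprime.pow_left 2 (Nat.coprime_two_left.2 (hp.odd_of_ne_two hp2))
    have hle := Int.le_of_dvd (by rcases D.he with e | e <;> rw [e] <;> omega) h4p
    have hm : 2 * p - 1 ≤ (Fintype.card D.F - 1) / 2 := by
      rcases D.he with e | e <;> rw [e] at hle <;> omega
    have hp3 : 3 ≤ p := by have := hp.two_le; omega
    obtain ⟨j, hj⟩ : ∃ j, p = 2 * j + 1 := hp.odd_of_ne_two hp2
    have hlow : p * (2 * p - 1) ≤ p * ((Fintype.card D.F - 1) / 2) := Nat.mul_le_mul_left p hm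
    rw [hj, show (2 * j + 1 + 1) / 2 = j + 1 by omega]
    rw [hj, show 2 * (2 * j + 1) - 1 = 4 * j + 1 by omega] at hlow
    nlinarith
  exact IIb.FourB.false
    { p := p, hp := hp, t := t, v := v, O := coreC t, a := a
      ht2 := ht2, hv2 := hv2, ht1 := hne1 D.conf.ht, hv1 := hne1 D.conf.hv, htv := D.conf.hvt.symm, hcomm := hvt
      hodd := hodd, hOt := hOt, hC := hC, hvO := hvO, hcent := hcent, haO := haO, hao := hao
      hconj := fun i hi hi1 => D.conf.hyp.all_conj t i D.conf.ht (orderOf_eq_prime (by rw [sq]; exact hi) hi1)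
      hNA := hNA, L := D.L, hLa := fun l hl => hWc a haW l hl, hLA := hLA, hCa := hCa
      z := z, x := x, hzL := hzL, hz1 := hz1, hzp := hzp, hzO := hzO, hzv := hzv
      hzc := hzc z hzQ hzp, hxz := hxz, hax := hax
      N := N, hN := hNn, hNc := hNc, r := (p + 1) / 2, hr := by omega
      m := (Fintype.card D.F - 1) / 2
      hmin := fun n σ hσ => IIbFinal.min_degree hqodd (by omega) φ n σ hσ
      hpm := hpm, e := D.e, he := D.he, π := π, hπ := hπ
      hπ1 := (CfsgLib.CharTheory.classInner_congr_inst _ _ _ _).trans hπ1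
      hπ2 := (CfsgLib.CharTheory.classInner_congr_inst _ _ _ _).trans hπ2
      hπfix := hπfix }

end CfsgLib.GW
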