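import Cfsg.Agent.Lib.MinNonCA.FourOmega
import Cfsg.Agent.Lib.CharTheory.Schur
import Cfsg.Agent.Lib.CharTheory.Degree

/-!
The last case of (IIb) for a four-group Sylow 2-subgroup: the data and the section of `t`.
-/

set_option autoImplicit false
set_option linter.style.haveILetI false
set_option linter.unusedSectionVars false

namespace CfsgLib.GW.IIb

open Cfsg CfsgLib.CharTheory CfsgLib.KleinCent
open scoped ComplexConjugate

universe u

/-- The data: `C(t) = ⟨t, v⟩ O`, `C_O(v) = A = ⟨a⟩` of prime order with `C(a) = A × L`, an element `z` of `L`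
central in `O` and inverted by `v`, and a class function on `L` of Steinberg type. -/
structure FourB (G : Type u) [Group G] [Fintype G] where
  p : ℕ
  hp : p.Prime
  t : G
  v : G
  O : Subgroup G
  a : G
  ht2 : t * t = 1
  hv2 : v * v = 1
  ht1 : t ≠ 1
  hv1 : v ≠ 1
  htv : t ≠ v
  hcomm : v * t = t * v
  hodd : Odd (Nat.card O)
  hOt : ∀ u ∈ O, u * t = t * u
  hC : ∀ c : G, c * t = t * c → ∃ s : G, (s = 1 ∨ s = t ∨ s = v ∨ s = t * v) ∧ ∃ u ∈ O, c = s * u
  hvO : ∀ u ∈ O, v * u * v ∈ O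
  hcent : ∀ u ∈ O, (u * v = v * u ↔ u ∈ Subgroup.zpowers a)
  haO : a ∈ O
  hao : orderOf a = p
  hconj : ∀ i : G, i * i = 1 → i ≠ 1 → IsConj t i
  hNA : ∀ g : G, g * a * g⁻¹ ∈ Subgroup.zpowers a → g * a = a * g
  L : Subgroup G
  hLa : ∀ l ∈ L, l * a = a * l
  hLA : ∀ l ∈ L, l ∈ Subgroup.zpowers a → l = 1
  hCa : ∀ g : G, g * a = a * g → ∃ w ∈ Subgroup.zpowers a, ∃ l ∈ L, g = w * l
  z : G
  x : G
  hzL : z ∈ L
  hz1 : z ≠ 1
  hzp : z ^ p = 1
  hzO : z ∈ O
  hzv : v * z * v = z⁻¹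
  hzc : ∀ u ∈ O, u * z = z * u
  hxz : x * z = z * x
  hax : x⁻¹ * a * x = a * z
  N : Subgroup O
  hN : N.Normal
  hNc : ∀ b ∈ N, ∀ b' ∈ N, ((b * b' * b⁻¹ * b'⁻¹ : O) : G) ∈ Subgroup.zpowers z
  r : ℕ
  hr : N.index ≤ r
  m : ℕ
  hmin : ∀ (n : ℕ) (ρ : Representation ℂ L (Fin n → ℂ)), (∃ l, ρ l ≠ 1) → m ≤ n
  hpm : 2 * r ^ 2 < p * m
  e : ℤ
  he : e = 1 ∨ e = -1
  π : L → ℂ
  hπ : IsCharacter L π
  hπ1 : @classInner L _ (Fintype.ofFinite L) π (fun _ => 1) = 1
  hπ2 : @classInner L _ (Fintype.ofFinite L) π π = 2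
  hπfix : ∀ l : L, (2 ∣ orderOf l ∨ p ∣ orderOf l) → π l = 1 + (e : ℂ)

namespace FourB

variable {G : Type u} [Group G] [Fintype G] (D : FourB G)

/-- The subgroup generated by `a`. -/
abbrev A : Subgroup G := Subgroup.zpowers D.a

noncomputable instance instFintypeO : Fintype D.O := Fintype.ofFinite _
noncomputable instance instFintypeA : Fintype D.A := Fintype.ofFinite _
noncomputable instance instFintypeL : Fintype D.L := Fintype.ofFinite _

theorem A_le : D.A ≤ D.O := Subgroup.zpowers_le.2 D.haO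

theorem card_A : Nat.card D.A = D.p := by rw [Nat.card_zpowers, D.hao]

theorem p_odd : Odd D.p := by
  rw [← D.card_A]; exact D.hodd.of_dvd_nat (Subgroup.card_dvd_of_le D.A_le)

theorem cardO_ne : (Nat.card D.O : ℂ) ≠ 0 := Nat.cast_ne_zero.mpr Nat.card_pos.ne'

theorem t_inv : D.t⁻¹ = D.t := inv_eq_of_mul_eq_one_right D.ht2

theorem v_inv : D.v⁻¹ = D.v := inv_eq_of_mul_eq_one_right D.hv2

theorem t_conj {u : G} (hu : u ∈ D.O) : D.t * u * D.t = u := by
  rw [← D.hOt u hu, mul_assoc, D.ht2, mul_one]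

/-- Conjugation by `v` on `O`. -/
def sigma : D.O →* D.O where
  toFun u := ⟨D.v * u * D.v, D.hvO u u.2⟩
  map_one' := Subtype.ext (by simp [D.hv2])
  map_mul' a b := Subtype.ext (by
    calc D.v * ((a : G) * b) * D.v = D.v * a * 1 * b * D.v := by group
      _ = D.v * a * (D.v * D.v) * b * D.v := by rw [D.hv2]
      _ = _ := by push_cast; group)

theorem sigma_val (u : D.O) : (D.sigma u : G) = D.v * u * D.v := rfl

theorem sigma_sigma (u : D.O) : D.sigma (D.sigma u) = u := Subtype.ext (by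
  show D.v * (D.v * u * D.v) * D.v = u
  calc D.v * (D.v * (u : G) * D.v) * D.v = (D.v * D.v) * u * (D.v * D.v) := by group
    _ = u := by rw [D.hv2, one_mul, mul_one])

theorem sigma_eq_iff (u : D.O) : D.sigma u = u ↔ (u : G) ∈ D.A := by
  rw [← D.hcent u u.2, Subtype.ext_iff, sigma_val]
  constructor
  · intro h
    calc (u : G) * D.v = D.v * u * D.v * D.v := by rw [h]
      _ = D.v * u := by rw [mul_assoc (D.v * (u : G)), D.hv2, mul_one]
  · intro h
    rw [← h, mul_assoc, D.hv2, mul_one]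

theorem A_comm_v {w : G} (hw : w ∈ D.A) : w * D.v = D.v * w := (D.hcent w (D.A_le hw)).2 hw

theorem pow_O {u : G} (hu : u ∈ D.O) : u ^ Nat.card D.O = 1 := by
  have := congrArg Subtype.val (pow_card_eq_one' (G := D.O) (x := ⟨u, hu⟩))
  rwa [Subgroup.coe_pow, OneMemClass.coe_one] at this

theorem eq_one_of_sq {u : G} (hu : u ∈ D.O) (h : u * u = 1) : u = 1 := by
  obtain ⟨m, hm⟩ := D.hodd
  have := D.pow_O hu
  rwa [hm, pow_succ, pow_mul, sq, h, one_pow, one_mul] at this

theorem pow_t : D.t ^ Nat.card D.O = D.t := by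
  obtain ⟨m, hm⟩ := D.hodd
  rw [hm, pow_succ, pow_mul, sq, D.ht2, one_pow, one_mul]

theorem pow_tu {u : G} (hu : u ∈ D.O) : (D.t * u) ^ Nat.card D.O = D.t := by
  rw [(show Commute D.t u from (D.hOt u hu).symm).mul_pow, D.pow_O hu, D.pow_t, mul_one]

theorem conj_section {g u u' : G} (hu : u ∈ D.O) (hu' : u' ∈ D.O)
    (e : g * (D.t * u) * g⁻¹ = D.t * u') : g * D.t = D.t * g := by
  have h := congrArg (fun x => x ^ Nat.card D.O) e
  simp only [conj_pow, D.pow_tu hu, D.pow_tu hu'] at h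
  exact mul_inv_eq_iff_eq_mul.mp h

/-- The elements of the four group. -/
def sv (f g : Bool) : G := (if f then D.t else 1) * (if g then D.v else 1)

theorem sv_sq (f g : Bool) : D.sv f g * D.sv f g = 1 := by
  cases f <;> cases g <;> simp [sv, D.ht2, D.hv2]
  calc D.t * D.v * (D.t * D.v) = D.t * (D.v * D.t) * D.v := by group
    _ = D.t * (D.t * D.v) * D.v := by rw [D.hcomm]
    _ = (D.t * D.t) * (D.v * D.v) := by group
    _ = 1 := by rw [D.ht2, D.hv2, one_mul]

theorem sv_mem_O {f g : Bool} (h : D.sv f g ∈ D.O) : f = false ∧ g = false := by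
  have h1 := D.eq_one_of_sq h (D.sv_sq f g)
  cases f <;> cases g <;> simp [sv] at h1 ⊢
  · exact D.hv1 h1
  · exact D.ht1 h1
  · exact D.htv (by rw [mul_eq_one_iff_eq_inv, D.v_inv] at h1; exact h1)

theorem sv_conj (f g : Bool) (u : D.O) :
    D.sv f g * u * (D.sv f g)⁻¹ = ((if g then D.sigma u else u : D.O) : G) := by
  rw [inv_eq_of_mul_eq_one_right (D.sv_sq f g)]
  have hts : D.t * (D.v * (u : G) * D.v) * D.t = D.v * u * D.v := D.t_conj (D.hvO u u.2)
  cases f <;> cases g <;> simp [sv, sigma_val, D.t_conj u.2]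
  calc D.t * D.v * (u : G) * (D.t * D.v) = D.t * D.v * u * (D.v * D.t) := by rw [D.hcomm]
    _ = D.t * (D.v * (u : G) * D.v) * D.t := by group
    _ = _ := hts

theorem exists_sv {c : G} (h : c * D.t = D.t * c) : ∃ f g : Bool, ∃ u : D.O, c = D.sv f g * u := by
  obtain ⟨s, hs, u, hu, rfl⟩ := D.hC c h
  rcases hs with rfl | rfl | rfl | rfl
  · exact ⟨false, false, ⟨u, hu⟩, by simp [sv]⟩
  · exact ⟨true, false, ⟨u, hu⟩, by simp [sv]⟩
  · exact ⟨false, true, ⟨u, hu⟩, by simp [sv]⟩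
  · exact ⟨true, true, ⟨u, hu⟩, by simp [sv]⟩

theorem sv_injective : Function.Injective fun p : (Bool × Bool) × D.O => D.sv p.1.1 p.1.2 * (p.2 : G) := by
  rintro ⟨⟨f, g⟩, u⟩ ⟨⟨f', g'⟩, u'⟩ e
  simp only at e
  have h : (D.sv f' g')⁻¹ * D.sv f g ∈ D.O := by
    have : (D.sv f' g')⁻¹ * D.sv f g = (u' : G) * (u : G)⁻¹ := by
      rw [eq_mul_inv_iff_mul_eq, mul_assoc, e, inv_mul_cancel_left]
    rw [this]; exact D.O.mul_mem u'.2 (D.O.inv_mem u.2)
  rw [inv_eq_of_mul_eq_one_right (D.sv_sq f' g'),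
    show D.sv f' g' * D.sv f g = D.sv (xor f' f) (xor g' g) by
      have hc : D.v * D.t = D.t * D.v := D.hcomm
      cases f <;> cases g <;> cases f' <;> cases g' <;> simp [sv, D.ht2, D.hv2, hc, ← mul_assoc] <;>
        simp [mul_assoc, hc, D.ht2, D.hv2, ← mul_assoc D.t D.t]] at h
  obtain ⟨h1, h2⟩ := D.sv_mem_O h
  have hf : f = f' := by cases f <;> cases f' <;> simp_all
  have hg : g = g' := by cases g <;> cases g' <;> simp_all
  subst hf; subst hg
  exact Prod.ext rfl (Subtype.ext (mul_left_cancel e))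

/-- Elements of `A` conjugate in `G` are equal. -/
theorem conj_A {g w : G} (hw : w ∈ D.A) (h : g * w * g⁻¹ ∈ D.A) : g * w * g⁻¹ = w := by
  by_cases hw1 : w = 1
  · subst hw1; simp
  haveI : Fact (Nat.card D.A).Prime := ⟨D.card_A.symm ▸ D.hp⟩
  have htop : Subgroup.zpowers (⟨w, hw⟩ : D.A) = ⊤ :=
    ((Subgroup.zpowers (⟨w, hw⟩ : D.A)).eq_bot_or_eq_top_of_prime_card).resolve_left
      (fun e => hw1 (congrArg Subtype.val (Subgroup.zpowers_eq_bot.1 e)))
  obtain ⟨k, hk⟩ := Subgroup.mem_zpowers_iff.1 (htop ▸ Subgroup.mem_top (⟨D.a, Subgroup.mem_zpowers _⟩ : D.A))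
  have hk' : w ^ k = D.a := congrArg Subtype.val hk
  have hz : g * D.a * g⁻¹ ∈ D.A := by
    have e : (g * w * g⁻¹) ^ k = g * D.a * g⁻¹ := by rw [conj_zpow, hk']
    exact e ▸ zpow_mem h k
  have ha : g * D.a = D.a * g := D.hNA g hz
  obtain ⟨j, rfl⟩ := Subgroup.mem_zpowers_iff.1 hw
  rw [← conj_zpow, ha, mul_inv_cancel_right]

/-! ### The section of `t` -/

/-- The restriction to the section. -/
def sec (χ : G → ℂ) : D.O → ℂ := fun u => χ (D.t * u)

theorem sec_class {χ : G → ℂ} (hχ : IsClassFunction G χ) : IsClassFunction D.O (D.sec χ) := fun u o => by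
  show χ (D.t * ((o : G) * u * (o : G)⁻¹)) = χ (D.t * u)
  rw [← hχ (D.t * u) o]
  congr 1
  calc D.t * ((o : G) * u * (o : G)⁻¹) = (D.t * o) * u * (o : G)⁻¹ := by group
    _ = ((o : G) * D.t) * u * (o : G)⁻¹ := by rw [D.hOt _ o.2]
    _ = _ := by group

theorem sec_sigma {χ : G → ℂ} (hχ : IsClassFunction G χ) (u : D.O) : D.sec χ (D.sigma u) = D.sec χ u := by
  show χ (D.t * (D.v * u * D.v)) = χ (D.t * u)
  rw [show D.t * (D.v * (u : G) * D.v) = (D.t * D.v) * u * D.v by group, ← D.hcomm,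
    show D.v * D.t * (u : G) * D.v = D.v * (D.t * u) * D.v by group]
  nth_rewrite 2 [← D.v_inv]
  rw [hχ]

/-- The conjugate character. -/
noncomputable def sConj (φ : IrrCharacter D.O) : IrrCharacter D.O :=
  ⟨fun u => (φ : D.O → ℂ) (D.sigma u),
    isIrrCharacter_comp_surjective φ.2 D.sigma fun u => ⟨D.sigma u, D.sigma_sigma u⟩⟩

theorem sConj_sConj (φ : IrrCharacter D.O) : D.sConj (D.sConj φ) = φ :=
  Subtype.ext (funext fun u => congrArg (φ : D.O → ℂ) (D.sigma_sigma u))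

theorem sConj_one_val (φ : IrrCharacter D.O) : (D.sConj φ : D.O → ℂ) 1 = (φ : D.O → ℂ) 1 :=
  congrArg (φ : D.O → ℂ) (map_one D.sigma)

theorem c_int {χ : G → ℂ} (hχ : IsCharacter G χ) (φ : IrrCharacter D.O) :
    ∃ n : ℤ, classInner (D.sec χ) (φ : D.O → ℂ) = n := by
  classical
  have hφ := isCharacter_of_irr φ.2
  obtain ⟨n1, hn1⟩ := classInner_char_nat (isCharacter_restrict hχ D.O) hφ
  let Z := Subgroup.zpowers D.t
  letI : Fintype Z := Fintype.ofFinite _
  let ψ : Z × D.O →* G := MonoidHom.noncommCoprod Z.subtype D.O.subtype fun a h => by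
    obtain ⟨m, hm⟩ := Subgroup.mem_zpowers_iff.mp a.2
    show Commute (a : G) (h : G)
    rw [← hm]
    exact (show Commute D.t (h : G) from (D.hOt _ h.2).symm).zpow_left m
  obtain ⟨n2, hn2⟩ := classInner_char_nat (isCharacter_comp hχ ψ) (isCharacter_comp hφ (MonoidHom.snd Z D.O))
  refine ⟨2 * n2 - n1, ?_⟩
  have hord : orderOf D.t = 2 := orderOf_eq_prime (by rw [sq]; exact D.ht2) D.ht1
  have hne : (1 : Z) ≠ ⟨D.t, Subgroup.mem_zpowers _⟩ := fun e => D.ht1 (congrArg Subtype.val e).symm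
  have hZ : (Finset.univ : Finset Z) = {1, ⟨D.t, Subgroup.mem_zpowers _⟩} := by
    refine (Finset.eq_univ_of_card _ ?_).symm
    rw [Finset.card_pair hne, ← Nat.card_eq_fintype_card, Nat.card_zpowers, hord]
  have hsum : ∑ p : Z × D.O, χ (ψ p) * conj ((φ : D.O → ℂ) p.2) =
      ∑ h : D.O, χ h * conj ((φ : D.O → ℂ) h) + ∑ h : D.O, χ (D.t * h) * conj ((φ : D.O → ℂ) h) := by
    rw [Fintype.sum_prod_type, hZ, Finset.sum_pair hne]
    congr 1
    refine Finset.sum_congr rfl fun h _ => ?_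
    show χ ((1 : G) * h) * _ = _
    rw [one_mul]
  simp only [classInner, MonoidHom.coe_snd] at hn1 hn2
  rw [hsum, Nat.card_prod, Nat.card_zpowers, hord] at hn2
  simp only [classInner, sec]
  push_cast
  rw [← hn1, ← hn2]
  push_cast
  have := D.cardO_ne
  field_simp
  ring

/-- The coefficient of `χ(t ·)` against `φ`. -/
noncomputable def c (χ : IrrCharacter G) (φ : IrrCharacter D.O) : ℤ :=
  (D.c_int (isCharacter_of_irr χ.2) φ).choose

theorem c_spec (χ : IrrCharacter G) (φ : IrrCharacter D.O) :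
    classInner (D.sec (χ : G → ℂ)) (φ : D.O → ℂ) = (D.c χ φ : ℂ) :=
  (D.c_int (isCharacter_of_irr χ.2) φ).choose_spec

theorem c_sConj (χ : IrrCharacter G) (φ : IrrCharacter D.O) : D.c χ (D.sConj φ) = D.c χ φ := by
  have h : classInner (D.sec (χ : G → ℂ)) (D.sConj φ : D.O → ℂ) = classInner (D.sec (χ : G → ℂ)) (φ : D.O → ℂ) := by
    simp only [classInner]
    congr 1
    let e : D.O ≃ D.O := ⟨D.sigma, D.sigma, D.sigma_sigma, D.sigma_sigma⟩
    refine Fintype.sum_equiv e _ _ fun u => ?_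
    show D.sec (χ : G → ℂ) u * conj ((φ : D.O → ℂ) (D.sigma u)) = _
    rw [← D.sec_sigma (isClassFunction_irr χ.2) u]
    rfl
  rw [D.c_spec, D.c_spec] at h
  exact_mod_cast h

theorem value (χ : IrrCharacter G) (u : D.O) :
    (χ : G → ℂ) (D.t * u) = ∑ φ : IrrCharacter D.O, (D.c χ φ : ℂ) * (φ : D.O → ℂ) u := by
  have h := congrFun (eq_sum_irr (D.sec_class (isClassFunction_irr χ.2))) u
  simp only [Finset.sum_apply, Pi.smul_apply, smul_eq_mul, D.c_spec] at h
  exact h

theorem value_t (χ : IrrCharacter G) :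
    (χ : G → ℂ) D.t = ∑ φ : IrrCharacter D.O, (D.c χ φ : ℂ) * (φ : D.O → ℂ) 1 := by
  have h := D.value χ 1
  rwa [Subgroup.coe_one, mul_one] at h

theorem sum_deg (φ : IrrCharacter D.O) : ∑ χ : IrrCharacter G, (D.c χ φ : ℂ) * (χ : G → ℂ) 1 = 0 := by
  classical
  simp only [← D.c_spec, classInner, sec, Finset.sum_mul, Finset.mul_sum]
  rw [Finset.sum_comm]
  refine Finset.sum_eq_zero fun u _ => ?_
  have hne : D.t * (u : G) ≠ 1 := fun e => by
    have := D.pow_tu u.2
    rw [e, one_pow] at this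
    exact D.ht1 this.symm
  have e : ∀ χ : IrrCharacter G,
      (Nat.card D.O : ℂ)⁻¹ * ((χ : G → ℂ) (D.t * u) * conj ((φ : D.O → ℂ) u)) * (χ : G → ℂ) 1 =
      (Nat.card D.O : ℂ)⁻¹ * conj ((φ : D.O → ℂ) u) * ((χ : G → ℂ) (D.t * u) * (χ : G → ℂ) 1) := fun χ => by ring
  rw [Finset.sum_congr rfl fun χ _ => e χ, ← Finset.mul_sum, sum_irr_apply_mul_degree, if_neg hne, mul_zero]

/-- The conjugates of `t u` in the section. -/
theorem sec_conv (ψ : IrrCharacter D.O) (u : D.O) :
    ∑ u' : D.O, (∑ χ : IrrCharacter G, (χ : G → ℂ) (D.t * u) * conj ((χ : G → ℂ) (D.t * u'))) *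
      (ψ : D.O → ℂ) u' = (Nat.card D.O : ℂ) * (2 * (ψ : D.O → ℂ) u + 2 * (D.sConj ψ : D.O → ℂ) u) := by
  classical
  simp only [sum_irr_mul_conj, ← MinNonCA.Four.card_conj_eq, ← Finset.sum_boole, Finset.sum_mul]
  rw [Finset.sum_comm, ← Finset.sum_subset (Finset.subset_univ ((Finset.univ : Finset ((Bool × Bool) × D.O)).image
    fun p => D.sv p.1.1 p.1.2 * (p.2 : G)))]
  · rw [Finset.sum_image fun p _ p' _ e => D.sv_injective e, Fintype.sum_prod_type]
    have step : ∀ (f g : Bool) (o : D.O), ∑ u' : D.O, (if D.sv f g * o * (D.t * u) * (D.sv f g * o)⁻¹ = D.t * u'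
          then (1 : ℂ) else 0) * (ψ : D.O → ℂ) u' = ((if g then D.sConj ψ else ψ : IrrCharacter D.O) : D.O → ℂ) u := by
      intro f g o
      have hst : D.sv f g * D.t = D.t * D.sv f g := by
        cases f <;> cases g <;> simp [sv, D.hcomm, mul_assoc]
      have hc : D.sv f g * o * (D.t * u) * (D.sv f g * o)⁻¹ =
          D.t * ((if g then D.sigma (o * u * o⁻¹) else o * u * o⁻¹ : D.O) : G) := by
        rw [← D.sv_conj f]
        calc D.sv f g * (o : G) * (D.t * u) * (D.sv f g * o)⁻¹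
            = D.sv f g * ((o : G) * D.t) * u * (o : G)⁻¹ * (D.sv f g)⁻¹ := by group
          _ = D.sv f g * (D.t * o) * u * (o : G)⁻¹ * (D.sv f g)⁻¹ := by rw [D.hOt _ o.2]
          _ = (D.sv f g * D.t) * ((o : G) * u * (o : G)⁻¹) * (D.sv f g)⁻¹ := by group
          _ = _ := by rw [hst]; push_cast; group
      rw [hc, Finset.sum_eq_single (if g then D.sigma (o * u * o⁻¹) else o * u * o⁻¹)]
      · rw [if_pos rfl, one_mul]
        cases g
        · simp [isClassFunction_irr ψ.2 u o]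
        · simp only [if_true]
          exact isClassFunction_irr (D.sConj ψ).2 u o
      · intro u' _ hne
        rw [if_neg fun e => hne (Subtype.ext (mul_left_cancel e).symm), zero_mul]
      · simp
    simp only [Fintype.sum_prod_type, Fintype.sum_bool, step, if_true, Bool.false_eq_true, if_false]
    simp only [Finset.sum_const, Finset.card_univ, nsmul_eq_mul, ← Nat.card_eq_fintype_card]
    ring
  · intro c _ hc
    refine Finset.sum_eq_zero fun u' _ => ?_
    rw [if_neg, zero_mul]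
    intro e
    apply hc
    obtain ⟨f, g, o, rfl⟩ := D.exists_sv (D.conj_section u.2 u'.2 e)
    exact Finset.mem_image.mpr ⟨((f, g), o), Finset.mem_univ _, rfl⟩

/-- Orthogonality of the coefficient vectors. -/
theorem orth [DecidableEq (IrrCharacter D.O)] (φ ψ : IrrCharacter D.O) :
    ∑ χ : IrrCharacter G, D.c χ φ * D.c χ ψ =
      2 * (if ψ = φ then 1 else 0) + 2 * (if D.sConj ψ = φ then 1 else 0) := by
  classical
  have hcast : ((∑ χ : IrrCharacter G, D.c χ φ * D.c χ ψ : ℤ) : ℂ) =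
      2 * classInner (ψ : D.O → ℂ) (φ : D.O → ℂ) + 2 * classInner (D.sConj ψ : D.O → ℂ) (φ : D.O → ℂ) := by
    have hO := D.cardO_ne
    push_cast
    calc ∑ χ : IrrCharacter G, (D.c χ φ : ℂ) * (D.c χ ψ : ℂ)
        = ∑ χ : IrrCharacter G, classInner (D.sec (χ : G → ℂ)) (φ : D.O → ℂ) *
            conj (classInner (D.sec (χ : G → ℂ)) (ψ : D.O → ℂ)) := by
          refine Finset.sum_congr rfl fun χ _ => ?_
          rw [D.c_spec, D.c_spec, map_intCast]
      _ = (Nat.card D.O : ℂ)⁻¹ * (Nat.card D.O : ℂ)⁻¹ * ∑ u : D.O, conj ((φ : D.O → ℂ) u) *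
            ∑ u' : D.O, (∑ χ : IrrCharacter G, (χ : G → ℂ) (D.t * u) * conj ((χ : G → ℂ) (D.t * u'))) *
              (ψ : D.O → ℂ) u' := by
          simp only [classInner, sec, map_mul, map_inv₀, map_natCast, map_sum, Complex.conj_conj,
            Finset.mul_sum, Finset.sum_mul]
          rw [Finset.sum_comm]
          refine (Finset.sum_congr rfl fun u' _ => Finset.sum_comm).trans ?_
          rw [Finset.sum_comm]
          exact Finset.sum_congr rfl fun u _ => Finset.sum_congr rfl fun u' _ =>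
            Finset.sum_congr rfl fun χ _ => by ring
      _ = _ := by
          simp only [D.sec_conv]
          rw [classInner, classInner, Finset.mul_sum, Finset.mul_sum, Finset.mul_sum, Finset.mul_sum,
            Finset.mul_sum, ← Finset.sum_add_distrib]
          refine Finset.sum_congr rfl fun u _ => ?_
          field_simp
  rw [classInner_irr ψ.2 φ.2, classInner_irr (D.sConj ψ).2 φ.2] at hcast
  simp only [← Subtype.ext_iff] at hcast
  split_ifs at hcast ⊢ <;> exact_mod_cast hcast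

end FourB

/-- Pairs of conjugates of an involution with a given product. -/
theorem class_pairs {G : Type u} [Group G] [Fintype G] [DecidableEq G] {t : G} (ht : t * t = 1)
    [DecidablePred fun a : G => IsConj t a] (g : G) :
    (Nat.card G : ℂ) *
        (((Finset.univ.filter fun a => IsConj t a).filter fun a => IsConj t (a * g⁻¹)).card : ℂ) =
      (Nat.card {a : G // IsConj t a} : ℂ) * (Nat.card {a : G // IsConj t a} : ℂ) *
        ∑ χ : IrrCharacter G, (χ : G → ℂ) t ^ 2 * (χ : G → ℂ) g / (χ : G → ℂ) 1 := by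
  classical
  set cl := Finset.univ.filter (fun a : G => IsConj t a)
  have hsq : ∀ a ∈ cl, a * a = 1 := fun a ha => by
    obtain ⟨c, rfl⟩ := isConj_iff.mp (Finset.mem_filter.mp ha).2
    rw [show c * t * c⁻¹ * (c * t * c⁻¹) = c * (t * t) * c⁻¹ by group, ht]; group
  have h1 : ∑ χ : IrrCharacter G, (χ : G → ℂ) 1 * ∑ a ∈ cl, ∑ b ∈ cl, (χ : G → ℂ) (a * b * g) =
      (Nat.card G : ℂ) * ((cl.filter fun a => IsConj t (a * g⁻¹)).card : ℂ) := by
    simp only [Finset.mul_sum]
    rw [Finset.sum_comm]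
    refine (Finset.sum_congr rfl fun a _ => Finset.sum_comm).trans ?_
    simp only [mul_comm ((_ : G → ℂ) 1), sum_irr_apply_mul_degree]
    have e : ∀ a ∈ cl, (∑ b ∈ cl, if a * b * g = 1 then (Nat.card G : ℂ) else 0) =
        if IsConj t (a * g⁻¹) then (Nat.card G : ℂ) else 0 := by
      intro a ha
      have : ∀ b, a * b * g = 1 ↔ a * g⁻¹ = b := fun b => by
        constructor
        · intro e; rw [mul_eq_one_iff_eq_inv] at e; rw [← e, ← mul_assoc, hsq a ha, one_mul]
        · rintro rfl; rw [← mul_assoc, hsq a ha]; group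
      simp only [this, Finset.sum_ite_eq]
      exact if_congr (by simp only [cl, Finset.mem_filter, Finset.mem_univ, true_and]) rfl rfl
    rw [Finset.sum_congr rfl e, ← Finset.sum_filter, Finset.sum_const, nsmul_eq_mul, mul_comm]
  rw [← h1, Finset.mul_sum]
  refine Finset.sum_congr rfl fun χ _ => ?_
  rw [sum_class_class_char χ.2 t t g]
  have := irr_ne_zero χ.2
  field_simp

end CfsgLib.GW.IIb
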