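import Cfsg.Agent.Lib.GW.IIb.FourOrbit

/-!
The last case of (IIb) for a four-group Sylow 2-subgroup: the degrees.  A fixed character of `O` has degree at most
`r`, a non-trivial character of `G` has degree at least `p m`.
-/

set_option autoImplicit false
set_option linter.style.haveILetI false
set_option linter.unusedSectionVars false

namespace CfsgLib.GW.IIb

open Cfsg CfsgLib.CharTheory

universe u

namespace FourB

variable {G : Type u} [Group G] [Fintype G] (D : FourB G)

theorem deg_fixed_le {φ : IrrCharacter D.O} (hφ : D.sConj φ = φ) : deg φ ≤ D.r := by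
  obtain ⟨n, ρ, hρ, hc⟩ := φ.2
  haveI := hρ
  have hn : deg φ = n := by
    have h := deg_spec φ
    rw [← hc, ρ.char_one, Module.finrank_fin_fun] at h
    exact_mod_cast h.symm
  have hn0 : n ≠ 0 := hn ▸ (deg_pos φ).ne'
  set z' : D.O := ⟨D.z, D.hzO⟩ with hz'
  have hcen : z' ∈ Subgroup.center D.O := Subgroup.mem_center_iff.2 fun u => Subtype.ext (D.hzc u u.2)
  obtain ⟨ω, hω⟩ := exists_scalar_of_mem_center ρ hcen
  obtain ⟨ω', hω'⟩ := exists_scalar_of_mem_center ρ (inv_mem hcen)
  have hval : ∀ (u : D.O) (c : ℂ), ρ u = c • LinearMap.id → (φ : D.O → ℂ) u = c * n := fun u c h => by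
    rw [← hc]
    simp [Representation.character, h, ← Module.End.one_eq_id]
  have h1 : ω' = ω := by
    have h := congrArg (fun f : IrrCharacter D.O => (f : D.O → ℂ) z') hφ
    rw [show (D.sConj φ : D.O → ℂ) z' = (φ : D.O → ℂ) z'⁻¹ from
      congrArg (φ : D.O → ℂ) (Subtype.ext D.hzv), hval _ _ hω, hval _ _ hω'] at h
    exact mul_right_cancel₀ (Nat.cast_ne_zero.2 hn0) h
  haveI : Nonempty (Fin n) := ⟨⟨0, Nat.pos_of_ne_zero hn0⟩⟩
  obtain ⟨w, hw⟩ := exists_ne (0 : Fin n → ℂ)
  have hinj : ∀ c : ℂ, (c • LinearMap.id : Module.End ℂ (Fin n → ℂ)) = 1 → c = 1 := fun c h => by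
    have h' := LinearMap.congr_fun h w
    simp only [LinearMap.smul_apply, LinearMap.id_apply, Module.End.one_apply] at h'
    exact smul_left_injective ℂ hw (h'.trans (one_smul ℂ w).symm)
  have hsq : ω * ω = 1 := by
    refine hinj _ ?_
    rw [← map_one ρ, ← mul_inv_cancel z', map_mul, hω, hω', h1, ← Module.End.one_eq_id, smul_mul_smul_comm, mul_one]
  have hpow : ω ^ D.p = 1 := by
    refine hinj _ ?_
    have hzp' : z' ^ D.p = 1 := Subtype.ext (by rw [Subgroup.coe_pow]; exact D.hzp)
    rw [← map_one ρ, ← hzp', map_pow, hω, ← Module.End.one_eq_id, smul_pow, one_pow]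
  have hω1 : ω = 1 := by
    obtain ⟨k, hk⟩ := D.p_odd
    rwa [hk, pow_succ, pow_mul, sq, hsq, one_pow, one_mul] at hpow
  have hz1 : ρ z' = 1 := by rw [hω, hω1, one_smul, ← Module.End.one_eq_id]
  let σ : Representation ℂ (D.O ⧸ MonoidHom.ker ρ) (Fin n → ℂ) := QuotientGroup.lift _ ρ le_rfl
  haveI : σ.IsIrreducible := by
    let e : Subrepresentation σ ≃o Subrepresentation ρ :=
      { toFun := fun q => ⟨q.toSubmodule, fun u _ hv =>
          q.apply_mem_toSubmodule (u : D.O ⧸ MonoidHom.ker ρ) hv⟩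
        invFun := fun q => ⟨q.toSubmodule, fun g _ hv => by
          obtain ⟨u, rfl⟩ := QuotientGroup.mk_surjective g
          exact q.apply_mem_toSubmodule u hv⟩
        left_inv := fun _ => rfl
        right_inv := fun _ => rfl
        map_rel_iff' := Iff.rfl }
    exact (OrderIso.isSimpleOrder_iff e).mpr hρ
  have hle := degree_le_index_of_abelian σ (D.N.map (QuotientGroup.mk' (MonoidHom.ker ρ))) (by
    rintro _ ⟨b, hb, rfl⟩ _ ⟨b', hb', rfl⟩
    obtain ⟨k, hk⟩ := Subgroup.mem_zpowers_iff.1 (D.hNc b hb b' hb')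
    have hk' : z' ^ k = b * b' * b⁻¹ * b'⁻¹ := Subtype.ext (by rw [SubgroupClass.coe_zpow]; exact hk)
    have hmem : b * b' * b⁻¹ * b'⁻¹ ∈ MonoidHom.ker ρ := hk' ▸ zpow_mem (show z' ∈ MonoidHom.ker ρ from hz1) k
    have := (QuotientGroup.eq_one_iff _).2 hmem
    simp only [QuotientGroup.mk_mul, QuotientGroup.mk_inv] at this
    rw [mul_inv_eq_one, mul_inv_eq_iff_eq_mul] at this
    exact this)
  rw [Module.finrank_fin_fun] at hle
  rw [hn]
  exact hle.trans ((Nat.le_of_dvd (Nat.pos_of_ne_zero Subgroup.index_ne_zero_of_finite)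
    (Subgroup.index_map_dvd _ (QuotientGroup.mk'_surjective _))).trans D.hr)

theorem deg_ge [IsSimpleGroup G] {χ : IrrCharacter G} (hχ : (χ : G → ℂ) ≠ fun _ => 1) : D.p * D.m ≤ deg χ := by
  classical
  obtain ⟨n, ρ, hρ, hc⟩ := χ.2
  haveI := hρ
  have hn : deg χ = n := by
    have h := deg_spec χ
    rw [← hc, ρ.char_one, Module.finrank_fin_fun] at h
    exact_mod_cast h.symm
  -- faithful
  have hker : MonoidHom.ker ρ = ⊥ := by
    refine ((MonoidHom.normal_ker ρ).eq_bot_or_eq_top).resolve_right fun htop => hχ ?_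
    have hone : ∀ g, ρ g = 1 := fun g => (htop ▸ Subgroup.mem_top g : g ∈ MonoidHom.ker ρ)
    funext g
    have hd1 : deg χ = 1 := by
      have hirr := classInner_irr_self χ.2
      simp only [classInner, ← hc, Representation.character, hone, map_one] at hirr
      simp at hirr
      rw [hn]
      have : (n : ℂ) * n = 1 := hirr
      have h' : n * n = 1 := by exact_mod_cast this
      exact Nat.eq_one_of_mul_eq_one_right h'
    rw [← hc]
    simp [Representation.character, hone, ← hn, hd1]
  have hinj : ∀ g, ρ g = 1 → g = 1 := fun g h => Subgroup.mem_bot.1 (hker ▸ (h : g ∈ MonoidHom.ker ρ))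
  have hzp : (ρ D.z) ^ D.p = 1 := by rw [← map_pow, D.hzp, map_one]
  have hpC : (D.p : ℂ) ≠ 0 := Nat.cast_ne_zero.2 D.hp.ne_zero
  -- an eigenvalue of `z` other than one
  obtain ⟨η, hη1, hη⟩ : ∃ η : ℂ, η ≠ 1 ∧ Module.End.HasEigenvalue (ρ D.z) η := by
    by_contra hc'
    push Not at hc'
    have hss : Module.End.IsSemisimple (ρ D.z) := by
      apply Module.End.isSemisimple_of_squarefree_aeval_eq_zero (p := Polynomial.X ^ D.p - Polynomial.C 1)
      · exact (Polynomial.separable_X_pow_sub_C (1 : ℂ) hpC one_ne_zero).squarefree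
      · simp [hzp]
    have htop : Module.End.eigenspace (ρ D.z) 1 = ⊤ := by
      rw [eq_top_iff, ← hss.iSup_eigenspace_eq_top]
      refine iSup_le fun μ => ?_
      by_cases hμ : μ = 1
      · rw [hμ]
      · rw [not_not.1 (Module.End.hasEigenvalue_iff.not.1 (hc' μ hμ))]; exact bot_le
    refine D.hz1 (hinj _ (LinearMap.ext fun w => ?_))
    have := Module.End.mem_eigenspace_iff.1 (htop ▸ Submodule.mem_top : w ∈ Module.End.eigenspace (ρ D.z) 1)
    simpa using this
  have hza : D.z * D.a = D.a * D.z := D.hLa _ D.hzL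
  set E := Module.End.eigenspace (ρ D.z) η with hE
  have hEa : ∀ w ∈ E, ρ D.a w ∈ E := fun w hw => by
    rw [hE, Module.End.mem_eigenspace_iff] at hw ⊢
    rw [← Module.End.mul_apply, ← map_mul, hza, map_mul, Module.End.mul_apply, hw, map_smul]
  haveI : Nontrivial E := Submodule.nontrivial_iff_ne_bot.2 (Module.End.hasEigenvalue_iff.1 hη)
  obtain ⟨lam, hlam⟩ := Module.End.exists_eigenvalue ((ρ D.a).restrict hEa)
  obtain ⟨⟨w, hwE⟩, hwl, hw0⟩ := hlam.exists_hasEigenvector
  have hw0' : w ≠ 0 := fun e => hw0 (Subtype.ext e)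
  have haw : ρ D.a w = lam • w := by
    have := congrArg Subtype.val (Module.End.mem_eigenspace_iff.1 hwl)
    simpa using this
  have hzw : ρ D.z w = η • w := Module.End.mem_eigenspace_iff.1 hwE
  -- shifts by `x`
  set vj : ℕ → (Fin n → ℂ) := fun j => (ρ D.x ^ j) w with hvj
  have hvs : ∀ j, vj (j + 1) = ρ D.x (vj j) := fun j => by
    simp only [hvj, pow_succ', Module.End.mul_apply]
  have hshift : ∀ j, ρ D.z (vj j) = η • vj j ∧ ρ D.a (vj j) = (lam * η ^ j) • vj j ∧ vj j ≠ 0 := by
    intro j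
    induction j with
    | zero => simp [hvj, hzw, haw, hw0']
    | succ j ih =>
      obtain ⟨i1, i2, i3⟩ := ih
      rw [hvs]
      refine ⟨?_, ?_, fun e => i3 ?_⟩
      · rw [← Module.End.mul_apply, ← map_mul, ← D.hxz, map_mul, Module.End.mul_apply, i1, map_smul]
      · have hax : D.a * D.x = D.x * (D.a * D.z) := by rw [← D.hax]; group
        rw [← Module.End.mul_apply, ← map_mul, hax, map_mul, map_mul, Module.End.mul_apply, Module.End.mul_apply,
          i1, map_smul, i2, map_smul, map_smul, smul_smul, pow_succ]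
        ring_nf
      · have h := congrArg (ρ D.x⁻¹) e
        rwa [← Module.End.mul_apply, ← map_mul, inv_mul_cancel, map_one, Module.End.one_apply, map_zero] at h
  have hηp : η ^ D.p = 1 := by
    have hpw : ∀ k, (ρ D.z ^ k) w = η ^ k • w := fun k => by
      induction k with
      | zero => simp
      | succ k ih => rw [pow_succ', Module.End.mul_apply, ih, map_smul, hzw, smul_smul, pow_succ]
    have h := hpw D.p
    rw [hzp, Module.End.one_apply] at h
    exact smul_left_injective ℂ hw0' (h.symm.trans (one_smul ℂ w).symm)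
  have hprim : IsPrimitiveRoot η D.p :=
    (orderOf_eq_prime (hp := ⟨D.hp⟩) hηp hη1) ▸ IsPrimitiveRoot.orderOf η
  have hlam0 : lam ≠ 0 := fun e => hw0' (by
    rw [e, zero_smul] at haw
    have h := congrArg (ρ D.a⁻¹) haw
    rwa [← Module.End.mul_apply, ← map_mul, inv_mul_cancel, map_one, Module.End.one_apply, map_zero] at h)
  -- the eigenspaces of `a` as representations of `L`
  set μ : Fin D.p → ℂ := fun j => lam * η ^ (j : ℕ) with hμ
  have hμinj : Function.Injective μ := fun i j h =>
    Fin.ext (hprim.pow_inj i.2 j.2 (mul_left_cancel₀ hlam0 h))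
  have hinv : ∀ (j : Fin D.p) (l : D.L), ∀ u ∈ Module.End.eigenspace (ρ D.a) (μ j),
      ρ (l : G) u ∈ Module.End.eigenspace (ρ D.a) (μ j) := fun j l u hu => by
    rw [Module.End.mem_eigenspace_iff] at hu ⊢
    rw [← Module.End.mul_apply, ← map_mul, ← D.hLa _ l.2, map_mul, Module.End.mul_apply, hu, map_smul]
  have hdim : ∀ j : Fin D.p, D.m ≤ Module.finrank ℂ (Module.End.eigenspace (ρ D.a) (μ j)) := by
    intro j
    set U := Module.End.eigenspace (ρ D.a) (μ j)
    let τ : Representation ℂ D.L U :=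
      { toFun := fun l => (ρ (l : G)).restrict (hinv j l)
        map_one' := by ext u : 1; exact Subtype.ext (by simp)
        map_mul' := fun l l' => by ext u : 1; exact Subtype.ext (by simp [map_mul]) }
    let e := (Module.finBasis ℂ U).equivFun
    refine D.hmin _ (conjRep τ e) ⟨⟨D.z, D.hzL⟩, fun h => ?_⟩
    obtain ⟨i1, i2, i3⟩ := hshift j
    have hu : vj j ∈ U := Module.End.mem_eigenspace_iff.2 i2
    have h' := LinearMap.congr_fun h (e ⟨vj j, hu⟩)
    simp only [conjRep, MonoidHom.coe_mk, OneHom.coe_mk, LinearEquiv.conj_apply, LinearMap.comp_apply,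
      LinearEquiv.coe_coe, LinearEquiv.symm_apply_apply, Module.End.one_apply] at h'
    have h'' := congrArg Subtype.val (e.injective h')
    simp only [τ, MonoidHom.coe_mk, OneHom.coe_mk, LinearMap.restrict_coe_apply] at h''
    rw [i1] at h''
    exact hη1 (smul_left_injective ℂ i3 (h''.trans (one_smul ℂ (vj j)).symm))
  have hind : iSupIndep fun j : Fin D.p => Module.End.eigenspace (ρ D.a) (μ j) :=
    (Module.End.eigenspaces_iSupIndep (ρ D.a)).comp hμinj
  have hsum : ∑ j : Fin D.p, Module.finrank ℂ (Module.End.eigenspace (ρ D.a) (μ j)) ≤ n := by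
    classical
    let f := DirectSum.coeLinearMap fun j : Fin D.p => Module.End.eigenspace (ρ D.a) (μ j)
    have hf : Function.Injective f := hind.dfinsupp_lsum_injective
    have := LinearMap.finrank_le_finrank_of_injective hf
    rwa [Module.finrank_directSum, Module.finrank_fin_fun] at this
  calc D.p * D.m = ∑ _j : Fin D.p, D.m := by simp
    _ ≤ _ := Finset.sum_le_sum fun j _ => hdim j
    _ ≤ n := hsum
    _ = deg χ := hn.symm

end FourB

end CfsgLib.GW.IIb
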