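import Cfsg.Agent.Lib.GW.IIb.FourDegree

/-!
The last case of (IIb) for a four-group Sylow 2-subgroup: the generalised character induced from `(1 - λ) × (π - 1 - e)`
on `A × L`.
-/

set_option autoImplicit false
set_option linter.style.haveILetI false
set_option linter.unusedSectionVars false

namespace CfsgLib.GW.IIb

open Cfsg CfsgLib.CharTheory
open scoped ComplexConjugate

universe u

namespace FourB

variable {G : Type u} [Group G] [Fintype G] (D : FourB G)

/-- The map `A × L → C(a)`. -/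
def psi : D.A × D.L →* G := MonoidHom.noncommCoprod D.A.subtype D.L.subtype fun w l => by
  obtain ⟨j, hj⟩ := Subgroup.mem_zpowers_iff.1 w.2
  show Commute (w : G) (l : G)
  rw [← hj]
  exact (show Commute D.a (l : G) from (D.hLa _ l.2).symm).zpow_left j

theorem psi_apply (x : D.A × D.L) : D.psi x = (x.1 : G) * (x.2 : G) := rfl

theorem psi_inj : Function.Injective D.psi := by
  rw [injective_iff_map_eq_one]
  rintro ⟨⟨w, hw⟩, ⟨l, hl⟩⟩ h
  rw [psi_apply] at h
  have hlw : l = w⁻¹ := eq_inv_of_mul_eq_one_right h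
  have h1 := D.hLA l hl (hlw ▸ inv_mem hw)
  subst h1
  simp only [mul_one] at h
  subst h
  rfl

theorem cardH_ne : (Nat.card (D.A × D.L) : ℂ) ≠ 0 := Nat.cast_ne_zero.mpr Nat.card_pos.ne'

/-- The generator of `A`. -/
abbrev genA : D.A := ⟨D.a, Subgroup.mem_zpowers _⟩

theorem genA_top (w : D.A) : w ∈ Subgroup.zpowers D.genA := by
  obtain ⟨j, hj⟩ := Subgroup.mem_zpowers_iff.1 w.2
  exact Subgroup.mem_zpowers_iff.2 ⟨j, Subtype.ext (by rw [SubgroupClass.coe_zpow]; exact hj)⟩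

theorem exists_lam : ∃ f : D.A →* ℂˣ, f ≠ 1 := by
  haveI : NeZero D.p := ⟨D.hp.ne_zero⟩
  have hz := Complex.isPrimitiveRoot_exp D.p D.hp.ne_zero
  set ζ : ℂˣ := (hz.toRootsOfUnity : ℂˣ) with hζ
  have hord : orderOf D.genA = D.p := by rw [← D.hao, ← Subgroup.orderOf_coe]
  have hd : orderOf ζ ∣ orderOf D.genA := by
    rw [hord]
    exact orderOf_dvd_of_pow_eq_one (Units.ext (by rw [Units.val_pow_eq_pow_val, hζ]; exact hz.pow_eq_one))
  refine ⟨monoidHomOfForallMemZpowers D.genA_top hd, fun h => hz.ne_one D.hp.one_lt ?_⟩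
  have h' := DFunLike.congr_fun h D.genA
  rw [monoidHomOfForallMemZpowers_apply_gen, MonoidHom.one_apply] at h'
  exact congrArg Units.val h'

/-- A non-trivial linear character of `A`. -/
noncomputable def lam : D.A →* ℂˣ := D.exists_lam.choose

theorem lam_ne : D.lam ≠ 1 := D.exists_lam.choose_spec

/-- The function on `A × L`. -/
noncomputable def ff (x : D.A × D.L) : ℂ := (1 - (D.lam x.1 : ℂ)) * (D.π x.2 - (1 + (D.e : ℂ)))

theorem sum_lam : ∑ w : D.A, (D.lam w : ℂ) = 0 :=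
  sum_hom_units_eq_zero ((Units.coeHom ℂ).comp D.lam) fun h => D.lam_ne (MonoidHom.ext fun w =>
    Units.ext (DFunLike.congr_fun h w))

theorem ff_supp {x : D.A × D.L} (h : D.ff x ≠ 0) :
    x.1 ≠ 1 ∧ ¬ 2 ∣ orderOf x.2 ∧ ¬ D.p ∣ orderOf x.2 := by
  obtain ⟨h1, h2⟩ := ne_zero_and_ne_zero_of_mul h
  refine ⟨fun e => h1 (by simp [e]), fun e => h2 ?_, fun e => h2 ?_⟩
  · rw [D.hπfix _ (Or.inl e), sub_self]
  · rw [D.hπfix _ (Or.inr e), sub_self]

/-- Fusion between elements `w l`, `w' l'` of the support. -/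
theorem supp_conj {w w' : D.A} {l l' : D.L} (hw : w ≠ 1) (hl : ¬ D.p ∣ orderOf l) (hl' : ¬ D.p ∣ orderOf l')
    {h : G} (e : h * D.psi (w, l) * h⁻¹ = D.psi (w', l')) :
    w' = w ∧ ∃ k : D.A × D.L, h = D.psi k ∧ k * (w, l) * k⁻¹ = (w', l') := by
  have hcop : Nat.Coprime D.p (orderOf l * orderOf l') := Nat.Coprime.mul_right
    (D.hp.coprime_iff_not_dvd.2 hl) (D.hp.coprime_iff_not_dvd.2 hl')
  obtain ⟨k, hk1, hk0⟩ := Nat.chineseRemainder hcop 1 0
  have hkl : (orderOf l * orderOf l') ∣ k := Nat.modEq_zero_iff_dvd.1 hk0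
  have hwp : ∀ u : D.A, u ^ k = u := fun u => by
    have hu : u ^ D.p = 1 := by rw [← D.card_A]; exact pow_card_eq_one'
    have hm := pow_eq_pow_mod (M := D.A) k hu
    rw [show k % D.p = 1 % D.p from hk1, Nat.one_mod_eq_one.2 D.hp.ne_one, pow_one] at hm
    exact hm
  have hpl : ∀ (u : D.A) (m : D.L), orderOf m ∣ k → D.psi (u, m) ^ k = (u : G) := fun u m hm => by
    rw [← map_pow, Prod.pow_mk, hwp, orderOf_dvd_iff_pow_eq_one.1 hm, psi_apply]
    simp
  have e' : h * (w : G) * h⁻¹ = (w' : G) := by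
    rw [← hpl w l (dvd_trans (dvd_mul_right _ _) hkl), ← hpl w' l' (dvd_trans (dvd_mul_left _ _) hkl),
      ← conj_pow, e]
  have hww : w' = w := Subtype.ext (by rw [← e', D.conj_A w.2 (e' ▸ w'.2)])
  subst hww
  have hhw : h * (w' : G) = (w' : G) * h := mul_inv_eq_iff_eq_mul.1 e'
  haveI : Fact (Nat.card D.A).Prime := ⟨D.card_A.symm ▸ D.hp⟩
  have htop : Subgroup.zpowers w' = ⊤ :=
    ((Subgroup.zpowers w').eq_bot_or_eq_top_of_prime_card).resolve_left
      (fun e => hw (Subgroup.zpowers_eq_bot.1 e))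
  obtain ⟨j, hj⟩ := Subgroup.mem_zpowers_iff.1 (htop ▸ Subgroup.mem_top D.genA)
  have hha : h * D.a = D.a * h := by
    have hj' : (w' : G) ^ j = D.a := by rw [← SubgroupClass.coe_zpow, hj]
    rw [← hj']
    exact (show Commute h (w' : G) from hhw).zpow_right j
  obtain ⟨u, hu, m, hm, hh⟩ := D.hCa h hha
  refine ⟨rfl, (⟨u, hu⟩, ⟨m, hm⟩), hh, D.psi_inj ?_⟩
  rw [map_mul, map_mul, map_inv, show D.psi (⟨u, hu⟩, ⟨m, hm⟩) = h from hh.symm, e]

/-- No element of the support is inverted by an element. -/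
theorem supp_real {x : D.A × D.L} (hx : D.ff x ≠ 0) (h : G) : h * D.psi x * h⁻¹ ≠ (D.psi x)⁻¹ := by
  obtain ⟨h1, -, h3⟩ := D.ff_supp hx
  intro e
  rw [← map_inv] at e
  obtain ⟨hw, -⟩ := D.supp_conj (w := x.1) (w' := x.1⁻¹) (l := x.2) (l' := x.2⁻¹) h1 h3
    (by rwa [orderOf_inv]) e
  have hsq : (x.1 : G) * x.1 = 1 := by
    have := congrArg Subtype.val hw
    rw [Subgroup.coe_inv] at this
    rw [← eq_inv_iff_mul_eq_one]; exact this.symm
  exact h1 (Subtype.ext (D.eq_one_of_sq (D.A_le x.1.2) hsq))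

theorem supp_sec {x : D.A × D.L} (hx : D.ff x ≠ 0) (u : D.O) : ¬ IsConj (D.psi x) (D.t * u) := by
  obtain ⟨-, h2, -⟩ := D.ff_supp hx
  intro hc
  obtain ⟨c, hc⟩ := isConj_iff.1 hc
  set k := D.p * orderOf x.2 * Nat.card D.O with hk
  have hx1 : D.psi x ^ k = 1 := by
    have hu : x.1 ^ D.p = 1 := by rw [← D.card_A]; exact pow_card_eq_one'
    rw [← map_pow, hk, pow_mul]
    have : x ^ (D.p * orderOf x.2) = 1 := by
      refine Prod.ext ?_ ?_
      · rw [Prod.pow_fst, pow_mul, hu, one_pow]; rfl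
      · rw [Prod.pow_snd, mul_comm, pow_mul, pow_orderOf_eq_one, one_pow]; rfl
    rw [this, one_pow, map_one]
  have h := congrArg (fun g => g ^ k) hc
  simp only [conj_pow, hx1, mul_one, mul_inv_cancel] at h
  rw [hk, mul_comm _ (Nat.card D.O), pow_mul, D.pow_tu u.2] at h
  have hodd : Odd (D.p * orderOf x.2) := D.p_odd.mul (Nat.odd_iff.2 (by omega))
  obtain ⟨j, hj⟩ := hodd
  rw [hj, pow_succ, pow_mul, sq, D.ht2, one_pow, one_mul] at h
  exact D.ht1 h.symm

theorem isCharacter_lam : IsCharacter (D.A × D.L) fun x => (D.lam x.1 : ℂ) :=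
  isCharacter_of_irr (isIrrCharacter_linear (D.lam.comp (MonoidHom.fst D.A D.L)))

theorem b_int (χ : IrrCharacter G) :
    ∃ n : ℤ, classInner (fun x => (χ : G → ℂ) (D.psi x)) D.ff = n := by
  have hχ := isCharacter_comp (isCharacter_of_irr χ.2) D.psi
  have hp' := isCharacter_comp D.hπ (MonoidHom.snd D.A D.L)
  obtain ⟨n0, h0⟩ := classInner_char_nat hχ hp'
  obtain ⟨n1, h1⟩ := classInner_char_nat hχ (isCharacter_one (G := D.A × D.L))
  obtain ⟨n2, h2⟩ := classInner_char_nat hχ (isCharacter_mul D.isCharacter_lam hp')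
  obtain ⟨n3, h3⟩ := classInner_char_nat hχ D.isCharacter_lam
  refine ⟨(n0 : ℤ) - (1 + D.e) * n1 - n2 + (1 + D.e) * n3, ?_⟩
  push_cast
  rw [← h0, ← h1, ← h2, ← h3]
  simp only [classInner, ff, MonoidHom.coe_snd, Pi.mul_apply, Finset.mul_sum, ← Finset.sum_sub_distrib,
    ← Finset.sum_add_distrib]
  refine Finset.sum_congr rfl fun x _ => ?_
  simp only [map_sub, map_mul, map_add, map_one, map_intCast]
  ring

/-- The coefficient of `χ` in the induced function. -/
noncomputable def b (χ : IrrCharacter G) : ℤ := (D.b_int χ).choose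

theorem b_spec (χ : IrrCharacter G) : classInner (fun x => (χ : G → ℂ) (D.psi x)) D.ff = (D.b χ : ℂ) :=
  (D.b_int χ).choose_spec

theorem transfer (K : IrrCharacter G → ℂ) :
    ∑ χ : IrrCharacter G, (D.b χ : ℂ) * K χ = (Nat.card (D.A × D.L) : ℂ)⁻¹ *
      ∑ x : D.A × D.L, conj (D.ff x) * ∑ χ : IrrCharacter G, (χ : G → ℂ) (D.psi x) * K χ := by
  simp only [← D.b_spec, classInner, Finset.mul_sum, Finset.sum_mul]
  rw [Finset.sum_comm]
  exact Finset.sum_congr rfl fun x _ => Finset.sum_congr rfl fun χ _ => by ring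

theorem transfer_zero (K : IrrCharacter G → ℂ)
    (h : ∀ x : D.A × D.L, D.ff x ≠ 0 → ∑ χ : IrrCharacter G, (χ : G → ℂ) (D.psi x) * K χ = 0) :
    ∑ χ : IrrCharacter G, (D.b χ : ℂ) * K χ = 0 := by
  rw [D.transfer, Finset.sum_eq_zero, mul_zero]
  intro x _
  by_cases hx : D.ff x = 0
  · rw [hx, map_zero, zero_mul]
  · rw [h x hx, mul_zero]

theorem sum_b_deg : ∑ χ : IrrCharacter G, D.b χ * (deg χ : ℤ) = 0 := by
  classical
  suffices ((∑ χ : IrrCharacter G, D.b χ * (deg χ : ℤ) : ℤ) : ℂ) = 0 by exact_mod_cast this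
  push_cast
  refine D.transfer_zero _ fun x hx => ?_
  simp only [← deg_spec, sum_irr_apply_mul_degree]
  rw [if_neg]
  intro e
  exact (D.ff_supp hx).1 (congrArg Prod.fst (D.psi_inj (e.trans (map_one D.psi).symm)))

theorem sum_b_c (φ : IrrCharacter D.O) : ∑ χ : IrrCharacter G, D.b χ * D.c χ φ = 0 := by
  classical
  suffices ((∑ χ : IrrCharacter G, D.b χ * D.c χ φ : ℤ) : ℂ) = 0 by exact_mod_cast this
  push_cast
  refine D.transfer_zero _ fun x hx => ?_
  have e : ∀ χ : IrrCharacter G, (D.c χ φ : ℂ) =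
      (Nat.card D.O : ℂ)⁻¹ * ∑ u : D.O, conj ((χ : G → ℂ) (D.t * u)) * (φ : D.O → ℂ) u := fun χ => by
    rw [← map_intCast (starRingEnd ℂ), ← D.c_spec, classInner, map_mul, map_inv₀, map_natCast, map_sum]
    simp only [sec, map_mul, Complex.conj_conj]
  simp only [e, Finset.mul_sum]
  rw [Finset.sum_comm]
  refine Finset.sum_eq_zero fun u _ => ?_
  rw [Finset.sum_congr rfl fun (χ : IrrCharacter G) _ => (by ring :
    (χ : G → ℂ) (D.psi x) * ((Nat.card D.O : ℂ)⁻¹ * (conj ((χ : G → ℂ) (D.t * u)) * (φ : D.O → ℂ) u)) =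
      (Nat.card D.O : ℂ)⁻¹ * (φ : D.O → ℂ) u * ((χ : G → ℂ) (D.psi x) * conj ((χ : G → ℂ) (D.t * u)))),
    ← Finset.mul_sum, sum_irr_mul_conj, if_neg (D.supp_sec hx u), mul_zero]

theorem sum_b_E : ∑ χ : IrrCharacter G, (D.b χ : ℂ) * ((χ : G → ℂ) D.t ^ 2 / (χ : G → ℂ) 1) = 0 := by
  classical
  refine D.transfer_zero _ fun x hx => ?_
  have h := class_pairs D.ht2 (D.psi x)
  have hempty : ((Finset.univ.filter fun a => IsConj D.t a).filter fun a => IsConj D.t (a * (D.psi x)⁻¹)) = ∅ := by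
    refine Finset.filter_eq_empty_iff.2 fun a ha hb => ?_
    rw [Finset.mem_filter, D.invol_iff] at ha
    rw [D.invol_iff] at hb
    have hia : a⁻¹ = a := inv_eq_of_mul_eq_one_right ha.2.1
    refine D.supp_real hx a ?_
    have h2 : a * (D.psi x)⁻¹ * a = D.psi x := by
      calc a * (D.psi x)⁻¹ * a = a * (D.psi x)⁻¹ * a * ((D.psi x)⁻¹ * D.psi x) := by rw [inv_mul_cancel, mul_one]
        _ = (a * (D.psi x)⁻¹ * (a * (D.psi x)⁻¹)) * D.psi x := by group
        _ = D.psi x := by rw [hb.1, one_mul]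
    rw [hia]
    calc a * D.psi x * a = a * (a * (D.psi x)⁻¹ * a) * a := by rw [h2]
      _ = (a * a) * (D.psi x)⁻¹ * (a * a) := by group
      _ = _ := by rw [ha.2.1, one_mul, mul_one]
  rw [hempty, Finset.card_empty, Nat.cast_zero, mul_zero] at h
  have hN : (Nat.card {a : G // IsConj D.t a} : ℂ) ≠ 0 := by
    have : Nonempty {a : G // IsConj D.t a} := ⟨⟨D.t, IsConj.refl _⟩⟩
    exact Nat.cast_ne_zero.mpr Nat.card_pos.ne'
  have h0 := (mul_eq_zero.1 h.symm).resolve_left (mul_ne_zero hN hN)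
  rw [← h0]
  exact Finset.sum_congr rfl fun χ _ => by ring

theorem sum_π : ∑ l : D.L, D.π l = (Nat.card D.L : ℂ) := by
  have h := D.hπ1
  simp only [classInner, map_one, mul_one] at h
  rw [inv_mul_eq_iff_eq_mul₀ (Nat.cast_ne_zero.mpr Nat.card_pos.ne'), mul_one] at h
  exact h

theorem b_one {χ : IrrCharacter G} (hχ : (χ : G → ℂ) = fun _ => 1) : D.b χ = -D.e := by
  suffices (D.b χ : ℂ) = ((-D.e : ℤ) : ℂ) by exact_mod_cast this
  rw [← D.b_spec, classInner]
  simp only [hχ, one_mul, ff, map_mul, map_sub, map_add, map_one, map_intCast]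
  have h1 : ∑ w : D.A, (1 - conj (D.lam w : ℂ)) = (Nat.card D.A : ℂ) := by
    rw [Finset.sum_sub_distrib, ← map_sum, D.sum_lam, map_zero, sub_zero, Finset.sum_const, Finset.card_univ,
      nsmul_eq_mul, mul_one, Nat.card_eq_fintype_card]
  have h2 : ∑ l : D.L, (conj (D.π l) - (1 + (D.e : ℂ))) = -(D.e : ℂ) * (Nat.card D.L : ℂ) := by
    rw [Finset.sum_sub_distrib, ← map_sum, D.sum_π, map_natCast, Finset.sum_const, Finset.card_univ,
      nsmul_eq_mul, ← Nat.card_eq_fintype_card]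
    ring
  rw [Fintype.sum_prod_type]
  simp only [← Finset.mul_sum, ← Finset.sum_mul]
  rw [h1, h2, Nat.card_prod]
  push_cast
  have := (Nat.cast_ne_zero (R := ℂ)).2 (Nat.card_pos (α := D.A)).ne'
  have := (Nat.cast_ne_zero (R := ℂ)).2 (Nat.card_pos (α := D.L)).ne'
  field_simp

theorem norm_ff : ∑ x : D.A × D.L, conj (D.ff x) * D.ff x = 4 * (Nat.card (D.A × D.L) : ℂ) := by
  have hA : ∑ w : D.A, (1 - conj (D.lam w : ℂ)) * (1 - (D.lam w : ℂ)) = 2 * (Nat.card D.A : ℂ) := by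
    have e : ∀ w : D.A, (1 - conj (D.lam w : ℂ)) * (1 - (D.lam w : ℂ)) =
        2 - conj (D.lam w : ℂ) - (D.lam w : ℂ) := fun w => by
      have hn : ‖(D.lam w : ℂ)‖ = 1 := by
        refine Complex.norm_eq_one_of_pow_eq_one (n := Nat.card D.A) ?_ Nat.card_pos.ne'
        rw [← Units.val_pow_eq_pow_val, ← map_pow, pow_card_eq_one', map_one, Units.val_one]
      have h1 : conj (D.lam w : ℂ) * (D.lam w : ℂ) = 1 := by
        rw [mul_comm, Complex.mul_conj', hn]; simp
      linear_combination h1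
    simp only [e]
    rw [Finset.sum_sub_distrib, Finset.sum_sub_distrib, ← map_sum, D.sum_lam, map_zero, Finset.sum_const,
      Finset.card_univ, nsmul_eq_mul, ← Nat.card_eq_fintype_card]
    ring
  have hL : ∑ l : D.L, (conj (D.π l) - (1 + (D.e : ℂ))) * (D.π l - (1 + (D.e : ℂ))) =
      2 * (Nat.card D.L : ℂ) := by
    have h2 := D.hπ2
    simp only [classInner] at h2
    rw [inv_mul_eq_iff_eq_mul₀ (Nat.cast_ne_zero.mpr Nat.card_pos.ne')] at h2
    have hee : (D.e : ℂ) * (D.e : ℂ) = 1 := by rcases D.he with e | e <;> simp [e]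
    rw [Finset.sum_congr rfl fun l _ => (by ring : (conj (D.π l) - (1 + (D.e : ℂ))) * (D.π l - (1 + (D.e : ℂ))) =
      D.π l * conj (D.π l) - (1 + (D.e : ℂ)) * D.π l - (1 + (D.e : ℂ)) * conj (D.π l) +
        (1 + (D.e : ℂ)) * (1 + (D.e : ℂ))), Finset.sum_add_distrib, Finset.sum_sub_distrib, Finset.sum_sub_distrib,
      ← Finset.mul_sum, ← Finset.mul_sum, ← map_sum, D.sum_π, map_natCast, Finset.sum_const, Finset.card_univ,
      nsmul_eq_mul, ← Nat.card_eq_fintype_card, h2]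
    linear_combination (Nat.card D.L : ℂ) * hee
  calc ∑ x : D.A × D.L, conj (D.ff x) * D.ff x
      = ∑ w : D.A, ∑ l : D.L, ((1 - conj (D.lam w : ℂ)) * (1 - (D.lam w : ℂ))) *
          ((conj (D.π l) - (1 + (D.e : ℂ))) * (D.π l - (1 + (D.e : ℂ)))) := by
        rw [Fintype.sum_prod_type]
        refine Finset.sum_congr rfl fun w _ => Finset.sum_congr rfl fun l _ => ?_
        simp only [ff, map_mul, map_sub, map_add, map_one, map_intCast]
        ring
    _ = _ := by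
        rw [← Finset.sum_mul_sum, hA, hL, Nat.card_prod]
        push_cast
        ring

theorem sum_b_sq : ∑ χ : IrrCharacter G, D.b χ * D.b χ = 4 := by
  classical
  suffices ((∑ χ : IrrCharacter G, D.b χ * D.b χ : ℤ) : ℂ) = 4 by exact_mod_cast this
  push_cast
  rw [D.transfer]
  have e : ∀ x : D.A × D.L, conj (D.ff x) * ∑ χ : IrrCharacter G, (χ : G → ℂ) (D.psi x) * (D.b χ : ℂ) =
      conj (D.ff x) * D.ff x := by
    intro x
    by_cases hx : D.ff x = 0
    · rw [hx, map_zero, zero_mul, zero_mul]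
    congr 1
    have e1 : ∀ χ : IrrCharacter G, (D.b χ : ℂ) = (Nat.card (D.A × D.L) : ℂ)⁻¹ *
        ∑ y : D.A × D.L, conj ((χ : G → ℂ) (D.psi y)) * D.ff y := fun χ => by
      rw [← map_intCast (starRingEnd ℂ), ← D.b_spec, classInner, map_mul, map_inv₀, map_natCast, map_sum]
      simp only [map_mul, Complex.conj_conj]
    simp only [e1, Finset.mul_sum]
    rw [Finset.sum_comm]
    have e2 : ∀ y : D.A × D.L, ∑ χ : IrrCharacter G, (χ : G → ℂ) (D.psi x) *
        ((Nat.card (D.A × D.L) : ℂ)⁻¹ * (conj ((χ : G → ℂ) (D.psi y)) * D.ff y)) =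
        (Nat.card (D.A × D.L) : ℂ)⁻¹ *
          ∑ k : D.A × D.L, (if k * x * k⁻¹ = y then D.ff y else 0) := by
      intro y
      rw [Finset.sum_congr rfl fun (χ : IrrCharacter G) _ => (by ring : (χ : G → ℂ) (D.psi x) *
        ((Nat.card (D.A × D.L) : ℂ)⁻¹ * (conj ((χ : G → ℂ) (D.psi y)) * D.ff y)) =
        (Nat.card (D.A × D.L) : ℂ)⁻¹ * D.ff y * ((χ : G → ℂ) (D.psi x) * conj ((χ : G → ℂ) (D.psi y)))),
        ← Finset.mul_sum, sum_irr_mul_conj, ← MinNonCA.Four.card_conj_eq, mul_assoc]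
      congr 1
      by_cases hy : D.ff y = 0
      · simp [hy]
      rw [← Finset.sum_filter, Finset.sum_const, nsmul_eq_mul, mul_comm]
      congr 2
      symm
      refine Finset.card_bij (fun k _ => D.psi k) (fun k hk => ?_) (fun k _ k' _ h => D.psi_inj h) (fun h hh => ?_)
      · refine Finset.mem_filter.2 ⟨Finset.mem_univ _, ?_⟩
        rw [← (Finset.mem_filter.1 hk).2, map_mul, map_mul, map_inv]
      · obtain ⟨-, k, hk, hk'⟩ := D.supp_conj (w := x.1) (w' := y.1) (l := x.2) (l' := y.2)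
          (D.ff_supp hx).1 (D.ff_supp hx).2.2 (D.ff_supp hy).2.2 (Finset.mem_filter.1 hh).2
        exact ⟨k, Finset.mem_filter.2 ⟨Finset.mem_univ _, hk'⟩, hk.symm⟩
    simp only [e2, ← Finset.mul_sum]
    rw [Finset.sum_comm]
    have e3 : ∀ k : D.A × D.L, ∑ y : D.A × D.L, (if k * x * k⁻¹ = y then D.ff y else 0) = D.ff x := fun k => by
      rw [Finset.sum_ite_eq, if_pos (Finset.mem_univ _)]
      have hw : (k * x * k⁻¹).1 = x.1 := by
        show k.1 * x.1 * k.1⁻¹ = x.1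
        rw [D.A_comm k.1, mul_inv_cancel_right]
      simp only [ff, hw]
      congr 2
      exact isClassFunction_char D.hπ x.2 k.2
    simp only [e3, Finset.sum_const, Finset.card_univ, nsmul_eq_mul, ← Nat.card_eq_fintype_card]
    rw [← mul_assoc, inv_mul_cancel₀ D.cardH_ne, one_mul]
  simp only [e, D.norm_ff]
  rw [mul_comm (4 : ℂ), ← mul_assoc, inv_mul_cancel₀ D.cardH_ne, one_mul]

end FourB

end CfsgLib.GW.IIb
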