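import Cfsg.Agent.Lib.GW.IIb.FourSep

/-!
A character of the group meets only one orbit of characters of `O` on the section of `t`.
-/

set_option autoImplicit false
set_option linter.style.haveILetI false
set_option linter.unusedSectionVars false

namespace CfsgLib.GW.IIb

open Cfsg CfsgLib.CharTheory
open scoped ComplexConjugate

universe u

/-- The twisted sum of a character not fixed by an automorphism of order two vanishes. -/
theorem twisted_sum_eq_zero {O : Type u} [Group O] [Fintype O] {φ : O → ℂ} (hφ : IsIrrCharacter O φ)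
    (σ : O →* O) (hσ : ∀ x, σ (σ x) = x) (hne : ¬ ∀ x, φ (σ x) = φ x) : ∑ g : O, φ (g⁻¹ * σ g) = 0 := by
  classical
  obtain ⟨n, ρ, hρ, rfl⟩ := hφ
  set M : Module.End ℂ (Fin n → ℂ) := ∑ g : O, ρ g⁻¹ * ρ (σ g)
  have htr : LinearMap.trace ℂ _ M = ∑ g : O, ρ.character (g⁻¹ * σ g) := by
    simp only [M, map_sum]
    exact Finset.sum_congr rfl fun g _ => by rw [← map_mul]; rfl
  have hint : ∀ h, M * ρ (σ h) = ρ h * M := fun h => by
    simp only [M, Finset.sum_mul, Finset.mul_sum]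
    refine Fintype.sum_equiv (Equiv.mulRight h) _ _ fun g => ?_
    simp only [Equiv.coe_mulRight]
    rw [← mul_assoc, mul_assoc (ρ g⁻¹), ← map_mul, ← map_mul, ← map_mul, ← map_mul, mul_inv_rev,
      mul_inv_cancel_left, map_mul]
  by_cases hM : M = 0
  · rw [← htr, hM, map_zero]
  exfalso
  haveI : IsSimpleOrder (Subrepresentation ρ) := hρ
  let W : Subrepresentation ρ := ⟨LinearMap.ker M, fun h v hv => by
    rw [LinearMap.mem_ker] at hv ⊢
    have e := LinearMap.congr_fun (hint (σ h)) v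
    rw [Module.End.mul_apply, Module.End.mul_apply, hσ, hv, map_zero] at e
    exact e⟩
  have hinj : Function.Injective M := by
    rcases IsSimpleOrder.eq_bot_or_eq_top W with h | h
    · exact LinearMap.ker_eq_bot.1 (congrArg Subrepresentation.toSubmodule h)
    · exact absurd (LinearMap.ker_eq_top.1 (congrArg Subrepresentation.toSubmodule h)) hM
  refine hne fun x => ?_
  let e := LinearEquiv.ofBijective M ⟨hinj, LinearMap.injective_iff_surjective.1 hinj⟩
  have hconj : e.conj (ρ (σ x)) = ρ x := by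
    refine LinearMap.ext fun w => ?_
    obtain ⟨v, rfl⟩ := e.surjective w
    rw [LinearEquiv.conj_apply_apply, e.symm_apply_apply]
    exact LinearMap.congr_fun (hint x) v
  show LinearMap.trace ℂ _ (ρ (σ x)) = LinearMap.trace ℂ _ (ρ x)
  rw [← hconj, LinearMap.trace_conj']

namespace FourB

variable {G : Type u} [Group G] [Fintype G] (D : FourB G)

/-- The degree. -/
noncomputable def deg {H : Type u} [Group H] [Fintype H] (χ : IrrCharacter H) : ℕ := (irr_degree_pos χ.2).choose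

theorem deg_pos {H : Type u} [Group H] [Fintype H] (χ : IrrCharacter H) : 0 < deg χ :=
  (irr_degree_pos χ.2).choose_spec.1

theorem deg_spec {H : Type u} [Group H] [Fintype H] (χ : IrrCharacter H) : (χ : H → ℂ) 1 = (deg χ : ℂ) :=
  (irr_degree_pos χ.2).choose_spec.2

theorem sum_deg_int (φ : IrrCharacter D.O) : ∑ χ : IrrCharacter G, D.c χ φ * (deg χ : ℤ) = 0 := by
  have h := D.sum_deg φ
  simp only [deg_spec] at h
  exact_mod_cast h

theorem fixed_cases {φ : IrrCharacter D.O} (hφ : D.sConj φ = φ) (χ : IrrCharacter G) :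
    D.c χ φ = 0 ∨ D.c χ φ = 1 ∨ D.c χ φ = -1 := by
  classical
  set z := D.c χ φ with hz
  have h := D.orth φ φ
  rw [hφ, if_pos rfl, ← Finset.add_sum_erase Finset.univ _ (Finset.mem_univ χ), ← hz] at h
  by_contra hc
  push Not at hc
  have h4 : 4 ≤ z * z := by
    have : 2 ≤ z ∨ z ≤ -2 := by omega
    rcases this with e | e <;> nlinarith
  have hrest : ∀ η ∈ Finset.univ.erase χ, D.c η φ = 0 := by
    intro η hη
    have h0 : ∑ x ∈ Finset.univ.erase χ, D.c x φ * D.c x φ = 0 :=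
      le_antisymm (by linarith) (Finset.sum_nonneg fun x _ => mul_self_nonneg _)
    exact mul_self_eq_zero.mp ((Finset.sum_eq_zero_iff_of_nonneg fun x _ => mul_self_nonneg _).mp h0 η hη)
  have hdeg := D.sum_deg_int φ
  rw [← Finset.add_sum_erase Finset.univ _ (Finset.mem_univ χ),
    Finset.sum_eq_zero (fun η hη => by rw [hrest η hη, zero_mul]), add_zero, ← hz] at hdeg
  have := deg_pos χ
  rcases mul_eq_zero.mp hdeg with e | e <;> omega

theorem fixed_odd {φ : IrrCharacter D.O} (hφ : D.sConj φ = φ) {χ : IrrCharacter G} (h : D.c χ φ ≠ 0) :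
    Odd (D.c χ φ) := by
  rcases (D.fixed_cases hφ χ).resolve_left h with e | e <;> rw [e] <;> decide

/-- A moved character meets exactly two characters, of equal degree and opposite signs. -/
theorem moved_pair {φ : IrrCharacter D.O} (hφ : D.sConj φ ≠ φ) {a : IrrCharacter G} (ha : D.c a φ ≠ 0) :
    ∃ b, b ≠ a ∧ D.c b φ = -D.c a φ ∧ (D.c a φ = 1 ∨ D.c a φ = -1) ∧ deg b = deg a ∧
      ∀ x, x ≠ a → x ≠ b → D.c x φ = 0 := by
  classical
  have h := D.orth φ φ
  rw [if_pos rfl, if_neg hφ] at h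
  have hd := D.sum_deg_int φ
  rw [← Finset.add_sum_erase Finset.univ _ (Finset.mem_univ a)] at h hd
  obtain ⟨q, hq, hq0⟩ : ∃ q ∈ Finset.univ.erase a, D.c q φ ≠ 0 := by
    by_contra hc
    push Not at hc
    rw [Finset.sum_eq_zero (fun x hx => by rw [hc x hx, zero_mul]), add_zero] at hd
    have := deg_pos a
    rcases mul_eq_zero.mp hd with e | e
    · exact ha e
    · omega
  rw [← Finset.add_sum_erase (Finset.univ.erase a) _ hq] at h hd
  have hp1 : 1 ≤ D.c a φ * D.c a φ := by rcases lt_or_gt_of_ne ha with e | e <;> nlinarith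
  have hq1 : 1 ≤ D.c q φ * D.c q φ := by rcases lt_or_gt_of_ne hq0 with e | e <;> nlinarith
  have hr : 0 ≤ ∑ x ∈ (Finset.univ.erase a).erase q, D.c x φ * D.c x φ :=
    Finset.sum_nonneg fun x _ => mul_self_nonneg _
  have hzero : ∀ x ∈ (Finset.univ.erase a).erase q, D.c x φ = 0 := fun x hx =>
    mul_self_eq_zero.mp ((Finset.sum_eq_zero_iff_of_nonneg (f := fun y => D.c y φ * D.c y φ)
      fun y _ => mul_self_nonneg _).mp (by linarith) x hx)
  rw [Finset.sum_eq_zero (fun x hx => by rw [hzero x hx, zero_mul]), add_zero] at hd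
  have e1 : D.c a φ = 1 ∨ D.c a φ = -1 :=
    Int.eq_one_or_neg_one_of_mul_eq_one (by linarith : D.c a φ * D.c a φ = 1)
  have e2 : D.c q φ = 1 ∨ D.c q φ = -1 :=
    Int.eq_one_or_neg_one_of_mul_eq_one (by linarith : D.c q φ * D.c q φ = 1)
  have := deg_pos a; have := deg_pos q
  refine ⟨q, (Finset.mem_erase.mp hq).1, ?_, e1, ?_,
    fun x hxp hxq => hzero x (Finset.mem_erase.mpr ⟨hxq, Finset.mem_erase.mpr ⟨hxp, Finset.mem_univ _⟩⟩)⟩
  · rcases e1 with e1 | e1 <;> rcases e2 with e2 | e2 <;> rw [e1, e2] at hd ⊢ <;> omega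
  · rcases e1 with e1 | e1 <;> rcases e2 with e2 | e2 <;> rw [e1, e2] at hd <;> omega

/-- Orthogonality with a moved character on its pair. -/
theorem pair_orth {φ ψ : IrrCharacter D.O} (hne : ψ ≠ φ) (hne' : D.sConj ψ ≠ φ) {a b : IrrCharacter G}
    (hab : a ≠ b) (hb : D.c b φ = -D.c a φ) (ha : D.c a φ = 1 ∨ D.c a φ = -1)
    (hz : ∀ x, x ≠ a → x ≠ b → D.c x φ = 0) : D.c a ψ = D.c b ψ := by
  classical
  have h := D.orth φ ψ
  rw [if_neg hne, if_neg hne', ← Finset.sum_subset (Finset.subset_univ ({a, b} : Finset _)) (fun x _ hx => by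
    simp only [Finset.mem_insert, Finset.mem_singleton, not_or] at hx
    rw [hz x hx.1 hx.2, zero_mul]), Finset.sum_pair hab, hb] at h
  rcases ha with e | e <;> rw [e] at h <;> linarith

theorem moved_unique {φ ψ : IrrCharacter D.O} (hφ : D.sConj φ ≠ φ) (hψ : D.sConj ψ ≠ ψ) {a : IrrCharacter G}
    (h1 : D.c a φ ≠ 0) (h2 : D.c a ψ ≠ 0) : ψ = φ ∨ ψ = D.sConj φ := by
  by_contra hc
  push Not at hc
  obtain ⟨hne, hne'⟩ := hc
  obtain ⟨b, hba, hb, ha, -, hz⟩ := D.moved_pair hφ h1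
  obtain ⟨b', -, hb', ha', -, hz'⟩ := D.moved_pair hψ h2
  have heq := D.pair_orth hne (fun e => hne' (by rw [← e, D.sConj_sConj])) hba.symm hb ha hz
  by_cases e : b = b'
  · rw [← e] at hb'
    omega
  · rw [hz' b hba e] at heq
    exact h2 heq

/-! ### Pairs of involutions over the section -/

/-- The elements of `O` inverted by `v`. -/
abbrev Inv : Type u := {w : D.O // D.sigma w = w⁻¹}

theorem sv_true_sq (f : Bool) (w : D.O) :
    D.sv f true * w * (D.sv f true * w) = ((D.sigma w * w : D.O) : G) := by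
  have h := D.sv_conj f true w
  simp only [if_true] at h
  rw [inv_eq_of_mul_eq_one_right (D.sv_sq f true)] at h
  rw [← mul_assoc, h]; rfl

theorem sv_true_invol (f : Bool) (w : D.O) :
    (D.sv f true * w * (D.sv f true * w) = 1 ∧ D.sv f true * (w : G) ≠ 1) ↔ D.sigma w = w⁻¹ := by
  rw [D.sv_true_sq, OneMemClass.coe_eq_one, mul_eq_one_iff_eq_inv]
  refine ⟨fun h => h.1, fun h => ⟨h, fun e => ?_⟩⟩
  have := (D.sv_mem_O (f := f) (g := true) (by rw [mul_eq_one_iff_eq_inv] at e; rw [e]; exact D.O.inv_mem w.2)).2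
  exact Bool.noConfusion this

theorem sv_shift (b : Bool) (w u : D.O) :
    D.sv b true * w * (D.t * u)⁻¹ = D.sv (!b) true * ((w * u⁻¹ : D.O) : G) := by
  rw [mul_inv_rev, D.t_inv, ← mul_assoc, mul_assoc (D.sv b true) (w : G), Subgroup.coe_mul, Subgroup.coe_inv]
  rw [mul_assoc (D.sv b true), D.hOt _ (D.O.mul_mem w.2 (D.O.inv_mem u.2)), ← mul_assoc]
  congr 1
  cases b <;> simp [sv, D.hcomm]
  rw [mul_assoc, D.hcomm, ← mul_assoc, D.ht2, one_mul]

theorem invol_iff (a : G) : IsConj D.t a ↔ a * a = 1 ∧ a ≠ 1 := by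
  refine ⟨fun h => ?_, fun h => D.hconj a h.1 h.2⟩
  obtain ⟨c, rfl⟩ := isConj_iff.mp h
  exact ⟨by rw [show c * D.t * c⁻¹ * (c * D.t * c⁻¹) = c * (D.t * D.t) * c⁻¹ by group, D.ht2]; group,
    fun e => D.ht1 (conj_eq_one_iff.mp e)⟩

/-- The pairs of involutions with product in the section, weighted by a function. -/
theorem sum_pairs [DecidableEq G] [DecidablePred fun a : G => IsConj D.t a] [Fintype D.Inv] (F : D.O → ℂ) :
    ∑ u : D.O, F u *
        (((Finset.univ.filter fun a => IsConj D.t a).filter fun a => IsConj D.t (a * (D.t * u)⁻¹)).card : ℂ) =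
      2 * ∑ w : D.Inv, ∑ w' : D.Inv, F ((w' : D.O)⁻¹ * w) := by
  classical
  have e : ∀ u : D.O, F u *
      (((Finset.univ.filter fun a => IsConj D.t a).filter fun a => IsConj D.t (a * (D.t * u)⁻¹)).card : ℂ) =
      ∑ a ∈ (Finset.univ.filter fun a => IsConj D.t a).filter fun a => IsConj D.t (a * (D.t * u)⁻¹), F u := fun u => by
    rw [Finset.sum_const, nsmul_eq_mul, mul_comm]
  simp only [e]
  rw [Finset.sum_sigma']
  refine Eq.trans (Eq.symm (Finset.sum_bij (s := (Finset.univ : Finset (Bool × D.Inv × D.Inv)))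
    (f := fun q => F ((q.2.2 : D.O)⁻¹ * q.2.1))
    (fun q _ => (⟨(q.2.2 : D.O)⁻¹ * q.2.1, D.sv q.1 true * ((q.2.1 : D.O) : G)⟩ : Σ _ : D.O, G)) ?_ ?_ ?_
    (fun q _ => rfl))) ?_
  · rintro ⟨b, ⟨w, hw⟩, ⟨w', hw'⟩⟩ -
    simp only [Finset.mem_sigma, Finset.mem_univ, true_and, Finset.mem_filter, D.invol_iff]
    refine ⟨(D.sv_true_invol b w).2 hw, ?_⟩
    rw [D.sv_shift]
    refine (D.sv_true_invol (!b) _).2 ?_
    rw [show w * (w'⁻¹ * w)⁻¹ = w' by group]
    exact hw'
  · rintro ⟨b, ⟨w, hw⟩, ⟨w', hw'⟩⟩ - ⟨b₁, ⟨w₁, hw₁⟩, ⟨w₁', hw₁'⟩⟩ - h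
    simp only [Sigma.mk.injEq, heq_eq_eq] at h
    have h2 := D.sv_injective (a₁ := (((b, true), w) : (Bool × Bool) × D.O)) (a₂ := (((b₁, true), w₁) : (Bool × Bool) × D.O)) h.2
    simp only [Prod.mk.injEq, and_true] at h2
    obtain ⟨rfl, rfl⟩ := h2
    obtain rfl : w' = w₁' := inv_injective (mul_right_cancel h.1)
    rfl
  · rintro ⟨u, a⟩ hua
    simp only [Finset.mem_sigma, Finset.mem_univ, true_and, Finset.mem_filter] at hua
    obtain ⟨ha, hb⟩ := hua
    rw [D.invol_iff] at ha hb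
    have hat : a * D.t = D.t * a := by
      refine D.conj_section (D.O.inv_mem u.2) u.2 (g := a) ?_
      have h1 : (D.t * (u : G))⁻¹ = D.t * (u : G)⁻¹ := by
        rw [mul_inv_rev, D.t_inv, D.hOt _ (D.O.inv_mem u.2)]
      rw [← h1, inv_eq_of_mul_eq_one_right ha.1]
      have h2 := hb.1
      calc a * (D.t * (u : G))⁻¹ * a = a * (D.t * (u : G))⁻¹ * a * ((D.t * (u : G))⁻¹ * (D.t * u)) := by
            rw [inv_mul_cancel, mul_one]
        _ = (a * (D.t * (u : G))⁻¹ * (a * (D.t * (u : G))⁻¹)) * (D.t * u) := by group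
        _ = D.t * u := by rw [h2, one_mul]
    obtain ⟨f, g, w, rfl⟩ := D.exists_sv hat
    cases g
    · exfalso
      have hs : D.sv f false * (w : G) = (w : G) * D.sv f false := by
        cases f <;> simp [sv, (D.hOt _ w.2).symm]
      have hw2 : (w : G) * w = 1 := by
        rw [show D.sv f false * (w : G) * (D.sv f false * w) = D.sv f false * ((w : G) * D.sv f false) * w by group,
          ← hs, ← mul_assoc (D.sv f false) (D.sv f false), D.sv_sq, one_mul] at ha
        exact ha.1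
      have hw1 := D.eq_one_of_sq w.2 hw2
      rw [hw1, mul_one] at ha hb
      cases f
      · exact ha.2 (by simp [sv])
      · have e : D.sv true false * (D.t * (u : G))⁻¹ = (u : G)⁻¹ := by
          rw [mul_inv_rev, D.t_inv, D.hOt _ (D.O.inv_mem u.2), ← mul_assoc]
          simp [sv, D.ht2]
        rw [e] at hb
        exact hb.2 (D.eq_one_of_sq (D.O.inv_mem u.2) hb.1)
    · rw [D.sv_shift] at hb
      have hw := (D.sv_true_invol f w).1 ha
      have hw' := (D.sv_true_invol (!f) (w * u⁻¹)).1 hb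
      refine ⟨(f, ⟨w, hw⟩, ⟨w * u⁻¹, hw'⟩), Finset.mem_univ _, ?_⟩
      simp only [mul_inv_rev, inv_inv, mul_assoc, inv_mul_cancel, mul_one]
  · simp only [Fintype.sum_prod_type, Fintype.sum_bool, two_mul]

theorem E_moved {φ : IrrCharacter D.O} (hφ : D.sConj φ ≠ φ) :
    ∑ χ : IrrCharacter G, (D.c χ φ : ℂ) * (χ : G → ℂ) D.t ^ 2 / (χ : G → ℂ) 1 = 0 := by
  classical
  haveI : Fintype D.Inv := Fintype.ofFinite _
  set N : ℂ := (Nat.card {a : G // IsConj D.t a} : ℂ)
  have hN : N ≠ 0 := by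
    have : Nonempty {a : G // IsConj D.t a} := ⟨⟨D.t, IsConj.refl _⟩⟩
    exact Nat.cast_ne_zero.mpr Nat.card_pos.ne'
  have hE : ∑ χ : IrrCharacter G, (D.c χ φ : ℂ) * (χ : G → ℂ) D.t ^ 2 / (χ : G → ℂ) 1 =
      (Nat.card D.O : ℂ)⁻¹ * ∑ u : D.O, conj ((φ : D.O → ℂ) u) *
        ∑ χ : IrrCharacter G, (χ : G → ℂ) D.t ^ 2 * (χ : G → ℂ) (D.t * u) / (χ : G → ℂ) 1 := by
    simp only [Finset.mul_sum]
    rw [Finset.sum_comm]
    refine Finset.sum_congr rfl fun χ _ => ?_
    rw [← D.c_spec, classInner, Finset.mul_sum, Finset.sum_mul, Finset.sum_div]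
    refine Finset.sum_congr rfl fun u _ => ?_
    simp only [sec]
    ring
  have hval : ∀ u : D.O, ∑ χ : IrrCharacter G, (χ : G → ℂ) D.t ^ 2 * (χ : G → ℂ) (D.t * u) / (χ : G → ℂ) 1 =
      (Nat.card G : ℂ) / (N * N) *
        (((Finset.univ.filter fun a => IsConj D.t a).filter fun a => IsConj D.t (a * (D.t * u)⁻¹)).card : ℂ) := fun u => by
    have h := class_pairs D.ht2 (D.t * (u : G))
    field_simp
    rw [h]; ring
  -- the map `x ↦ x⁻¹ σ x`
  let kk : D.O → D.Inv := fun x => ⟨x⁻¹ * D.sigma x, by rw [map_mul, map_inv, D.sigma_sigma]; group⟩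
  have hfib : ∀ F : D.Inv → ℂ, ∑ x : D.O, F (kk x) = (D.p : ℂ) * ∑ w : D.Inv, F w := by
    intro F
    rw [← Finset.sum_fiberwise Finset.univ kk, Finset.mul_sum]
    refine Finset.sum_congr rfl fun w _ => ?_
    rw [Finset.sum_congr rfl (fun x hx => by rw [(Finset.mem_filter.1 hx).2]), Finset.sum_const, nsmul_eq_mul]
    congr 2
    obtain ⟨x₀, hx₀⟩ : ∃ x₀, kk x₀ = w := by
      obtain ⟨j, hj⟩ := D.hodd
      refine ⟨(w : D.O) ^ j, Subtype.ext ?_⟩
      show ((w : D.O) ^ j)⁻¹ * D.sigma ((w : D.O) ^ j) = w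
      rw [map_pow, w.2, inv_pow, ← mul_inv_rev, ← pow_add]
      refine inv_eq_of_mul_eq_one_right ?_
      rw [← pow_succ, show j + j + 1 = Nat.card D.O by omega, pow_card_eq_one']
    rw [← D.card_A, Nat.card_eq_fintype_card, ← Finset.card_univ]
    symm
    refine Finset.card_bij (fun a _ => D.incl a * x₀) (fun a _ => ?_)
      (fun a _ b _ h => Subgroup.inclusion_injective D.A_le (mul_right_cancel h)) (fun x hx => ?_)
    · refine Finset.mem_filter.2 ⟨Finset.mem_univ _, ?_⟩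
      rw [← hx₀]
      refine Subtype.ext ?_
      show (D.incl a * x₀)⁻¹ * D.sigma (D.incl a * x₀) = x₀⁻¹ * D.sigma x₀
      rw [map_mul, D.sigma_incl]; group
    · have h : x⁻¹ * D.sigma x = x₀⁻¹ * D.sigma x₀ :=
        congrArg Subtype.val ((Finset.mem_filter.1 hx).2.trans hx₀.symm)
      have hA : ((x * x₀⁻¹ : D.O) : G) ∈ D.A := by
        rw [← D.sigma_eq_iff, map_mul, map_inv]
        have h1 : D.sigma x = x * (x₀⁻¹ * D.sigma x₀) := by rw [← h, mul_inv_cancel_left]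
        rw [h1]; group
      refine ⟨⟨_, hA⟩, Finset.mem_univ _, ?_⟩
      rw [show D.incl ⟨_, hA⟩ = x * x₀⁻¹ from Subtype.ext rfl, inv_mul_cancel_right]
  have hzero : ∑ g : D.O, (φ : D.O → ℂ) (g⁻¹ * D.sigma g) = 0 :=
    twisted_sum_eq_zero φ.2 D.sigma D.sigma_sigma fun h => hφ (Subtype.ext (funext h))
  have hdouble : ∑ w : D.Inv, ∑ w' : D.Inv, conj ((φ : D.O → ℂ) ((w' : D.O)⁻¹ * w)) = 0 := by
    have h2 : (D.p : ℂ) * ((D.p : ℂ) * ∑ w : D.Inv, ∑ w' : D.Inv, conj ((φ : D.O → ℂ) ((w' : D.O)⁻¹ * w))) = 0 := by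
      rw [Finset.mul_sum (a := (D.p : ℂ))]
      simp only [← hfib (fun w' => conj ((φ : D.O → ℂ) ((w' : D.O)⁻¹ * _)))]
      rw [← hfib (fun w => ∑ y : D.O, conj ((φ : D.O → ℂ) ((kk y : D.O)⁻¹ * w))), Finset.sum_comm]
      have e : ∀ y : D.O, ∑ x : D.O, conj ((φ : D.O → ℂ) ((kk y : D.O)⁻¹ * kk x)) =
          conj (∑ g : D.O, (φ : D.O → ℂ) (g⁻¹ * D.sigma g)) := by
        intro y
        rw [map_sum]
        refine (Fintype.sum_equiv (Equiv.mulRight y) _ _ fun g => ?_).symm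
        simp only [Equiv.coe_mulRight]
        congr 1
        show _ = (φ : D.O → ℂ) ((y⁻¹ * D.sigma y)⁻¹ * ((g * y)⁻¹ * D.sigma (g * y)))
        rw [map_mul, ← isClassFunction_irr φ.2 (g⁻¹ * D.sigma g) (D.sigma y)⁻¹]
        congr 1
        group
      simp only [e, hzero, map_zero, Finset.sum_const_zero]
    have hp : (D.p : ℂ) ≠ 0 := Nat.cast_ne_zero.2 D.hp.ne_zero
    exact (mul_eq_zero.1 ((mul_eq_zero.1 h2).resolve_left hp)).resolve_left hp
  rw [hE]
  simp only [hval]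
  have e2 : ∀ u : D.O, conj ((φ : D.O → ℂ) u) * ((Nat.card G : ℂ) / (N * N) *
      (((Finset.univ.filter fun a => IsConj D.t a).filter fun a => IsConj D.t (a * (D.t * u)⁻¹)).card : ℂ)) =
      (Nat.card G : ℂ) / (N * N) * (conj ((φ : D.O → ℂ) u) *
      (((Finset.univ.filter fun a => IsConj D.t a).filter fun a => IsConj D.t (a * (D.t * u)⁻¹)).card : ℂ)) :=
    fun u => by ring
  simp only [e2, ← Finset.mul_sum]
  rw [D.sum_pairs (fun u => conj ((φ : D.O → ℂ) u)), hdouble]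
  ring

/-! ### One orbit -/

theorem value_single {χ : IrrCharacter G} {φ : IrrCharacter D.O}
    (h : ∀ ψ, ψ ≠ φ → ψ ≠ D.sConj φ → D.c χ ψ = 0) [Decidable (D.sConj φ = φ)] :
    (χ : G → ℂ) D.t = (D.c χ φ : ℂ) * ((if D.sConj φ = φ then 1 else 2) * (deg φ : ℂ)) := by
  classical
  rw [D.value_t, ← Finset.sum_subset (Finset.subset_univ ({φ, D.sConj φ} : Finset _)) (fun x _ hx => by
    simp only [Finset.mem_insert, Finset.mem_singleton, not_or] at hx
    rw [h x hx.1 hx.2]; simp)]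
  by_cases hf : D.sConj φ = φ
  · rw [if_pos hf, hf, Finset.insert_eq_of_mem (Finset.mem_singleton_self _), Finset.sum_singleton, deg_spec]; ring
  · rw [if_neg hf, Finset.sum_pair (Ne.symm hf), D.c_sConj, D.sConj_one_val, deg_spec]; ring

theorem not_mixed {φ ψ : IrrCharacter D.O} (hφ : D.sConj φ ≠ φ) (hψ : D.sConj ψ = ψ) {a : IrrCharacter G}
    (ha : D.c a φ ≠ 0) : D.c a ψ = 0 := by
  classical
  by_contra hc
  obtain ⟨b, hba, hb, he, hdeg, hz⟩ := D.moved_pair hφ ha
  have hne : ψ ≠ φ := fun e => hφ (e ▸ hψ)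
  have heq := D.pair_orth hne (by rw [hψ]; exact hne) hba.symm hb he hz
  have hne' : ψ ≠ D.sConj φ := fun e => hφ (by rw [e, D.sConj_sConj] at hψ; exact hψ.symm)
  have hval : ∀ x : IrrCharacter G, D.c x φ ≠ 0 → D.c x ψ ≠ 0 →
      (x : G → ℂ) D.t = 2 * (D.c x φ : ℂ) * (deg φ : ℂ) + (D.c x ψ : ℂ) * (deg ψ : ℂ) := by
    intro x h1 h2
    rw [D.value_t, ← Finset.sum_subset (Finset.subset_univ ({φ, D.sConj φ, ψ} : Finset _)) (fun η _ hη => by
      simp only [Finset.mem_insert, Finset.mem_singleton, not_or] at hη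
      by_cases h0 : D.c x η = 0
      · rw [h0]; simp
      exfalso
      by_cases hf : D.sConj η = η
      · exact hη.2.2 (D.fixed_unique x hf hψ (D.fixed_odd hf h0) (D.fixed_odd hψ h2))
      · rcases D.moved_unique hφ hf h1 h0 with e | e
        · exact hη.1 e
        · exact hη.2.1 e),
      Finset.sum_insert (by simp [Ne.symm hφ, Ne.symm hne]), Finset.sum_pair (Ne.symm hne'),
      D.c_sConj, D.sConj_one_val, deg_spec, deg_spec]
    ring
  have hbφ : D.c b φ ≠ 0 := by rw [hb]; exact neg_ne_zero.2 ha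
  have hE := D.E_moved hφ
  rw [← Finset.sum_subset (Finset.subset_univ ({a, b} : Finset _)) (fun x _ hx => by
      simp only [Finset.mem_insert, Finset.mem_singleton, not_or] at hx
      rw [hz x hx.1 hx.2]; simp), Finset.sum_pair hba.symm, hval a ha hc, hval b hbφ (heq ▸ hc), deg_spec, deg_spec,
    hdeg, ← heq, hb] at hE
  have hd0 : (deg a : ℂ) ≠ 0 := Nat.cast_ne_zero.2 (deg_pos a).ne'
  push_cast at hE
  field_simp at hE
  have h8 : (D.c a φ : ℂ) * (D.c a φ : ℂ) * ((D.c a ψ : ℂ) * ((deg φ : ℂ) * (deg ψ : ℂ))) = 0 := by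
    linear_combination hE / 8
  simp only [mul_eq_zero, Int.cast_eq_zero, Nat.cast_eq_zero, ha, hc, (deg_pos φ).ne', (deg_pos ψ).ne', or_self] at h8

/-- The coefficients of a character sit at one orbit. -/
theorem one_orbit {χ : IrrCharacter G} {φ : IrrCharacter D.O} (h : D.c χ φ ≠ 0) :
    ∀ ψ, ψ ≠ φ → ψ ≠ D.sConj φ → D.c χ ψ = 0 := by
  intro ψ h1 h2
  by_contra hc
  by_cases hf : D.sConj φ = φ <;> by_cases hg : D.sConj ψ = ψ
  · exact h1 (D.fixed_unique χ hg hf (D.fixed_odd hg hc) (D.fixed_odd hf h))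
  · exact h (D.not_mixed hg hf hc)
  · exact hc (D.not_mixed hf hg h)
  · rcases D.moved_unique hf hg h hc with e | e
    · exact h1 e
    · exact h2 e

end FourB

end CfsgLib.GW.IIb
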