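import Cfsg.Agent.Lib.GW.IIb.FourData

/-!
Separation modulo 2: a character meets at most one character of `O` fixed by `v`.
-/

set_option autoImplicit false
set_option linter.style.haveILetI false
set_option linter.unusedSectionVars false

namespace CfsgLib.GW.IIb

open Cfsg CfsgLib.CharTheory CfsgLib.KleinCent
open CfsgLib.MinNonCA (modTwo_sum_fixed class_sum_mul)
open scoped ComplexConjugate

universe u

theorem modTwo_mul_self_int {a b : ℤ} (h : ModTwo ((a : ℂ)) ((b : ℂ))) : (2 : ℤ) ∣ a - b := modTwo_int.1 h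

/-- The odd coefficients of a function with multiplicative behaviour modulo 2 sit at one character. -/
theorem modTwo_coeff_mul {A : Type u} [Group A] [Fintype A] (hA : ∀ a b : A, a * b = b * a) (h : A → ℂ)
    (hint : ∀ w, IsIntegral ℤ (h w)) (hω : ∀ w, ∃ ω : ℂ, ∀ g, ModTwo (ω * h g) (h (w * g)))
    {μ ν : IrrCharacter A} (hne : μ ≠ ν) :
    ModTwo ((∑ w, h w * conj ((μ : A → ℂ) w)) * ∑ w, h w * conj ((ν : A → ℂ) w)) 0 := by
  classical
  obtain ⟨f, hf⟩ := exists_hom_of_degree_one (isCharacter_of_irr ν.2) (degree_one_of_commutative hA ν.2)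
  have hν : ∀ a b : A, (ν : A → ℂ) (a * b) = (ν : A → ℂ) a * (ν : A → ℂ) b := fun a b => by
    simp only [hf, map_mul, Units.val_mul]
  have hμi : ∀ w, IsIntegral ℤ (conj ((μ : A → ℂ) w)) := fun w => by
    rw [← char_apply_inv (isCharacter_of_irr μ.2)]; exact isIntegral_of_char (isCharacter_of_irr μ.2) _
  have hνi : ∀ w, IsIntegral ℤ (conj ((ν : A → ℂ) w)) := fun w => by
    rw [← char_apply_inv (isCharacter_of_irr ν.2)]; exact isIntegral_of_char (isCharacter_of_irr ν.2) _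
  have h2 : ∀ w g, ModTwo (h w * h g) (h 1 * h (w * g)) := by
    intro w g
    obtain ⟨ω, hω⟩ := hω w
    have a := ModTwo.mul_left (h g) (hint g) (hω 1)
    have b := ModTwo.mul_left (h 1) (hint 1) (hω g)
    rw [mul_one, mul_comm (h g) (h w)] at a
    exact a.symm.trans ((show ModTwo (h g * (ω * h 1)) (h 1 * (ω * h g)) by
      rw [show h g * (ω * h 1) = h 1 * (ω * h g) by ring]; exact ModTwo.refl _).trans b)
  rw [Finset.sum_mul_sum]
  refine (ModTwo.sum _ _ (fun w => ∑ g, (conj ((μ : A → ℂ) w) * conj ((ν : A → ℂ) g)) * (h 1 * h (w * g)))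
    fun w _ => ModTwo.sum _ _ _ fun g _ => ?_).trans ?_
  · rw [show h w * conj ((μ : A → ℂ) w) * (h g * conj ((ν : A → ℂ) g)) =
      (conj ((μ : A → ℂ) w) * conj ((ν : A → ℂ) g)) * (h w * h g) by ring]
    exact ModTwo.mul_left _ ((hμi w).mul (hνi g)) (h2 w g)
  · have e0 : ∀ w, ∑ g, (conj ((μ : A → ℂ) w) * conj ((ν : A → ℂ) g)) * (h 1 * h (w * g)) =
        ((ν : A → ℂ) w * conj ((μ : A → ℂ) w)) * ∑ k, h 1 * h k * conj ((ν : A → ℂ) k) := by
      intro w
      rw [Finset.mul_sum]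
      refine Fintype.sum_equiv (Equiv.mulLeft w) _ _ fun g => ?_
      simp only [Equiv.coe_mulLeft, hν, map_mul]
      have h1 : (ν : A → ℂ) w * conj ((ν : A → ℂ) w) = 1 := by
        rw [← char_apply_inv (isCharacter_of_irr ν.2), ← hν, mul_inv_cancel, hf]; simp
      linear_combination -(h 1 * h (w * g) * conj ((ν : A → ℂ) g) * conj ((μ : A → ℂ) w)) * h1
    have hzero : ∑ w, (ν : A → ℂ) w * conj ((μ : A → ℂ) w) = 0 := by
      have h := classInner_irr_ne ν.2 μ.2 fun e => hne (Subtype.ext e.symm)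
      simp only [classInner, mul_eq_zero, inv_eq_zero, Nat.cast_eq_zero] at h
      exact h.resolve_left Nat.card_pos.ne'
    simp only [e0, ← Finset.sum_mul, hzero, zero_mul]
    exact ModTwo.refl _

namespace FourB

variable {G : Type u} [Group G] [Fintype G] (D : FourB G)

theorem A_comm (a b : D.A) : a * b = b * a := mul_comm' a b

/-- The inclusion of `A`. -/
abbrev incl : D.A →* D.O := Subgroup.inclusion D.A_le

theorem sigma_incl (w : D.A) : D.sigma (D.incl w) = D.incl w := (D.sigma_eq_iff _).2 w.2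

theorem mm_nat (φ : IrrCharacter D.O) (μ : IrrCharacter D.A) :
    ∃ n : ℕ, classInner (fun w : D.A => (φ : D.O → ℂ) (D.incl w)) (μ : D.A → ℂ) = n :=
  classInner_char_nat (isCharacter_comp (isCharacter_of_irr φ.2) D.incl) (isCharacter_of_irr μ.2)

/-- The multiplicity of `μ` in `φ` restricted to `A`. -/
noncomputable def mm (φ : IrrCharacter D.O) (μ : IrrCharacter D.A) : ℤ := (D.mm_nat φ μ).choose

theorem mm_spec (φ : IrrCharacter D.O) (μ : IrrCharacter D.A) :
    classInner (fun w : D.A => (φ : D.O → ℂ) (D.incl w)) (μ : D.A → ℂ) = (D.mm φ μ : ℂ) := by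
  rw [(D.mm_nat φ μ).choose_spec, mm, Int.cast_natCast]

theorem sum_A_eq (φ : IrrCharacter D.O) (μ : IrrCharacter D.A) :
    ∑ w : D.A, (φ : D.O → ℂ) (D.incl w) * conj ((μ : D.A → ℂ) w) = ((D.p * D.mm φ μ : ℤ) : ℂ) := by
  push_cast
  rw [← D.mm_spec, classInner, D.card_A, ← mul_assoc, mul_inv_cancel₀ (Nat.cast_ne_zero.2 D.hp.ne_zero), one_mul]

theorem mm_sConj (φ : IrrCharacter D.O) (μ : IrrCharacter D.A) : D.mm (D.sConj φ) μ = D.mm φ μ := by
  have e : (fun w : D.A => (D.sConj φ : D.O → ℂ) (D.incl w)) = fun w : D.A => (φ : D.O → ℂ) (D.incl w) :=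
    funext fun w => congrArg (φ : D.O → ℂ) (D.sigma_incl w)
  have h := D.mm_spec (D.sConj φ) μ
  rw [e, D.mm_spec] at h
  exact_mod_cast h.symm

theorem p_odd' : Odd (D.p : ℤ) := by exact_mod_cast D.p_odd

theorem two_dvd_mul_of_p {a b : ℤ} (h : (2 : ℤ) ∣ (D.p : ℤ) * a * ((D.p : ℤ) * b)) : (2 : ℤ) ∣ a * b := by
  rw [show (D.p : ℤ) * a * ((D.p : ℤ) * b) = ((D.p : ℤ) * D.p) * (a * b) by ring] at h
  refine (Int.prime_two.dvd_mul.1 h).resolve_left fun h' => ?_
  exact Int.not_even_iff_odd.2 (D.p_odd'.mul D.p_odd') (even_iff_two_dvd.2 h')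

/-- A fixed character is multiplicative on `A` modulo 2. -/
theorem omega_fixed {φ : IrrCharacter D.O} (hφ : D.sConj φ = φ) (w : D.A) :
    ∃ ω : ℂ, ∀ g : D.A, ModTwo (ω * (φ : D.O → ℂ) (D.incl g)) ((φ : D.O → ℂ) (D.incl (w * g))) := by
  classical
  obtain ⟨ω, -, hω⟩ := class_sum_mul φ.2 (D.incl w)
  refine ⟨ω, fun g => ?_⟩
  set r : D.O → ℂ := fun a => if IsConj (D.incl w) a then (φ : D.O → ℂ) (a * D.incl g) else 0
  have hcl : ∀ a, IsConj (D.incl w) (D.sigma a) ↔ IsConj (D.incl w) a := by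
    have key : ∀ a, IsConj (D.incl w) a → IsConj (D.incl w) (D.sigma a) := fun a h => by
      have := D.sigma.map_isConj h
      rwa [D.sigma_incl] at this
    exact fun a => ⟨fun h => by simpa [D.sigma_sigma] using key _ h, key a⟩
  have h1 := modTwo_sum_fixed D.sigma D.sigma_sigma r
    (fun a => by simp only [r]; split; exacts [isIntegral_of_char (isCharacter_of_irr φ.2) _, isIntegral_zero])
    (fun a => by
      simp only [r, hcl]
      refine if_congr Iff.rfl ?_ rfl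
      conv_rhs => rw [← hφ]
      show _ = (φ : D.O → ℂ) (D.sigma (a * D.incl g))
      rw [map_mul, D.sigma_incl])
  have e : ω * (φ : D.O → ℂ) (D.incl g) = ∑ a, r a := by rw [← hω, Finset.sum_filter]
  rw [e, map_mul]
  refine h1.trans ?_
  rw [Finset.sum_eq_single (D.incl w)]
  · simp only [r, if_pos (IsConj.refl _)]; exact ModTwo.refl _
  · intro a ha hne
    simp only [Finset.mem_filter, Finset.mem_univ, true_and] at ha
    refine if_neg fun hc => hne ?_
    obtain ⟨o, ho⟩ := isConj_iff.1 hc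
    have hval : (o : G) * (w : G) * (o : G)⁻¹ = (a : G) := congrArg Subtype.val ho
    exact Subtype.ext (hval.symm.trans (D.conj_A w.2 (hval ▸ (D.sigma_eq_iff a).1 ha)))
  · intro h
    refine absurd ?_ h
    simp [D.sigma_incl]

theorem mm_mul_even {φ : IrrCharacter D.O} (hφ : D.sConj φ = φ) {μ ν : IrrCharacter D.A} (hne : μ ≠ ν) :
    (2 : ℤ) ∣ D.mm φ μ * D.mm φ ν := by
  have h := modTwo_coeff_mul D.A_comm (fun w => (φ : D.O → ℂ) (D.incl w))
    (fun w => isIntegral_of_char (isCharacter_of_irr φ.2) _) (D.omega_fixed hφ) hne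
  simp only [D.sum_A_eq, ← Int.cast_mul] at h
  rw [show (0 : ℂ) = ((0 : ℤ) : ℂ) from Int.cast_zero.symm, modTwo_int, sub_zero] at h
  exact D.two_dvd_mul_of_p h

/-- Orthogonality modulo 2 of the restrictions to `A`. -/
theorem mm_orth [DecidableEq (IrrCharacter D.O)] {φ ψ : IrrCharacter D.O} (hφ : D.sConj φ = φ) (hψ : D.sConj ψ = ψ) :
    (2 : ℤ) ∣ (if φ = ψ then 1 else 0) - ∑ μ : IrrCharacter D.A, D.mm φ μ * D.mm ψ μ := by
  classical
  have hint : ∀ u : D.O, IsIntegral ℤ ((φ : D.O → ℂ) u * conj ((ψ : D.O → ℂ) u)) := fun u => by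
    rw [← char_apply_inv (isCharacter_of_irr ψ.2)]
    exact (isIntegral_of_char (isCharacter_of_irr φ.2) _).mul (isIntegral_of_char (isCharacter_of_irr ψ.2) _)
  have h1 := modTwo_sum_fixed D.sigma D.sigma_sigma (fun u => (φ : D.O → ℂ) u * conj ((ψ : D.O → ℂ) u)) hint
    (fun u => by
      show (D.sConj φ : D.O → ℂ) u * conj ((D.sConj ψ : D.O → ℂ) u) = _
      rw [hφ, hψ])
  have hL : ∑ u : D.O, (φ : D.O → ℂ) u * conj ((ψ : D.O → ℂ) u) =
      (((Nat.card D.O : ℤ) * (if φ = ψ then 1 else 0) : ℤ) : ℂ) := by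
    have h := classInner_irr φ.2 ψ.2
    simp only [classInner, ← Subtype.ext_iff] at h
    rw [← mul_inv_cancel_left₀ D.cardO_ne (∑ u : D.O, (φ : D.O → ℂ) u * conj ((ψ : D.O → ℂ) u)), h]
    push_cast; rfl
  have hR : ∑ u ∈ Finset.univ.filter (fun u => D.sigma u = u), (φ : D.O → ℂ) u * conj ((ψ : D.O → ℂ) u) =
      (((D.p : ℤ) * ∑ μ : IrrCharacter D.A, D.mm φ μ * D.mm ψ μ : ℤ) : ℂ) := by
    have ha : IsClassFunction D.A (fun w : D.A => (φ : D.O → ℂ) (D.incl w)) := fun g h => by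
      rw [D.A_comm h g, mul_inv_cancel_right]
    have h := classInner_eq_sum_irr (b := fun w : D.A => (ψ : D.O → ℂ) (D.incl w)) ha
    have e : ∀ μ : IrrCharacter D.A,
        classInner (μ : D.A → ℂ) (fun w : D.A => (ψ : D.O → ℂ) (D.incl w)) = (D.mm ψ μ : ℂ) := fun μ => by
      rw [← classInner_comm, D.mm_spec, map_intCast]
    simp only [D.mm_spec, e] at h
    rw [classInner, D.card_A, inv_mul_eq_iff_eq_mul₀ (Nat.cast_ne_zero.2 D.hp.ne_zero)] at h
    refine Eq.trans ?_ (h.trans ?_)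
    · symm
      refine Finset.sum_bij (fun w _ => D.incl w) (fun w _ => Finset.mem_filter.2 ⟨Finset.mem_univ _, D.sigma_incl w⟩)
        (fun a _ b _ e => Subgroup.inclusion_injective D.A_le e) (fun u hu => ?_) (fun _ _ => rfl)
      exact ⟨⟨u, (D.sigma_eq_iff u).1 (Finset.mem_filter.1 hu).2⟩, Finset.mem_univ _, rfl⟩
    · push_cast
      congr 1
  rw [hL, hR, modTwo_int] at h1
  obtain ⟨k, hk⟩ := D.hodd
  obtain ⟨l, hl⟩ := D.p_odd
  obtain ⟨j, hj⟩ := h1
  rw [hk, hl] at hj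
  push_cast at hj
  exact ⟨j - k * (if φ = ψ then 1 else 0) + l * ∑ μ : IrrCharacter D.A, D.mm φ μ * D.mm ψ μ, by linear_combination hj⟩

/-- A fixed character is odd at exactly one character of `A`. -/
theorem exists_nu {φ : IrrCharacter D.O} (hφ : D.sConj φ = φ) :
    ∃ μ : IrrCharacter D.A, Odd (D.mm φ μ) ∧ ∀ ν, ν ≠ μ → Even (D.mm φ ν) := by
  classical
  obtain ⟨μ, hμ⟩ : ∃ μ, Odd (D.mm φ μ) := by
    by_contra hc
    push Not at hc
    have h := D.mm_orth hφ hφ
    rw [if_pos rfl] at h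
    have h2 : (2 : ℤ) ∣ ∑ μ : IrrCharacter D.A, D.mm φ μ * D.mm φ μ :=
      Finset.dvd_sum fun μ _ => dvd_mul_of_dvd_left (Int.not_odd_iff_even.1 (hc μ)).two_dvd _
    have := dvd_add h h2
    norm_num at this
  refine ⟨μ, hμ, fun ν hν => ?_⟩
  rw [even_iff_two_dvd]
  refine (Int.prime_two.dvd_mul.1 (D.mm_mul_even hφ hν)).resolve_right fun h => ?_
  exact Int.not_even_iff_odd.2 hμ (even_iff_two_dvd.2 h)

theorem fixed_inj {φ ψ : IrrCharacter D.O} (hφ : D.sConj φ = φ) (hψ : D.sConj ψ = ψ) {μ : IrrCharacter D.A}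
    (h1 : Odd (D.mm φ μ)) (h2 : Odd (D.mm ψ μ)) : φ = ψ := by
  classical
  by_contra hne
  have h := D.mm_orth hφ hψ
  rw [if_neg hne, ← Finset.add_sum_erase Finset.univ _ (Finset.mem_univ μ)] at h
  obtain ⟨μ', -, huniq⟩ := D.exists_nu hφ
  have hμμ : μ = μ' := by
    by_contra e
    exact Int.not_even_iff_odd.2 h1 (huniq μ e)
  have hrest : (2 : ℤ) ∣ ∑ ν ∈ Finset.univ.erase μ, D.mm φ ν * D.mm ψ ν :=
    Finset.dvd_sum fun ν hν => dvd_mul_of_dvd_left (huniq ν (hμμ ▸ (Finset.mem_erase.1 hν).1)).two_dvd _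
  obtain ⟨a, ha⟩ := h1.mul h2
  obtain ⟨b, hb⟩ := h
  obtain ⟨d, hd⟩ := hrest
  omega

/-! ### The coefficients on the section -/

theorem cent_mem_A {a : G} (hp : a ^ D.p = 1) (ht : a * D.t = D.t * a) (hv : a * D.v = D.v * a) : a ∈ D.A := by
  obtain ⟨f, g, u, rfl⟩ := D.exists_sv ht
  have hsv : D.sv f g * D.v = D.v * D.sv f g := by
    cases f <;> cases g <;> simp [sv]
    · exact D.hcomm.symm
    · rw [← mul_assoc D.v, D.hcomm]
  have huv : (u : G) * D.v = D.v * u := by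
    apply mul_left_cancel (a := D.sv f g)
    rw [← mul_assoc, hv, ← mul_assoc (D.sv f g) D.v, hsv, mul_assoc]
  have huA := (D.hcent u u.2).1 huv
  have hfix : D.sigma u = u := (D.sigma_eq_iff u).2 huA
  have hcm : Commute (D.sv f g) (u : G) := by
    have h := D.sv_conj f g u
    rw [show (if g then D.sigma u else u) = u by cases g <;> simp [hfix]] at h
    exact mul_inv_eq_iff_eq_mul.1 h
  have hup : (u : G) ^ D.p = 1 := by
    obtain ⟨k, hk⟩ := Subgroup.mem_zpowers_iff.1 huA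
    rw [← hk, ← zpow_natCast (D.a ^ k), ← zpow_mul, mul_comm, zpow_mul, zpow_natCast,
      ← D.hao, pow_orderOf_eq_one, one_zpow]
  obtain ⟨l, hl⟩ := D.p_odd
  have h1 : D.sv f g ^ D.p = D.sv f g := by
    rw [hl, pow_succ, pow_mul, sq, D.sv_sq, one_pow, one_mul]
  rw [hcm.mul_pow, h1, hup, mul_one] at hp
  rw [hp, one_mul]; exact huA

theorem omega_sec (χ : IrrCharacter G) (w : D.A) :
    ∃ ω : ℂ, ∀ g : D.A, ModTwo (ω * (χ : G → ℂ) (D.t * g)) ((χ : G → ℂ) (D.t * ((w * g : D.A) : G))) := by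
  classical
  obtain ⟨ω, -, hω⟩ := class_sum_mul χ.2 (w : G)
  refine ⟨ω, fun g => ?_⟩
  set g' : G := D.t * g with hg'
  have hclass := isClassFunction_irr χ.2
  have inv : ∀ s : G, s * s = 1 → s * g' = g' * s → ∀ a : G, (χ : G → ℂ) (s * a * s * g') = (χ : G → ℂ) (a * g') := by
    intro s hs hsg a
    rw [mul_assoc (s * a), hsg, ← hclass (a * g') s, inv_eq_of_mul_eq_one_right hs]
    group
  have hwt : (g : G) * D.t = D.t * g := D.hOt _ (D.A_le g.2)
  have htg : D.t * g' = g' * D.t := by rw [hg', mul_assoc D.t (g : G), hwt]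
  have hvg : D.v * g' = g' * D.v := by
    rw [hg', ← mul_assoc, D.hcomm, mul_assoc, ← D.A_comm_v g.2, ← mul_assoc]
  have hfix : ∀ s : G, s * s = 1 → ∀ a : G, s * a * s = a ↔ a * s = s * a := by
    intro s hs a
    constructor
    · intro e
      calc a * s = s * a * s * s := by rw [e]
        _ = s * a := by rw [mul_assoc, hs, mul_one]
    · intro e
      rw [← e, mul_assoc, hs, mul_one]
  have hinv2 : ∀ s : G, s * s = 1 → ∀ a : G, s * (s * a * s) * s = a := by
    intro s hs a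
    calc s * (s * a * s) * s = (s * s) * a * (s * s) := by group
      _ = a := by rw [hs, one_mul, mul_one]
  have hcl : ∀ s : G, s * s = 1 → ∀ a : G, IsConj (w : G) (s * a * s) ↔ IsConj (w : G) a := by
    intro s hs a
    have h : IsConj a (s * a * s) := isConj_iff.mpr ⟨s, by rw [inv_eq_of_mul_eq_one_right hs]⟩
    exact ⟨fun e => e.trans h.symm, fun e => e.trans h⟩
  let r : G → ℂ := fun a => if IsConj (w : G) a then (χ : G → ℂ) (a * g') else 0
  let r' : G → ℂ := fun a => if D.t * a * D.t = a then r a else 0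
  have hint : ∀ a, IsIntegral ℤ (r a) := fun a => by
    simp only [r]; split; exacts [isIntegral_of_char (isCharacter_of_irr χ.2) _, isIntegral_zero]
  have h1 := modTwo_sum_fixed (fun a => D.t * a * D.t) (hinv2 _ D.ht2) r hint
    (fun a => by simp only [r, hcl _ D.ht2, inv _ D.ht2 htg])
  have e1 : ∑ a ∈ Finset.univ.filter (fun a => D.t * a * D.t = a), r a = ∑ a, r' a := Finset.sum_filter _ _
  have hvt : ∀ a, D.t * (D.v * a * D.v) * D.t = D.v * (D.t * a * D.t) * D.v := fun a => by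
    calc D.t * (D.v * a * D.v) * D.t = (D.t * D.v) * a * (D.v * D.t) := by group
      _ = (D.v * D.t) * a * (D.t * D.v) := by rw [D.hcomm]
      _ = _ := by group
  have h2 := modTwo_sum_fixed (fun a => D.v * a * D.v) (hinv2 _ D.hv2) r'
    (fun a => by simp only [r']; split; exacts [hint a, isIntegral_zero])
    (fun a => by
      simp only [r', r, hcl _ D.hv2, inv _ D.hv2 hvg, hvt]
      refine if_congr ⟨fun h => ?_, fun h => by rw [h]⟩ rfl rfl
      have := congrArg (fun b => D.v * b * D.v) h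
      simpa only [hinv2 _ D.hv2] using this)
  have e2 : ∑ a ∈ Finset.univ.filter (fun a => D.v * a * D.v = a), r' a =
      (χ : G → ℂ) (D.t * ((w * g : D.A) : G)) := by
    rw [Finset.sum_eq_single (w : G)]
    · simp only [r', r]
      rw [if_pos ((hfix _ D.ht2 _).2 (D.hOt _ (D.A_le w.2))), if_pos (IsConj.refl _), hg', ← mul_assoc,
        D.hOt _ (D.A_le w.2), mul_assoc]
      rfl
    · intro a ha hne
      simp only [Finset.mem_filter, Finset.mem_univ, true_and] at ha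
      by_contra hc
      simp only [r', r] at hc
      split_ifs at hc with ht hcw <;> try exact hc rfl
      obtain ⟨c, hcc⟩ := isConj_iff.1 hcw
      refine hne ?_
      have hp : a ^ D.p = 1 := by
        rw [← hcc, conj_pow]
        obtain ⟨k, hk⟩ := Subgroup.mem_zpowers_iff.1 w.2
        rw [← hk, ← zpow_natCast (D.a ^ k), ← zpow_mul, mul_comm, zpow_mul, zpow_natCast,
          ← D.hao, pow_orderOf_eq_one, one_zpow, mul_one, mul_inv_cancel]
      have haA := D.cent_mem_A hp ((hfix _ D.ht2 a).1 ht) ((hfix _ D.hv2 a).1 ha)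
      rw [← hcc]
      exact D.conj_A w.2 (hcc ▸ haA)
    · intro h
      refine absurd ?_ h
      simp only [Finset.mem_filter, Finset.mem_univ, true_and]
      exact (hfix _ D.hv2 _).2 (D.A_comm_v w.2)
  have h0 : ω * (χ : G → ℂ) g' = ∑ a, r a := by rw [← hω, Finset.sum_filter]
  rw [h0]
  exact h1.trans (e1 ▸ h2.trans (e2 ▸ ModTwo.refl _))

/-- The coefficient of `χ(t ·)` on `A`. -/
noncomputable def qq (χ : IrrCharacter G) (μ : IrrCharacter D.A) : ℤ :=
  ∑ φ : IrrCharacter D.O, D.c χ φ * D.mm φ μ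

theorem qq_mul_even (χ : IrrCharacter G) {μ ν : IrrCharacter D.A} (hne : μ ≠ ν) :
    (2 : ℤ) ∣ D.qq χ μ * D.qq χ ν := by
  have hval : ∀ μ : IrrCharacter D.A, ∑ w : D.A, (χ : G → ℂ) (D.t * w) * conj ((μ : D.A → ℂ) w) =
      ((D.p * D.qq χ μ : ℤ) : ℂ) := by
    intro μ
    rw [qq, Finset.mul_sum]
    push_cast
    have e : ∀ w : D.A, (χ : G → ℂ) (D.t * w) * conj ((μ : D.A → ℂ) w) =
        ∑ φ : IrrCharacter D.O, (D.c χ φ : ℂ) * ((φ : D.O → ℂ) (D.incl w) * conj ((μ : D.A → ℂ) w)) := fun w => by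
      rw [show (w : G) = ((D.incl w : D.O) : G) from rfl, D.value, Finset.sum_mul]
      exact Finset.sum_congr rfl fun φ _ => mul_assoc _ _ _
    simp only [e]
    rw [Finset.sum_comm]
    refine Finset.sum_congr rfl fun φ _ => ?_
    rw [← Finset.mul_sum, D.sum_A_eq]
    push_cast; ring
  have h := modTwo_coeff_mul D.A_comm (fun w => (χ : G → ℂ) (D.t * w))
    (fun w => isIntegral_of_char (isCharacter_of_irr χ.2) _) (D.omega_sec χ) hne
  simp only [hval, ← Int.cast_mul] at h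
  rw [show (0 : ℂ) = ((0 : ℤ) : ℂ) from Int.cast_zero.symm, modTwo_int, sub_zero] at h
  exact D.two_dvd_mul_of_p h

theorem qq_odd (χ : IrrCharacter G) {φ : IrrCharacter D.O} (hφ : D.sConj φ = φ) {μ : IrrCharacter D.A}
    (hμ : Odd (D.mm φ μ)) (hc : Odd (D.c χ φ)) : Odd (D.qq χ μ) := by
  classical
  have h := modTwo_sum_fixed D.sConj D.sConj_sConj (fun ψ => ((D.c χ ψ * D.mm ψ μ : ℤ) : ℂ))
    (fun ψ => _root_.isIntegral_intCast _) (fun ψ => by rw [D.c_sConj, D.mm_sConj])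
  rw [← Int.cast_sum, ← Int.cast_sum, modTwo_int] at h
  have hmem : φ ∈ Finset.univ.filter (fun ψ => D.sConj ψ = ψ) := Finset.mem_filter.2 ⟨Finset.mem_univ _, hφ⟩
  rw [← Finset.add_sum_erase _ _ hmem] at h
  have hrest : (2 : ℤ) ∣ ∑ ψ ∈ (Finset.univ.filter fun ψ => D.sConj ψ = ψ).erase φ, D.c χ ψ * D.mm ψ μ := by
    refine Finset.dvd_sum fun ψ hψ => dvd_mul_of_dvd_right ?_ _
    obtain ⟨hne, hmem'⟩ := Finset.mem_erase.1 hψ
    refine (Int.not_odd_iff_even.1 fun ho => hne ?_).two_dvd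
    exact D.fixed_inj (Finset.mem_filter.1 hmem').2 hφ ho hμ
  obtain ⟨a, ha⟩ := hc.mul hμ
  obtain ⟨b, hb⟩ := h
  obtain ⟨d, hd⟩ := hrest
  rw [Int.odd_iff, qq]
  omega

/-- At most one fixed character has an odd coefficient. -/
theorem fixed_unique (χ : IrrCharacter G) {φ ψ : IrrCharacter D.O} (hφ : D.sConj φ = φ) (hψ : D.sConj ψ = ψ)
    (h1 : Odd (D.c χ φ)) (h2 : Odd (D.c χ ψ)) : φ = ψ := by
  obtain ⟨μ, hμ, -⟩ := D.exists_nu hφ
  obtain ⟨ν, hν, -⟩ := D.exists_nu hψ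
  by_cases e : μ = ν
  · exact D.fixed_inj hφ hψ hμ (e ▸ hν)
  · exfalso
    exact Int.not_even_iff_odd.2 ((D.qq_odd χ hφ hμ h1).mul (D.qq_odd χ hψ hν h2))
      (even_iff_two_dvd.2 (D.qq_mul_even χ e))

end FourB

end CfsgLib.GW.IIb
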