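import Cfsg.Agent.Lib.Elementary
import Cfsg.Agent.Lib.PGroup.CyclicMax

/-!
The elements of order `p` of the second centre of a `p`-group, `p` odd.
-/

set_option autoImplicit false
set_option linter.unusedSectionVars false

namespace CfsgLib.GW.Omega

open scoped commutatorElement

variable {P : Type*} [Group P] {p : ℕ}

theorem commutator_pow_left {x y : P} (hc : ⁅x, y⁆ ∈ Subgroup.center P) (n : ℕ) : ⁅x ^ n, y⁆ = ⁅x, y⁆ ^ n := by
  induction n with
  | zero => simp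
  | succ n ih =>
    rw [pow_succ' ⁅x, y⁆ n, ← ih, pow_succ' x n, commutatorElement_def, commutatorElement_def,
      commutatorElement_def]
    have h := Subgroup.mem_center_iff.mp (pow_mem hc n) x
    rw [← ih, commutatorElement_def] at h
    calc x * x ^ n * y * (x * x ^ n)⁻¹ * y⁻¹ = x * (x ^ n * y * (x ^ n)⁻¹ * y⁻¹) * (y * x⁻¹ * y⁻¹) := by group
      _ = x ^ n * y * (x ^ n)⁻¹ * y⁻¹ * x * (y * x⁻¹ * y⁻¹) := by rw [h]
      _ = x ^ n * y * (x ^ n)⁻¹ * y⁻¹ * (x * y * x⁻¹ * y⁻¹) := by group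
      _ = x * y * x⁻¹ * y⁻¹ * (x ^ n * y * (x ^ n)⁻¹ * y⁻¹) := (Subgroup.mem_center_iff.mp hc _)

theorem mul_pow_class_two {x y : P} (hc : ⁅y, x⁆ ∈ Subgroup.center P) (n : ℕ) :
    (x * y) ^ n = x ^ n * y ^ n * ⁅y, x⁆ ^ (n * (n - 1) / 2) := by
  have hyx : ∀ k : ℕ, y ^ k * x = x * y ^ k * ⁅y, x⁆ ^ k := by
    intro k
    rw [← commutator_pow_left hc k, commutatorElement_def]
    have h := Subgroup.mem_center_iff.mp (by
      rw [← commutatorElement_def, commutator_pow_left hc k]; exact pow_mem hc k :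
        y ^ k * x * (y ^ k)⁻¹ * x⁻¹ ∈ Subgroup.center P) (x * y ^ k)
    rw [h]
    group
  induction n with
  | zero => simp
  | succ n ih =>
    have hz : ∀ (k : ℕ) (g : P), ⁅y, x⁆ ^ k * g = g * ⁅y, x⁆ ^ k := fun k g =>
      (Subgroup.mem_center_iff.mp (pow_mem hc k) g).symm
    have e : (n + 1) * (n + 1 - 1) / 2 = n + n * (n - 1) / 2 := by
      rcases n with _ | k
      · rfl
      · simp only [Nat.add_sub_cancel]
        have h2 : 2 ∣ (k + 1) * k := by
          rcases Nat.even_or_odd k with h | h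
          · exact dvd_mul_of_dvd_right h.two_dvd _
          · exact dvd_mul_of_dvd_left (by obtain ⟨i, hi⟩ := h; exact ⟨i + 1, by omega⟩) _
        rw [show (k + 1 + 1) * (k + 1) = (k + 1) * k + 2 * (k + 1) by ring,
          Nat.add_mul_div_left _ _ two_pos]
        ring
    rw [pow_succ (x * y) n, ih, e, pow_add ⁅y, x⁆]
    calc x ^ n * y ^ n * ⁅y, x⁆ ^ (n * (n - 1) / 2) * (x * y)
        = x ^ n * y ^ n * (x * y) * ⁅y, x⁆ ^ (n * (n - 1) / 2) := by
          simp only [mul_assoc]; rw [hz]; simp only [mul_assoc]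
      _ = x ^ n * (y ^ n * x) * y * ⁅y, x⁆ ^ (n * (n - 1) / 2) := by simp only [mul_assoc]
      _ = x ^ n * (x * y ^ n * ⁅y, x⁆ ^ n) * y * ⁅y, x⁆ ^ (n * (n - 1) / 2) := by rw [hyx]
      _ = x ^ n * x * (y ^ n * (⁅y, x⁆ ^ n * y)) * ⁅y, x⁆ ^ (n * (n - 1) / 2) := by simp only [mul_assoc]
      _ = x ^ n * x * (y ^ n * (y * ⁅y, x⁆ ^ n)) * ⁅y, x⁆ ^ (n * (n - 1) / 2) := by rw [hz n y]
      _ = x ^ (n + 1) * y ^ (n + 1) * (⁅y, x⁆ ^ n * ⁅y, x⁆ ^ (n * (n - 1) / 2)) := by
          simp only [pow_succ, mul_assoc]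

/-- `{x ∈ Z₂(P) | x ^ p = 1}`. -/
def omegaTwo (P : Type*) [Group P] (p : ℕ) [Fact p.Prime] (hp2 : p ≠ 2) : Subgroup P where
  carrier := {x | x ^ p = 1 ∧ ∀ y, ⁅x, y⁆ ∈ Subgroup.center P}
  one_mem' := ⟨one_pow p, fun y => by simp⟩
  mul_mem' := by
    rintro a b ⟨ha, ha'⟩ ⟨hb, hb'⟩
    refine ⟨?_, fun y => ?_⟩
    · obtain ⟨j, hj⟩ := (Fact.out : p.Prime).odd_of_ne_two hp2
      have hc : ⁅b, a⁆ ^ p = 1 := by rw [← commutator_pow_left (hb' a), hb, commutatorElement_one_left]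
      have hd : p * (p - 1) / 2 = p * j := by
        rw [show p - 1 = 2 * j by omega, Nat.mul_div_assoc _ (dvd_mul_right 2 j),
          Nat.mul_div_cancel_left _ two_pos]
      rw [mul_pow_class_two (hb' a), ha, hb, one_mul, one_mul, hd, pow_mul, hc, one_pow]
    · have e : ⁅a * b, y⁆ = a * ⁅b, y⁆ * a⁻¹ * ⁅a, y⁆ := by simp [commutatorElement_def, mul_assoc]
      rw [e, Subgroup.mem_center_iff.mp (hb' y) a, mul_inv_cancel_right]
      exact mul_mem (hb' y) (ha' y)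
  inv_mem' := by
    rintro a ⟨ha, ha'⟩
    refine ⟨by rw [inv_pow, ha, inv_one], fun y => ?_⟩
    have e : ⁅a⁻¹, y⁆ = a⁻¹ * (⁅a, y⁆)⁻¹ * a := by simp [commutatorElement_def, mul_assoc]
    rw [e, Subgroup.mem_center_iff.mp (inv_mem (ha' y)) a⁻¹, inv_mul_cancel_right]
    exact inv_mem (ha' y)

variable [Fact p.Prime]

theorem mem_omegaTwo {hp2 : p ≠ 2} {x : P} :
    x ∈ omegaTwo P p hp2 ↔ x ^ p = 1 ∧ ∀ y, ⁅x, y⁆ ∈ Subgroup.center P := Iff.rfl

theorem map_mem {hp2 : p ≠ 2} (e : P ≃* P) {x : P} (hx : x ∈ omegaTwo P p hp2) : e x ∈ omegaTwo P p hp2 := by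
  refine ⟨by rw [← map_pow, hx.1, map_one], fun y => Subgroup.mem_center_iff.mpr fun g => ?_⟩
  obtain ⟨y, rfl⟩ := e.surjective y
  obtain ⟨g, rfl⟩ := e.surjective g
  have h := congrArg e (Subgroup.mem_center_iff.mp (hx.2 y) g)
  rwa [map_mul, map_mul, show e ⁅x, y⁆ = ⁅e x, e y⁆ from map_commutatorElement e.toMonoidHom x y] at h

/-- A non-abelian `p`-group with cyclic centre has a non-central element in `omegaTwo`. -/
theorem exists_noncentral [Finite P] (hP : IsPGroup p P) (hp2 : p ≠ 2) [IsCyclic (Subgroup.center P)]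
    (hna : ¬ ∀ a b : P, a * b = b * a) : ∃ x ∈ omegaTwo P p hp2, x ∉ Subgroup.center P := by
  have hncyc : ¬ IsCyclic (⊤ : Subgroup P) := fun h => hna fun a b => by
    haveI := h
    haveI : IsCyclic P := isCyclic_of_surjective (Subgroup.topEquiv (G := P)).toMonoidHom
      (Subgroup.topEquiv (G := P)).surjective
    exact IsCyclic.isMulCommutative.is_comm.comm a b
  obtain ⟨U, -, hUn, hU, hUc⟩ := CfsgLib.CyclicMax.exists_normal_sq hP hp2 (⊤ : Subgroup P) hncyc
  haveI := hUn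
  have hp : p.Prime := Fact.out
  have hnle : ¬ U ≤ Subgroup.center P := fun hle => by
    haveI : IsCyclic U := isCyclic_of_injective (Subgroup.inclusion hle) (Subgroup.inclusion_injective hle)
    have hexp := IsCyclic.exponent_eq_card (α := U)
    have hle' : Monoid.exponent U ∣ p :=
      Monoid.exponent_dvd_of_forall_pow_eq_one fun x => Subtype.ext (hU.2 x x.2)
    rw [hexp, hUc] at hle'
    have := Nat.le_of_dvd hp.pos hle'
    nlinarith [hp.two_le]
  obtain ⟨x, hx, hxZ⟩ := SetLike.not_le_iff_exists.mp hnle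
  refine ⟨x, ⟨hU.2 x hx, fun y => ?_⟩, hxZ⟩
  haveI := hP.isNilpotent
  set Z₀ := U ⊓ Subgroup.center P with hZ₀
  have hZne : Z₀ ≠ ⊥ := CfsgLib.inf_center_ne_bot_of_nilpotent (fun e => by
    rw [e, Subgroup.card_bot] at hUc; nlinarith [hp.two_le])
  haveI : Z₀.Normal := by infer_instance
  have hcardZ : Nat.card Z₀ = p := by
    have hlt : Nat.card Z₀ < Nat.card U := by
      refine lt_of_le_of_ne (Subgroup.card_le_of_le inf_le_left) fun e => hnle ?_
      have := Subgroup.eq_of_le_of_card_ge (inf_le_left : Z₀ ≤ U) e.ge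
      exact this ▸ inf_le_right
    have hd : Nat.card Z₀ ∣ p ^ 2 := hUc ▸ Subgroup.card_dvd_of_le inf_le_left
    obtain ⟨i, hi, hi'⟩ := (Nat.dvd_prime_pow hp).mp hd
    rw [hi', hUc] at hlt
    have h1 : i ≠ 0 := fun h => hZne (Subgroup.eq_bot_of_card_eq _ (by rw [hi', h, pow_zero]))
    have h2 : i < 2 := (Nat.pow_lt_pow_iff_right hp.one_lt).mp hlt
    rw [hi', show i = 1 by omega, pow_one]
  set f := QuotientGroup.mk' Z₀
  haveI : (U.map f).Normal := hUn.map f (QuotientGroup.mk'_surjective _)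
  haveI : Group.IsNilpotent (P ⧸ Z₀) := (hP.to_quotient Z₀).isNilpotent
  have hUm : Nat.card (U.map f) = p := by
    have h1 := Subgroup.card_eq_card_quotient_mul_card_subgroup ((f.comp U.subtype).ker)
    rw [Nat.card_congr (QuotientGroup.quotientKerEquivRange _).toEquiv, MonoidHom.range_comp,
      Subgroup.range_subtype, hUc] at h1
    have hk : (f.comp U.subtype).ker = Z₀.subgroupOf U := by
      ext z; simp [MonoidHom.mem_ker, f, Subgroup.mem_subgroupOf]
    rw [hk, Nat.card_congr (Subgroup.subgroupOfEquivOfLe (inf_le_left : Z₀ ≤ U)).toEquiv, hcardZ, sq] at h1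
    exact (Nat.eq_of_mul_eq_mul_right hp.pos h1).symm
  have hle : U.map f ≤ Subgroup.center (P ⧸ Z₀) := by
    have hne : U.map f ⊓ Subgroup.center (P ⧸ Z₀) ≠ ⊥ := CfsgLib.inf_center_ne_bot_of_nilpotent (fun e => by
      rw [e, Subgroup.card_bot] at hUm; exact hp.ne_one hUm.symm)
    have hd := Subgroup.card_dvd_of_le (inf_le_left : U.map f ⊓ Subgroup.center (P ⧸ Z₀) ≤ U.map f)
    rw [hUm] at hd
    rcases (Nat.dvd_prime hp).mp hd with h | h
    · exact absurd (Subgroup.eq_bot_of_card_eq _ h) hne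
    · rw [← inf_eq_left]
      exact Subgroup.eq_of_le_of_card_ge inf_le_left (by rw [h, hUm])
  have h1 : f ⁅x, y⁆ = 1 := by
    rw [map_commutatorElement, commutatorElement_eq_one_iff_mul_comm]
    exact (Subgroup.mem_center_iff.mp (hle ⟨x, hx, rfl⟩) (f y)).symm
  exact ((QuotientGroup.eq_one_iff _).mp h1).2

end CfsgLib.GW.Omega
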