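import Cfsg.Agent.Lib.GW.IIb.LocalSplit
import Cfsg.Agent.Lib.GW.IIb.LocalOmega

/-!
(IIb) step 5, (U5): facts for a non-abelian `P = O_p(C)` and the scalar case.
-/

set_option autoImplicit false
set_option linter.unusedSectionVars false

namespace CfsgLib.GW

open Cfsg
open CfsgLib.BenderMax (OO)

universe u

variable {G : Type u} [Group G] [Finite G]

/-- `u ∈ Ω₁(Z₂(P))`, `P` a subgroup of `G`. -/
def InOmega (P : Subgroup G) (p : ℕ) (u : G) : Prop :=
  u ∈ P ∧ u ^ p = 1 ∧ ∀ y ∈ P, ∀ z ∈ P, (u * y * u⁻¹ * y⁻¹) * z = z * (u * y * u⁻¹ * y⁻¹)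

theorem inOmega_iff {P : Subgroup G} {p : ℕ} [Fact p.Prime] (hp2 : p ≠ 2) {u : G} :
    InOmega P p u ↔ ∃ h : u ∈ P, (⟨u, h⟩ : P) ∈ Omega.omegaTwo P p hp2 := by
  constructor
  · rintro ⟨h, h1, h2⟩
    refine ⟨h, Omega.mem_omegaTwo.mpr ⟨Subtype.ext h1, fun y => Subgroup.mem_center_iff.mpr fun z => Subtype.ext ?_⟩⟩
    simp only [commutatorElement_def, Subgroup.coe_mul, Subgroup.coe_inv]
    exact (h2 y y.2 z z.2).symm
  · rintro ⟨h, h1⟩
    obtain ⟨h1, h2⟩ := Omega.mem_omegaTwo.mp h1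
    refine ⟨h, congrArg Subtype.val h1, fun y hy z hz => ?_⟩
    have := congrArg Subtype.val (Subgroup.mem_center_iff.mp (h2 ⟨y, hy⟩) ⟨z, hz⟩)
    simp only [commutatorElement_def, Subgroup.coe_mul, Subgroup.coe_inv] at this
    exact this.symm

theorem InOmega.mul {P : Subgroup G} {p : ℕ} [Fact p.Prime] (hp2 : p ≠ 2) {a b : G} (ha : InOmega P p a)
    (hb : InOmega P p b) : InOmega P p (a * b) := by
  obtain ⟨h1, h1'⟩ := (inOmega_iff hp2).mp ha
  obtain ⟨h2, h2'⟩ := (inOmega_iff hp2).mp hb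
  exact (inOmega_iff hp2).mpr ⟨mul_mem h1 h2, mul_mem h1' h2'⟩

theorem InOmega.inv {P : Subgroup G} {p : ℕ} [Fact p.Prime] (hp2 : p ≠ 2) {a : G} (ha : InOmega P p a) :
    InOmega P p a⁻¹ := by
  obtain ⟨h1, h1'⟩ := (inOmega_iff hp2).mp ha
  exact (inOmega_iff hp2).mpr ⟨inv_mem h1, inv_mem h1'⟩

omit [Finite G] in
theorem InOmega.conj {P : Subgroup G} {p : ℕ} {g u : G} (hg : ∀ x ∈ P, g * x * g⁻¹ ∈ P)
    (hg' : ∀ x ∈ P, g⁻¹ * x * g ∈ P) (hu : InOmega P p u) : InOmega P p (g * u * g⁻¹) := by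
  obtain ⟨h, h1, h2⟩ := hu
  refine ⟨hg u h, by rw [conj_pow, h1]; group, fun y hy z hz => ?_⟩
  have e := h2 (g⁻¹ * y * g) (hg' y hy) (g⁻¹ * z * g) (hg' z hz)
  calc g * u * g⁻¹ * y * (g * u * g⁻¹)⁻¹ * y⁻¹ * z =
      g * (u * (g⁻¹ * y * g) * u⁻¹ * (g⁻¹ * y * g)⁻¹ * (g⁻¹ * z * g)) * g⁻¹ := by group
    _ = g * (g⁻¹ * z * g * (u * (g⁻¹ * y * g) * u⁻¹ * (g⁻¹ * y * g)⁻¹)) * g⁻¹ := by rw [e]
    _ = _ := by group

namespace IIb

variable {S : Sylow 2 G} {t v : G} {p : ℕ} (c : IIb S t v p)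

include c

theorem conj_Omega {g u : G} (hg : g ∈ centI t) (hu : InOmega (OO p (centI t)) p u) :
    InOmega (OO p (centI t)) p (g * u * g⁻¹) :=
  hu.conj (fun _ hx => BenderMax.conj_OO hg hx) fun x hx => by
    simpa using BenderMax.conj_OO (inv_mem hg) hx

/-- An involution of `C` inverts `Ω₁(Z₂(P))` if it fixes no non-trivial element of it. -/
theorem Omega_inverted {w : G} (hw : w ∈ centI t) (hw2 : w * w = 1)
    (hfix : ∀ u, InOmega (OO p (centI t)) p u → u * w = w * u → u = 1) :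
    ∀ u, InOmega (OO p (centI t)) p u → w * u * w⁻¹ = u⁻¹ := by
  haveI := Fact.mk c.hp
  intro u hu
  let U : Subgroup G :=
    { carrier := {x | InOmega (OO p (centI t)) p x}
      one_mem' := ⟨one_mem _, one_pow p, fun y _ z _ => by simp⟩
      mul_mem' := fun ha hb => InOmega.mul c.hp2 ha hb
      inv_mem' := fun ha => InOmega.inv c.hp2 ha }
  refine inverts_of_inf_centI (U := U) hw2 (fun x hx => c.conj_Omega hw hx) ?_ u hu
  rw [eq_bot_iff]
  rintro x ⟨hx1, hx2⟩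
  exact Subgroup.mem_bot.mpr (hfix x hx1 (Subgroup.mem_centralizer_singleton_iff.mp hx2))

end IIb

namespace Main

variable {S : Sylow 2 G} {t v : G} {p : ℕ} {H L : Subgroup G} (m : Main S t v p H L)

include m

theorem exists_A_ne : ∃ a ∈ fixA t v p, a ≠ 1 :=
  (Subgroup.bot_or_exists_ne_one (fixA t v p)).resolve_left m.conf.fixA_ne

theorem P_not_comm_of_not_le (hPH : ¬ OO p (centI t) ≤ H) :
    ¬ ∀ a ∈ OO p (centI t), ∀ b ∈ OO p (centI t), a * b = b * a := by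
  intro h
  obtain ⟨a, ha, ha1⟩ := m.exists_A_ne
  exact hPH fun x hx => m.centralizer_le ha ha1
    (Subgroup.mem_centralizer_singleton_iff.mpr (h x hx a (mem_fixA.mp ha).1))

theorem P_comm_of_le (hPH : OO p (centI t) ≤ H) :
    ∀ a ∈ OO p (centI t), ∀ b ∈ OO p (centI t), a * b = b * a :=
  fun a ha b hb => m.PH_comm a ⟨ha, hPH ha⟩ b ⟨hb, hPH hb⟩

variable (hPH : ¬ OO p (centI t) ≤ H)

include hPH

theorem fixA_eq_bot {r : ℕ} (hr : r.Prime) (hr2 : r ≠ 2) (hrp : r ≠ p) : fixA t v r = ⊥ := by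
  by_contra h
  exact hPH (m.P_le_of_mixed hr hr2 hrp h)

/-- For `r ≠ p` all of `O_r(C)` is inverted by `v` and lies in `L`. -/
theorem core_eq_Qr {r : ℕ} (hr : r.Prime) (hr2 : r ≠ 2) (hrp : r ≠ p) {x : G} (hx : x ∈ OO r (centI t)) :
    x ∈ m.Qr r := by
  obtain ⟨a, ha, haL, z, hz, rfl⟩ := m.split hr hr2 (x := x) ⟨hx, m.over'.core_le m.conf hr hrp hx⟩
  have h1 : a ∈ fixA t v r := mem_fixA.mpr ⟨ha.1, (m.cent_iff hr hr2 ha).mp haL⟩
  rw [m.fixA_eq_bot hPH hr hr2 hrp, Subgroup.mem_bot] at h1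
  rwa [h1, one_mul]

/-- The centre of `P` lies in `Q_p`. -/
theorem center_le {z : G} (hz : z ∈ OO p (centI t)) (hzc : ∀ u ∈ OO p (centI t), u * z = z * u) :
    z ∈ m.Qr p := by
  have c := m.conf
  obtain ⟨a₁, ha₁, ha₁1⟩ := m.exists_A_ne
  have hzH : z ∈ H := (m.mem_PH_iff ha₁ ha₁1 hz).mpr (hzc a₁ (mem_fixA.mp ha₁).1).symm
  obtain ⟨a, ha, haL, q, hq, rfl⟩ := m.split c.hp c.hp2 (x := z) ⟨hz, hzH⟩
  have haA : a ∈ fixA t v p := m.A_eq.mpr ⟨ha, haL⟩
  obtain ⟨hqL, hqv⟩ := (m.mem_Qr c.hp c.hp2).mp hq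
  have haq : a * q = q * a := (Subgroup.mem_centralizer_iff.mp haL q hqL.2).symm
  have hav : v * a * v⁻¹ = a := conj_eq_of_comm (mem_fixA.mp haA).2.symm
  -- `z (v z v⁻¹) = a²` is central in `P`
  have e : a * q * (v * (a * q) * v⁻¹) = a * a := by
    calc a * q * (v * (a * q) * v⁻¹) = a * q * (v * a * v⁻¹ * (v * q * v⁻¹)) := by group
      _ = q * a * (a * q⁻¹) := by rw [hav, hqv, haq]
      _ = q * (a * a) * q⁻¹ := by group
      _ = a * a := by
        have h : Commute q (a * a) := (Commute.mul_right haq.symm haq.symm)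
        rw [h.eq, mul_inv_cancel_right]
  have hcen : ∀ u ∈ OO p (centI t), u * (a * a) = a * a * u := fun u hu => by
    rw [← e]
    have h1 : Commute u (a * q) := hzc u hu
    have h2 : Commute u (v * (a * q) * v⁻¹) := by
      have hu' : v⁻¹ * u * v ∈ OO p (centI t) := by simpa using BenderMax.conj_OO (inv_mem c.v_mem) hu
      have := hzc _ hu'
      show u * (v * (a * q) * v⁻¹) = v * (a * q) * v⁻¹ * u
      calc u * (v * (a * q) * v⁻¹) = v * (v⁻¹ * u * v * (a * q)) * v⁻¹ := by group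
        _ = v * (a * q * (v⁻¹ * u * v)) * v⁻¹ := by rw [this]
        _ = _ := by group
    exact (h1.mul_right h2).eq
  have ha2 : a * a = 1 := by
    by_contra h
    exact hPH fun u hu => m.centralizer_le (mul_mem haA haA) h
      (Subgroup.mem_centralizer_singleton_iff.mpr (hcen u hu))
  rw [eq_one_of_inv_eq c.hp c.hp2 (BenderMax.OO_isPGroup p (centI t)) ha.1 ha2, one_mul]
  exact hq

theorem center_cyclic : IsCyclic (Subgroup.center (OO p (centI t))) := by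
  haveI := m.Qr_cyclic m.conf.hp m.conf.hp2
  let g : Subgroup.center (OO p (centI t)) →* m.Qr p :=
    ((OO p (centI t)).subtype.comp (Subgroup.center (OO p (centI t))).subtype).codRestrict _ fun x =>
      m.center_le hPH x.1.2 fun u hu => congrArg Subtype.val (Subgroup.mem_center_iff.mp x.2 ⟨u, hu⟩)
  exact isCyclic_of_injective g fun x y e => Subtype.ext (Subtype.ext (congrArg Subtype.val e :))

theorem exists_noncentral :
    ∃ u, InOmega (OO p (centI t)) p u ∧ ¬ ∀ y ∈ OO p (centI t), y * u = u * y := by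
  haveI := Fact.mk m.conf.hp
  haveI := m.center_cyclic hPH
  obtain ⟨x, hx, hxZ⟩ := Omega.exists_noncentral (BenderMax.OO_isPGroup p (centI t)) m.conf.hp2 fun h =>
    m.P_not_comm_of_not_le hPH fun a ha b hb => congrArg Subtype.val (h ⟨a, ha⟩ ⟨b, hb⟩)
  exact ⟨x, (inOmega_iff m.conf.hp2).mpr ⟨x.2, hx⟩,
    fun h => hxZ (Subgroup.mem_center_iff.mpr fun y => Subtype.ext (h y y.2))⟩

theorem exists_central_order : ∃ z ∈ m.Qr p, orderOf z = p ∧ ∀ y ∈ OO p (centI t), y * z = z * y := by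
  haveI := Fact.mk m.conf.hp
  have hP := BenderMax.OO_isPGroup p (centI t)
  haveI : Nontrivial (OO p (centI t)) := by
    obtain ⟨x, hx, hx1, -⟩ := m.conf.exists_fixed
    exact ⟨⟨⟨x, hx⟩, 1, fun e => hx1 (congrArg Subtype.val e)⟩⟩
  haveI := hP.center_nontrivial
  obtain ⟨k, hk0, hk⟩ := (hP.to_subgroup (Subgroup.center (OO p (centI t)))).nontrivial_iff_card.mp inferInstance
  obtain ⟨z, hz⟩ := exists_prime_orderOf_dvd_card' (G := Subgroup.center (OO p (centI t))) p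
    (by rw [hk]; exact dvd_pow_self p (by omega))
  rw [← Subgroup.orderOf_coe, ← Subgroup.orderOf_coe] at hz
  have hcen : ∀ y ∈ OO p (centI t), y * (z : G) = z * y := fun y hy =>
    congrArg Subtype.val (Subgroup.mem_center_iff.mp z.2 ⟨y, hy⟩)
  exact ⟨z, m.center_le hPH z.1.2 hcen, hz, hcen⟩

/-- Elements of `Q_p` of order dividing `p` are central in `P`. -/
theorem Qr_mem_zpowers {z : G} (hz : z ∈ m.Qr p) (hzo : orderOf z = p) {x : G} (hx : x ∈ m.Qr p)
    (hxp : x ^ p = 1) : x ∈ Subgroup.zpowers z := by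
  haveI := Fact.mk m.conf.hp
  haveI := m.Qr_cyclic m.conf.hp m.conf.hp2
  classical
  haveI := Fintype.ofFinite (m.Qr p)
  have hsub : (⟨x, hx⟩ : m.Qr p) ∈ Subgroup.zpowers (⟨z, hz⟩ : m.Qr p) := by
    by_contra hn
    have h := IsCyclic.card_pow_eq_one_le (α := m.Qr p) (n := p) m.conf.hp.pos
    have hss : insert (⟨x, hx⟩ : m.Qr p) (Finset.univ.filter (· ∈ Subgroup.zpowers (⟨z, hz⟩ : m.Qr p))) ⊆
        Finset.univ.filter (fun a : m.Qr p => a ^ p = 1) := by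
      intro a ha
      rw [Finset.mem_insert, Finset.mem_filter] at ha
      refine Finset.mem_filter.mpr ⟨Finset.mem_univ a, ?_⟩
      rcases ha with rfl | ⟨-, ha⟩
      · exact Subtype.ext hxp
      · obtain ⟨i, rfl⟩ := Subgroup.mem_zpowers_iff.mp ha
        have e : (⟨z, hz⟩ : m.Qr p) ^ (p : ℕ) = 1 := Subtype.ext (by
          show z ^ p = 1
          rw [← hzo, pow_orderOf_eq_one])
        rw [← zpow_natCast, ← zpow_mul, mul_comm, zpow_mul, zpow_natCast, e, one_zpow]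
    have h2 := (Finset.card_le_card hss).trans h
    rw [Finset.card_insert_of_notMem (by simp [hn]), ← Fintype.card_subtype] at h2
    have h3 : Fintype.card {a : m.Qr p // a ∈ Subgroup.zpowers (⟨z, hz⟩ : m.Qr p)} = p := by
      rw [← Nat.card_eq_fintype_card]
      exact (Nat.card_zpowers _).trans ((Subgroup.orderOf_mk z hz).trans hzo)
    omega
  obtain ⟨i, hi⟩ := Subgroup.mem_zpowers_iff.mp hsub
  exact ⟨i, by simpa using congrArg Subtype.val hi⟩

theorem Qr_pow_central {x : G} (hx : x ∈ m.Qr p) (hxp : x ^ p = 1) :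
    ∀ y ∈ OO p (centI t), y * x = x * y := by
  obtain ⟨z, hz, hzo, hzc⟩ := m.exists_central_order hPH
  obtain ⟨i, rfl⟩ := m.Qr_mem_zpowers hPH hz hzo hx hxp
  intro y hy
  exact (Commute.zpow_right (hzc y hy : Commute y z) i).eq

end Main

end CfsgLib.GW
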