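import Cfsg.Agent.Lib.GW.IIb.LocalChoice
import Cfsg.Agent.Lib.GW.LCharS
import Cfsg.Agent.Lib.GW.CoreFix

/-!
(IIb) step 5, (U5): `v` can be chosen with a fixed point in `Ω₁(Z₂(P))`.
-/

set_option autoImplicit false
set_option linter.unusedSectionVars false

namespace CfsgLib.GW

open Cfsg DihedralGroup
open CfsgLib.DihedralFusion
open CfsgLib.BenderMax (OO)

universe u

variable {G : Type u} [Group G] [Finite G]

namespace IIb

variable {S : Sylow 2 G} {t v : G} {p : ℕ} (c : IIb S t v p)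

include c

theorem OO_le_coreC {r : ℕ} (hr : r.Prime) (hr2 : r ≠ 2) : OO r (centI t) ≤ coreC t := fun x hx => by
  haveI := Fact.mk hr
  obtain ⟨k, hk⟩ := IsPGroup.iff_orderOf.1 (BenderMax.OO_isPGroup r (centI t)) ⟨x, hx⟩
  rw [Subgroup.orderOf_mk] at hk
  exact (mem_coreC c.hyp.dihedral c.ht).mpr ⟨c.comm_t_core hx, hk ▸ (hr.odd_of_ne_two hr2).pow⟩

/-- An element of odd-order core centralising the odd cores of `C` lies in `F`. -/
theorem comm_core_of_comm_fitting {s : G} (hs : s ∈ centI t) (hs2 : ∃ k : ℕ, s ^ 2 ^ k = 1)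
    (hF : ∀ r : ℕ, r.Prime → r ≠ 2 → ∀ x ∈ OO r (centI t), x * s = s * x) :
    ∀ x ∈ coreC t, x * s = s * x :=
  core_comm_of_two_element hs hs2 hF

theorem rot_eq {s : G} (hs : s ∈ (S : Subgroup G)) (hso : orderOf s ≠ 2) :
    ∃ w₁ w₂ : G, w₁ ∈ (S : Subgroup G) ∧ w₂ ∈ (S : Subgroup G) ∧ orderOf w₁ = 2 ∧ orderOf w₂ = 2 ∧ s = w₁ * w₂ := by
  obtain ⟨n, hn, ⟨eS⟩⟩ := c.hyp.dihedral.shape S
  haveI : NeZero n := ⟨by omega⟩
  have ho : ∀ j : ZMod n, orderOf (pt eS (sr j)) = 2 := fun j =>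
    orderOf_pt eS (fun e => by rw [one_def] at e; cases e) (sr_mul_self j)
  rcases hi : eS ⟨s, hs⟩ with i | i
  · refine ⟨pt eS (sr 0), pt eS (sr i), (eS.symm (sr 0)).2, (eS.symm (sr i)).2, ho 0, ho i, ?_⟩
    rw [← pt_mul, sr_mul_sr, sub_zero, ← hi, pt_eq]
  · exfalso
    exact hso (by rw [← pt_eq eS hs, hi]; exact ho i)

/-- `s` acts on `Ω₁(Z₂(P))` as `1` or as `-1`. -/
def Scalar (_c : IIb S t v p) (s : G) : Prop :=
  (∀ u, InOmega (OO p (centI t)) p u → s * u * s⁻¹ = u) ∨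
    ∀ u, InOmega (OO p (centI t)) p u → s * u * s⁻¹ = u⁻¹

theorem Scalar.mul {a b : G} (ha : c.Scalar a) (hb : c.Scalar b) : c.Scalar (a * b) := by
  have e : ∀ u, a * b * u * (a * b)⁻¹ = a * (b * u * b⁻¹) * a⁻¹ := fun u => by group
  have einv : ∀ u, a * u⁻¹ * a⁻¹ = (a * u * a⁻¹)⁻¹ := fun u => by group
  rcases ha with ha | ha <;> rcases hb with hb | hb
  · exact Or.inl fun u hu => by rw [e, hb u hu, ha u hu]
  · exact Or.inr fun u hu => by rw [e, hb u hu, einv, ha u hu]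
  · exact Or.inr fun u hu => by rw [e, hb u hu, ha u hu]
  · exact Or.inl fun u hu => by rw [e, hb u hu, einv, ha u hu, inv_inv]

end IIb

namespace Main

variable {S : Sylow 2 G} {t v : G} {p : ℕ} {H L : Subgroup G} (m : Main S t v p H L)

include m

/-- The scalar case is impossible. -/
theorem scalar_false (E : ExtraFacts S t H L) (hPH : ¬ OO p (centI t) ≤ H)
    (hsc : ∀ w ∈ (S : Subgroup G), orderOf w = 2 → m.conf.Scalar w)
    (hvinv : ∀ u, InOmega (OO p (centI t)) p u → v * u * v⁻¹ = u⁻¹) : False := by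
  classical
  have c := m.conf
  haveI : Fact (Nat.Prime 2) := ⟨Nat.prime_two⟩
  haveI := Fact.mk c.hp
  set K := ⁅coreC t, (S : Subgroup G)⁆ with hKdef
  have hscS : ∀ s ∈ (S : Subgroup G), c.Scalar s := fun s hs => by
    by_cases ho : orderOf s = 2
    · exact hsc s hs ho
    · obtain ⟨w₁, w₂, h1, h2, o1, o2, rfl⟩ := c.rot_eq hs ho
      exact IIb.Scalar.mul c (hsc w₁ h1 o1) (hsc w₂ h2 o2)
  have hcoreC : ∀ x ∈ coreC t, x ∈ centI t := fun x hx =>
    Subgroup.mem_centralizer_singleton_iff.mpr ((mem_coreC c.hyp.dihedral c.ht).mp hx).1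
  -- `K` centralises `Ω₁(Z₂(P))`
  have hKcent : ∀ k ∈ K, ∀ u, InOmega (OO p (centI t)) p u → k * u = u * k := by
    intro k hk u hu
    have hle : K ≤ Subgroup.centralizer {u | InOmega (OO p (centI t)) p u} := by
      rw [hKdef, Subgroup.commutator_le]
      intro x hx s hs
      refine Subgroup.mem_centralizer_iff.mpr fun u hu => ?_
      refine (comm_of_conj_eq ?_).symm
      rw [commutatorElement_def]
      have hxC := hcoreC x hx
      have hu1 : InOmega (OO p (centI t)) p (x⁻¹ * u * x) := by simpa using c.conj_Omega (inv_mem hxC) hu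
      have hs' := hscS s⁻¹ (inv_mem hs)
      have key : ∀ w, InOmega (OO p (centI t)) p w →
          s * (x⁻¹ * (s⁻¹ * w * s) * x) * s⁻¹ = x⁻¹ * w * x := by
        intro w hw
        have hw' : InOmega (OO p (centI t)) p (x⁻¹ * w * x) := by simpa using c.conj_Omega (inv_mem hxC) hw
        rcases hscS s hs with h | h
        · have e : s⁻¹ * w * s = w := by
            calc s⁻¹ * w * s = s⁻¹ * (s * w * s⁻¹) * s := by rw [h w hw]
              _ = w := by group
          rw [e, h _ hw']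
        · have e : s⁻¹ * w * s = w⁻¹ := by
            calc s⁻¹ * w * s = s⁻¹ * (s * w⁻¹ * s⁻¹) * s := by
                  rw [h _ (InOmega.inv c.hp2 hw), inv_inv]
              _ = w⁻¹ := by group
          rw [e, show x⁻¹ * w⁻¹ * x = (x⁻¹ * w * x)⁻¹ by group, h _ (InOmega.inv c.hp2 hw'), inv_inv]
      calc x * s * x⁻¹ * s⁻¹ * u * (x * s * x⁻¹ * s⁻¹)⁻¹
          = x * (s * (x⁻¹ * (s⁻¹ * u * s) * x) * s⁻¹) * x⁻¹ := by group
        _ = u := by rw [key u hu]; group
    exact (Subgroup.mem_centralizer_iff.mp (hle hk) u hu).symm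
  -- `A ∩ K = 1`
  have hAK : ∀ a ∈ fixA t v p, a ∈ K → a = 1 := by
    intro a ha haK
    by_contra ha1
    obtain ⟨u, hu, hnc⟩ := m.exists_noncentral hPH
    have huH : u ∈ H := m.centralizer_le ha ha1
      (Subgroup.mem_centralizer_singleton_iff.mpr (hKcent a haK u hu).symm)
    obtain ⟨b, hb, hbL, z, hz, rfl⟩ := m.split c.hp c.hp2 (x := u) ⟨hu.1, huH⟩
    have hbA : b ∈ fixA t v p := m.A_eq.mpr ⟨hb, hbL⟩
    obtain ⟨hzL, hzv⟩ := (m.mem_Qr c.hp c.hp2).mp hz
    have hbz : b * z = z * b := (Subgroup.mem_centralizer_iff.mp hbL z hzL.2).symm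
    have hb2 : b * b = 1 := by
      have h1 := hvinv _ hu
      rw [show v * (b * z) * v⁻¹ = v * b * v⁻¹ * (v * z * v⁻¹) by group,
        conj_eq_of_comm (mem_fixA.mp hbA).2.symm, hzv, mul_inv_rev] at h1
      have h3 : b * z⁻¹ = z⁻¹ * b := (Commute.inv_right (hbz : Commute b z)).eq
      rw [h3] at h1
      have h4 := mul_left_cancel h1
      calc b * b = b⁻¹ * b := by nth_rewrite 1 [h4]; rfl
        _ = 1 := inv_mul_cancel b
    have hb1 := eq_one_of_inv_eq c.hp c.hp2 (BenderMax.OO_isPGroup p (centI t)) hb.1 hb2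
    subst hb1
    rw [one_mul] at hu hnc
    exact hnc (m.Qr_pow_central hPH hz hu.2.1)
  -- every element of `A` centralises `S`
  have hSP : (S : Subgroup G) ≤ Subgroup.normalizer (OO p (centI t) : Set G) := fun s hs =>
    Subgroup.mem_normalizer_fintype fun x hx => BenderMax.conj_OO (c.S_le hs) hx
  have hcop : (Nat.card (S : Subgroup G)).Coprime (Nat.card (OO p (centI t))) := by
    obtain ⟨i, hi⟩ := IsPGroup.iff_card.mp S.isPGroup'
    obtain ⟨j, hj⟩ := IsPGroup.iff_card.mp (BenderMax.OO_isPGroup p (centI t))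
    rw [show Nat.card (S : Subgroup G) = 2 ^ i from hi, hj]
    exact Nat.Coprime.pow i j ((Nat.coprime_primes Nat.prime_two c.hp).mpr (Ne.symm c.hp2))
  have hAS : ∀ a ∈ fixA t v p, ∀ s ∈ (S : Subgroup G), a * s = s * a := by
    intro a ha s hs
    obtain ⟨x, hx, d, hd, rfl⟩ := CfsgLib.coprime_decomp hSP hcop
      (Or.inr (BenderMax.isSolvable_of_isPGroup (BenderMax.OO_isPGroup p (centI t)))) (mem_fixA.mp ha).1
    have hdA : d ∈ fixA t v p := mem_fixA.mpr ⟨hd.1, (Subgroup.mem_centralizer_iff.mp hd.2 v c.hvS).symm⟩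
    have hxA : x ∈ fixA t v p := by
      have := mul_mem ha (inv_mem hdA)
      rwa [mul_inv_cancel_right] at this
    rw [hAK x hxA (Subgroup.commutator_mono (c.OO_le_coreC c.hp c.hp2) le_rfl hx), one_mul]
    exact (Subgroup.mem_centralizer_iff.mp hd.2 s hs).symm
  have hSH : (S : Subgroup G) ≤ H := fun s hs => m.over'.mem_of_comm fun a ha => (hAS a ha s hs).symm
  -- rotations centralise the core
  have hrot : ∀ s ∈ (S : Subgroup G), orderOf s ≠ 2 → ∀ x ∈ coreC t, x * s = s * x := by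
    intro s hs hso
    obtain ⟨w₁, w₂, h1, h2, o1, o2, rfl⟩ := c.rot_eq hs hso
    have hk : ∃ k : ℕ, (w₁ * w₂) ^ 2 ^ k = 1 := by
      obtain ⟨k, hk⟩ := S.isPGroup' ⟨w₁ * w₂, hs⟩
      exact ⟨k, congrArg Subtype.val hk⟩
    by_cases hw : w₁ = t ∨ w₂ = t
    · have hcc : w₁ * w₂ = w₂ * w₁ := by
        rcases hw with e | e
        · rw [e]; exact (c.htZ w₂ h2).symm
        · rw [e]; exact c.htZ w₁ h1
      have hsq : (w₁ * w₂) ^ 2 = 1 := by
        rw [(show Commute w₁ w₂ from hcc).mul_pow, ← o1, pow_orderOf_eq_one, o1, ← o2, pow_orderOf_eq_one, one_mul]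
      intro x _
      rcases (Nat.dvd_prime Nat.prime_two).mp (orderOf_dvd_of_pow_eq_one hsq) with h | h
      · rw [orderOf_eq_one_iff] at h
        rw [h, mul_one, one_mul]
      · exact absurd h hso
    push Not at hw
    refine c.comm_core_of_comm_fitting (c.S_le hs) hk fun r hr hr2 => ?_
    have hB : ∀ x ∈ OO r (centI t) ⊓ H, x * (w₁ * w₂) = w₁ * w₂ * x := by
      have hinv : ∀ w ∈ (S : Subgroup G), orderOf w = 2 → w ≠ t → ∀ x ∈ OO r (centI t) ⊓ H,
          w * x * w⁻¹ * x ∈ fixA t v r := by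
        intro w hwS hwo hwt x hx
        have hwH := hSH hwS
        have hmem : w * x * w⁻¹ * x ∈ OO r (centI t) ⊓ H :=
          mul_mem ⟨BenderMax.conj_OO (c.S_le hwS) hx.1, H.mul_mem (H.mul_mem hwH hx.2) (H.inv_mem hwH)⟩ hx
        exact mem_fixA.mpr ⟨hmem.1, (m.cent_iff hr hr2 hmem).mp
          (E.refl r hr hr2 w hwH hwo (c.htZ w hwS) hwt x hx)⟩
      have hfixA' : ∀ a ∈ fixA t v r, ∀ w ∈ (S : Subgroup G), w * a * w⁻¹ = a := by
        intro a ha w hwS
        by_cases hrp : r = p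
        · subst hrp
          exact conj_eq_of_comm (hAS a ha w hwS).symm
        · rw [m.fixA_eq_bot hPH hr hr2 hrp, Subgroup.mem_bot] at ha
          rw [ha]; group
      intro x hx
      set s := w₁ * w₂ with hsdef
      set a₂ := w₂ * x * w₂⁻¹ * x
      set a₁ := w₁ * x⁻¹ * w₁⁻¹ * x⁻¹
      have ha₂ := hinv w₂ h2 o2 hw.2 x hx
      have ha₁ := hinv w₁ h1 o1 hw.1 x⁻¹ (inv_mem hx)
      -- `s x s⁻¹ = a₂ a₁ x`
      have e : s * x * s⁻¹ = a₂ * a₁ * x := by
        calc s * x * s⁻¹ = w₁ * a₂ * w₁⁻¹ * (w₁ * x⁻¹ * w₁⁻¹) := by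
              simp only [hsdef, a₂]; group
          _ = a₂ * (a₁ * x) := by rw [hfixA' a₂ ha₂ w₁ h1]; simp only [a₁]; group
          _ = a₂ * a₁ * x := (mul_assoc _ _ _).symm
      set a := a₂ * a₁ with hadef
      have haA : a ∈ fixA t v r := mul_mem ha₂ ha₁
      have hsa : s * a * s⁻¹ = a := hfixA' a haA s hs
      have hit : ∀ n : ℕ, s ^ n * x * (s ^ n)⁻¹ = a ^ n * x := by
        intro n
        induction n with
        | zero => simp
        | succ n ih =>
          calc s ^ (n + 1) * x * (s ^ (n + 1))⁻¹ = s * (s ^ n * x * (s ^ n)⁻¹) * s⁻¹ := by rw [pow_succ']; group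
            _ = s * a ^ n * s⁻¹ * (s * x * s⁻¹) := by rw [ih]; group
            _ = a ^ n * (a * x) := by rw [e, ← conj_pow, hsa]
            _ = a ^ (n + 1) * x := by rw [pow_succ, hadef]; simp only [mul_assoc]
      obtain ⟨k, hk⟩ := hk
      have h1' := hit (2 ^ k)
      rw [hk] at h1'
      have ha1 : a ^ 2 ^ k = 1 := by simpa using h1'.symm
      haveI := Fact.mk hr
      obtain ⟨j, hj⟩ := IsPGroup.iff_orderOf.1 (BenderMax.OO_isPGroup r (centI t)) ⟨a, (mem_fixA.mp haA).1⟩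
      rw [Subgroup.orderOf_mk] at hj
      have haone : a = 1 := orderOf_eq_one_iff.mp (Nat.eq_one_of_dvd_coprimes
        (Nat.Coprime.pow k j ((Nat.coprime_primes Nat.prime_two hr).mpr (Ne.symm hr2)))
        (orderOf_dvd_of_pow_eq_one ha1) (hj ▸ dvd_rfl))
      rw [haone, one_mul] at e
      exact (comm_of_conj_eq e).symm
    by_cases hrp : r = p
    · subst hrp
      -- Thompson's lemma on `P`
      set s := w₁ * w₂
      obtain ⟨a₀, ha₀, ha₀1⟩ := m.exists_A_ne
      set B := OO r (centI t) ⊓ H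
      have hQ : (Nat.card (Subgroup.zpowers s)).Coprime r := by
        obtain ⟨k, hk⟩ := hk
        rw [Nat.card_zpowers]
        exact Nat.Coprime.coprime_dvd_left (orderOf_dvd_of_pow_eq_one hk)
          (((Nat.coprime_primes Nat.prime_two hr).mpr (Ne.symm hr2)).pow_left k)
      have hcomm : B ≤ Subgroup.centralizer (Subgroup.zpowers s : Set G) := fun b hb => by
        refine Subgroup.mem_centralizer_iff.mpr fun q hq => ?_
        obtain ⟨i, rfl⟩ := Subgroup.mem_zpowers_iff.mp hq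
        exact (Commute.zpow_right (hB b hb : Commute b s) i).symm.eq
      have hfix : OO r (centI t) ⊓ Subgroup.centralizer (B : Set G) ≤
          Subgroup.centralizer (Subgroup.zpowers s : Set G) := by
        rintro x ⟨hx, hxB⟩
        exact hcomm ⟨hx, (m.mem_PH_iff ha₀ ha₀1 hx).mpr
          (Subgroup.mem_centralizer_iff.mp hxB a₀ ⟨(mem_fixA.mp ha₀).1, m.A_le_H ha₀⟩).symm⟩
      intro x hx
      have h := CfsgLib.thompson_PxQ ((BenderMax.OO_isPGroup r (centI t)).to_le inf_le_left) hQ hcomm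
        (OO r (centI t)) (BenderMax.OO_isPGroup r (centI t))
        ((inf_le_left : B ≤ _).trans Subgroup.le_normalizer)
        (Subgroup.zpowers_le.mpr (Subgroup.mem_normalizer_fintype fun y hy => BenderMax.conj_OO (c.S_le hs) hy))
        hfix (Subgroup.mem_zpowers s)
      exact Subgroup.mem_centralizer_iff.mp h x hx
    · exact fun x hx => hB x ⟨hx, m.over'.core_le c hr hrp hx⟩
  -- `O = K` contradicts `A ∩ K = 1`
  have hO : ⁅coreC t, (S : Subgroup G)⁆ = coreC t := by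
    by_cases h4 : Nat.card S = 4
    · obtain ⟨g, hg, hgt, hgc⟩ := E.four h4
      refine c.hyp.core_eq_commutator_four S h4 c.ht c.htS ⟨g, hg, hgt, fun x hx hxs => hgc x hx ?_ hxs⟩
      exact ((m.mem_H_iff (hcoreC x hx)).mpr (Subgroup.mem_normalizer_fintype fun a ha => by
        obtain ⟨ha1, ha2⟩ := mem_fixA.mp ha
        refine mem_fixA.mpr ⟨BenderMax.conj_OO (hcoreC x hx) ha1, ?_⟩
        have hxv : Commute x v := hxs v c.hvS
        exact ((hxv.mul_left (ha2 : Commute a v)).mul_left hxv.inv_left).eq))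
    · exact c.hyp.core_eq_commutator_of_rot S h4 c.ht c.htS c.htZ hrot
  obtain ⟨a, ha, ha1⟩ := m.exists_A_ne
  exact ha1 (hAK a ha (by rw [hKdef, hO]; exact c.OO_le_coreC c.hp c.hp2 (mem_fixA.mp ha).1))

end Main

/-- **(U5)**: the choice of `v`. -/
theorem IIb.exists_good {S : Sylow 2 G} {t v : G} {p : ℕ} (c : IIb S t v p) (F : ModelFacts G)
    (E : ∀ H L : Subgroup G, Main S t v p H L → ExtraFacts S t H L) :
    ∃ (v' : G) (H L : Subgroup G), Main S t v' p H L ∧ (¬ OO p (centI t) ≤ H →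
      ∃ a ∈ fixA t v' p, a ≠ 1 ∧ InOmega (OO p (centI t)) p a) := by
  classical
  obtain ⟨H, L, m⟩ := c.exists_main F
  by_cases hPH : OO p (centI t) ≤ H
  · exact ⟨v, H, L, m, fun h => absurd hPH h⟩
  by_cases hw : ∃ w ∈ (S : Subgroup G), orderOf w = 2 ∧ w ≠ t ∧
      (∃ u, InOmega (OO p (centI t)) p u ∧ u ≠ 1 ∧ u * w = w * u) ∧ ∃ x ∈ OO p (centI t), x * w ≠ w * x
  · obtain ⟨w, hwS, hwo, hwt, ⟨u, hu, hu1, huw⟩, hmv⟩ := hw
    have c' : IIb S t w p :=
      ⟨c.hyp, c.ht, c.htS, c.htZ, hwo, hwS, hwt, c.maximal, c.hp, c.hp2, ⟨u, hu.1, hu1, huw⟩, hmv⟩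
    obtain ⟨H', L', m'⟩ := c'.exists_main F
    exact ⟨w, H', L', m', fun _ => ⟨u, mem_fixA.mpr ⟨hu.1, huw⟩, hu1, hu⟩⟩
  exfalso
  push Not at hw
  have hsc : ∀ w ∈ (S : Subgroup G), orderOf w = 2 → c.Scalar w := by
    intro w hwS hwo
    by_cases hwt : w = t
    · subst hwt
      exact Or.inl fun u hu => conj_eq_of_comm (c.comm_t_core hu.1).symm
    by_cases hex : ∃ u, InOmega (OO p (centI t)) p u ∧ u ≠ 1 ∧ u * w = w * u
    · exact Or.inl fun u hu => conj_eq_of_comm (hw w hwS hwo hwt hex u hu.1).symm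
    · push Not at hex
      refine Or.inr (c.Omega_inverted (c.S_le hwS) (Involutions.mul_self_eq_one_of_orderOf hwo) ?_)
      intro u hu huw
      by_contra h
      exact hex u hu h huw
  refine m.scalar_false (E H L m) hPH hsc (c.Omega_inverted c.v_mem c.vv fun u hu huv => ?_)
  by_contra h
  obtain ⟨x, hx, hxv⟩ := c.exists_moved
  exact hxv (hw v c.hvS c.hv c.hvt ⟨u, hu, h, huv⟩ x hx)

end CfsgLib.GW
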