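import Cfsg.Agent.Lib.GW.IIb.LocalSeven
import Cfsg.Agent.Lib.GW.IIb.LocalScalar

/-!
(IIb): the component is not `A₇`.
-/

set_option autoImplicit false
set_option linter.unusedSectionVars false

namespace CfsgLib.GW

open Cfsg CfsgLib.DihedralFusion
open CfsgLib.BenderMax (OO)

universe u

variable {G : Type u} [Group G] [Finite G]
variable {S : Sylow 2 G} {t v : G} {p : ℕ} {H L : Subgroup G} (m : Main S t v p H L)

include m

/-- **A₇ is excluded**. -/
theorem Main.not_seven (fr : SevenFrame H (L.subgroupOf H)) : False := by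
  classical
  have c := m.conf
  have o := m.over'
  have d := m.comp
  haveI := Fact.mk c.hp
  haveI := c.hyp.simple
  obtain ⟨h2, h1⟩ := seven_t o c d fr
  -- only the prime three
  have honly : ∀ r : ℕ, r.Prime → r ≠ 2 → OO r (centI t) ≠ ⊥ → r = 3 := by
    intro r hr hr2 hne
    by_contra hr3
    refine m.Qr_ne hr hr2 hne ((Subgroup.eq_bot_iff_forall _).mpr fun x hx => m.Qr_meet hr hr2 hx ?_)
    have hxR := m.Qr_le_OH r hx
    obtain ⟨k, hk, hodd⟩ := o.odd_order_core c hr hr2 (x := ⟨x, hxR.2⟩) hxR.1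
    have h3 : (fr.π ⟨x, hxR.2⟩) ^ 3 = 1 := Model.seven_cube h2 h1
      (seven_pi_comm o c d fr (c.comm_t_core hxR.1)) (odd_orderOf_map fr.π hodd)
    have hr' : (fr.π ⟨x, hxR.2⟩) ^ r ^ k = 1 := by rw [← map_pow, ← hk, pow_orderOf_eq_one, map_one]
    have e := Nat.eq_one_of_dvd_coprimes (Nat.Coprime.pow_left k ((Nat.coprime_primes hr Nat.prime_three).mpr hr3))
      (orderOf_dvd_of_pow_eq_one hr') (orderOf_dvd_of_pow_eq_one h3)
    exact (seven_cent_iff o c d fr (x := ⟨x, hxR.2⟩)).mp (orderOf_eq_one_iff.mp e)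
  have hPne : OO p (centI t) ≠ ⊥ := fun e => by
    obtain ⟨x, hx, hx1, -⟩ := c.exists_fixed
    rw [e, Subgroup.mem_bot] at hx
    exact hx1 hx
  have hp3 := honly p c.hp c.hp2 hPne
  -- an involution `w` of type V1
  obtain ⟨⟨b, hb2, hb1, hbt, hbC, hball⟩, -⟩ := Model.seven_exists h2 h1
  obtain ⟨l, -, hl⟩ := fr.map_L.symm.le (Subgroup.mem_top b)
  have hker : fr.π.ker = _ := fr.ker_eq
  obtain ⟨k, hk, hcomm⟩ := exists_lift_commute fr.π (hker ▸ d.odd_cent) (x := l)
    (Involutions.mul_self_eq_one_of_orderOf (o.tH_order c)) (by rw [hl]; exact hbC)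
  set y := l * k
  have hy : fr.π y = b := by rw [map_mul, hl, MonoidHom.mem_ker.mp hk, mul_one]
  have hy2 : y ^ 2 ∈ fr.π.ker := by rw [MonoidHom.mem_ker, map_pow, hy, sq, hb2]
  have hm : Odd (orderOf (y ^ 2)) :=
    (hker ▸ d.odd_cent : Odd (Nat.card fr.π.ker)).of_dvd_nat (Subgroup.orderOf_dvd_natCard _ hy2)
  set n := orderOf (y ^ 2)
  set w' : H := y ^ n with hw'
  have hwπ : fr.π w' = b := by
    obtain ⟨j, hj⟩ := hm
    rw [hw', map_pow, hy, hj, pow_succ, pow_mul, sq, hb2, one_pow, one_mul]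
  have hw2 : w' * w' = 1 := by rw [hw', ← pow_add, ← two_mul, pow_mul, pow_orderOf_eq_one]
  have hwt : w' * o.tH c = o.tH c * w' := ((show Commute y (o.tH c) from hcomm).pow_left n).eq
  set w : G := (w' : G) with hwdef
  have hwL : w ∈ L := seven_invol_mem o c d fr hw2
  have hwo : orderOf w = 2 := by
    rw [hwdef, Subgroup.orderOf_coe]
    exact orderOf_eq_prime (by rw [sq]; exact hw2) fun e => hb1 (by rw [← hwπ, e, map_one])
  have hwne : w ≠ t := fun e => hbt (by rw [← hwπ, show w' = o.tH c from Subtype.ext e])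
  have hwtG : w * t = t * w := congrArg Subtype.val hwt
  have hwC : w ∈ centI t := Subgroup.mem_centralizer_singleton_iff.mpr hwtG
  -- `w` centralises `O_p(C) ∩ H`
  have hB : ∀ x ∈ OO p (centI t) ⊓ H, x * w = w * x := by
    intro x hx
    set u := w * x * w⁻¹ * x⁻¹ with hu
    have hwxH : w * x * w⁻¹ ∈ H := H.mul_mem (H.mul_mem w'.2 hx.2) (H.inv_mem w'.2)
    have huR : u ∈ OO p (centI t) ⊓ H :=
      mul_mem (show w * x * w⁻¹ ∈ OO p (centI t) ⊓ H from ⟨BenderMax.conj_OO hwC hx.1, hwxH⟩) (inv_mem hx)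
    have hπu : fr.π ⟨u, huR.2⟩ = 1 := by
      have e : (⟨u, huR.2⟩ : H) = w' * ⟨x, hx.2⟩ * w'⁻¹ * ⟨x, hx.2⟩⁻¹ := rfl
      rw [e, map_mul, map_mul, map_mul, map_inv, map_inv, hwπ]
      have := hball _ (seven_pi_comm o c d fr (x := ⟨x, hx.2⟩) (c.comm_t_core hx.1))
        (odd_orderOf_map fr.π (o.odd_order_core c c.hp c.hp2 (x := ⟨x, hx.2⟩) hx.1).choose_spec.2)
      rw [← this]
      group
    have huW := (seven_cent_iff o c d fr (x := ⟨u, huR.2⟩)).mp hπu
    have huw : w * u * w⁻¹ = u := conj_eq_of_comm (Subgroup.mem_centralizer_iff.mp huW w hwL)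
    have hu1 : u = 1 := by
      refine eq_one_of_inv_eq c.hp c.hp2 (BenderMax.OO_isPGroup p (centI t)) huR.1 ?_
      have hwi : w⁻¹ = w := inv_eq_of_mul_eq_one_left (Involutions.mul_self_eq_one_of_orderOf hwo)
      have hww : w * w = 1 := Involutions.mul_self_eq_one_of_orderOf hwo
      calc u * u = w * u * w⁻¹ * u := by rw [huw]
        _ = w * (w * x * w * x⁻¹) * w * (w * x * w * x⁻¹) := by rw [hu, hwi]
        _ = (w * w) * x * w * x⁻¹ * (w * w) * x * w * x⁻¹ := by simp only [mul_assoc]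
        _ = 1 := by
          rw [hww, one_mul, mul_one, inv_mul_cancel_right, mul_assoc x w w, hww, mul_one, mul_inv_cancel]
    rw [hu, mul_inv_eq_one] at hu1
    exact (comm_of_conj_eq hu1).symm
  obtain ⟨a₀, ha₀, ha₀1⟩ := m.exists_A_ne
  have hQ : (Nat.card (Subgroup.zpowers w)).Coprime p := by
    rw [Nat.card_zpowers, hwo]
    exact (Nat.coprime_primes Nat.prime_two c.hp).mpr (Ne.symm c.hp2)
  have hcommB : OO p (centI t) ⊓ H ≤ Subgroup.centralizer (Subgroup.zpowers w : Set G) := fun x hx => by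
    refine Subgroup.mem_centralizer_iff.mpr fun q hq => ?_
    obtain ⟨i, rfl⟩ := Subgroup.mem_zpowers_iff.mp hq
    exact (Commute.zpow_right (hB x hx : Commute x w) i).symm.eq
  have hP : ∀ x ∈ OO p (centI t), x * w = w * x := by
    intro x hx
    have h := CfsgLib.thompson_PxQ ((BenderMax.OO_isPGroup p (centI t)).to_le inf_le_left) hQ hcommB
      (OO p (centI t)) (BenderMax.OO_isPGroup p (centI t))
      ((inf_le_left : OO p (centI t) ⊓ H ≤ _).trans Subgroup.le_normalizer)
      (Subgroup.zpowers_le.mpr (Subgroup.mem_normalizer_fintype fun y hy => BenderMax.conj_OO hwC hy))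
      (fun y hy => hcommB ⟨hy.1, (m.mem_PH_iff ha₀ ha₀1 hy.1).mpr
        (Subgroup.mem_centralizer_iff.mp hy.2 a₀ ⟨(mem_fixA.mp ha₀).1, m.A_le_H ha₀⟩).symm⟩)
      (Subgroup.mem_zpowers w)
    exact Subgroup.mem_centralizer_iff.mp h x hx
  have hcore : ∀ x ∈ coreC t, x * w = w * x :=
    c.comm_core_of_comm_fitting hwC ⟨1, by rw [pow_one, sq]; exact Involutions.mul_self_eq_one_of_orderOf hwo⟩
      fun r hr hr2 x hx => by
        by_cases hne : OO r (centI t) = ⊥
        · rw [hne, Subgroup.mem_bot] at hx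
          rw [hx, one_mul, mul_one]
        · have e : r = p := (honly r hr hr2 hne).trans hp3.symm
          subst e
          exact hP x hx
  -- `O(C) = O(C(T₁))`
  have hT := isKleinFour_fourOf c.ht hwo (Ne.symm hwne) hwtG.symm
  set T := fourOf c.tt (Involutions.mul_self_eq_one_of_orderOf hwo) hwtG.symm with hTdef
  obtain ⟨g, hgN, -, -, hgmove⟩ := c.hyp.exists_three hT
  have htT : t ∈ T := Or.inr (Or.inl rfl)
  have hgt := (hgmove t htT fun e => by have := c.ht; rw [e, orderOf_one] at this; omega).1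
  have heq : coreT T = coreC t := by
    ext x
    rw [mem_coreT c.hyp.dihedral hT, mem_coreC c.hyp.dihedral c.ht]
    constructor
    · exact fun ⟨h, ho⟩ => ⟨(Subgroup.mem_centralizer_iff.mp h t htT).symm, ho⟩
    · rintro ⟨hxt, ho⟩
      refine ⟨Subgroup.mem_centralizer_iff.mpr fun q hq => ?_, ho⟩
      have hxw : x * w = w * x := hcore x ((mem_coreC c.hyp.dihedral c.ht).mpr ⟨hxt, ho⟩)
      rcases (mem_fourOf _ _ _).mp hq with rfl | rfl | rfl | rfl
      exacts [by rw [mul_one, one_mul], hxt.symm, hxw.symm, ((Commute.mul_right (hxt : Commute x t) hxw).eq).symm]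
  have hCn : centI t ≤ Subgroup.normalizer (coreC t : Set G) := fun s hs =>
    Subgroup.mem_normalizer_fintype fun x hx => by
      obtain ⟨z, hz, rfl⟩ := hx
      exact ⟨⟨s, hs⟩ * z * ⟨s, hs⟩⁻¹, (inferInstance : (oddCore (centI t)).Normal).conj_mem z hz _, rfl⟩
  have hne : coreC t ≠ ⊥ := ne_bot_of_le_ne_bot hPne (c.OO_le_coreC c.hp c.hp2)
  have hNeq : Subgroup.normalizer (coreC t : Set G) = centI t := by
    rcases eq_or_lt_of_le hCn with e | e
    · exact e.symm
    exfalso
    haveI : (coreC t).Normal := Subgroup.normalizer_eq_top_iff.1 (c.maximal.2 _ e)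
    rcases (inferInstance : (coreC t).Normal).eq_bot_or_eq_top with e' | e'
    · exact hne e'
    · exact c.maximal.1 (top_le_iff.mp (e' ▸ Subgroup.map_subtype_le _))
  have hTle : ∀ a ∈ T, g * a * g⁻¹ ∈ T := fun a ha => (Subgroup.mem_normalizer_iff.mp hgN a).mp ha
  have hgC : g ∈ centI t := by
    rw [← hNeq]
    refine Subgroup.mem_normalizer_fintype fun x hx => ?_
    rw [SetLike.mem_coe, ← heq, mem_coreT c.hyp.dihedral hT] at *
    refine ⟨Subgroup.mem_centralizer_iff.mpr fun a ha => ?_, ?_⟩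
    · have ha' : g⁻¹ * a * g ∈ T := by
        simpa using (Subgroup.mem_normalizer_iff.mp ((Subgroup.normalizer (T : Set G)).inv_mem hgN) a).mp ha
      have h := Subgroup.mem_centralizer_iff.mp hx.1 _ ha'
      calc a * (g * x * g⁻¹) = g * (g⁻¹ * a * g * x) * g⁻¹ := by group
        _ = g * (x * (g⁻¹ * a * g)) * g⁻¹ := by rw [h]
        _ = g * x * g⁻¹ * a := by group
    · have := MulEquiv.orderOf_eq (MulAut.conj g) x
      rw [MulAut.conj_apply] at this
      rw [this]; exact hx.2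
  exact hgt (conj_eq_of_comm (c.comm_t hgC))

end CfsgLib.GW
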