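import Cfsg.Agent.Lib.GW.IIb.LocalModel
import Cfsg.Agent.Lib.GW.IIb.LocalNotSeven
import Cfsg.Agent.Lib.GW.IIb.Cover

/-!
(IIb): the component is `PSL₂(q)`, `q ≥ 11`; the facts used afterwards.
-/

set_option autoImplicit false
set_option linter.unusedSectionVars false

namespace CfsgLib.GW

open Cfsg CfsgLib.DihedralFusion CfsgLib.PSL2Max
open CfsgLib.BenderMax (OO)
open scoped MatrixGroups

universe u

variable {G : Type u} [Group G] [Finite G]
variable {S : Sylow 2 G} {t v : G} {p : ℕ} {H L : Subgroup G} (m : Main S t v p H L)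
  (fr : PSLFrame H (L.subgroupOf H))

include m fr

theorem Main.t_inner : ∃ hd : m.over'.tH m.conf ∈ fr.diag,
    fr.pgl ⟨m.over'.tH m.conf, hd⟩ * fr.pgl ⟨m.over'.tH m.conf, hd⟩ = 1 ∧ fr.pgl ⟨m.over'.tH m.conf, hd⟩ ≠ 1 ∧
      fr.pgl ⟨m.over'.tH m.conf, hd⟩ ∈ (phi (F := fr.F)).range := by
  obtain ⟨htd, ht2, ht1⟩ := fr.pgl_invol (m.over'.tH_order m.conf) (m.comp.not_cent_of_invol (m.over'.tH_order m.conf))
  exact ⟨htd, ht2, ht1, (psl_range_iff m.over' m.conf m.comp fr (m.over'.tH_order m.conf) htd).mpr m.t_mem⟩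

/-- The image of an element of `O_r(C) ∩ H` has order dividing `q - e`. -/
theorem Main.core_dvd {r : ℕ} (hr : r.Prime) (hr2 : r ≠ 2) {x : H} (hx : (x : G) ∈ OO r (centI t)) :
    ∃ hd : x ∈ fr.diag, orderOf (fr.pgl ⟨x, hd⟩) ∣ Model.qm fr.F := by
  obtain ⟨htd, ht2, ht1, htin⟩ := m.t_inner fr
  obtain ⟨U, -, hUcard, -, -, -, -, -, -, hout, -⟩ := Model.invol_cent fr.odd fr.three_lt ht2 ht1
  rw [Model.torusOrder, if_pos htin] at hUcard
  have hxd := psl_core_diag m.over' m.conf m.comp fr hr hr2 hx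
  refine ⟨hxd, ?_⟩
  haveI : Finite (Matrix.ProjGenLinGroup (Fin 2) fr.F) :=
    Finite.of_surjective _ (Matrix.ProjGenLinGroup.mk_surjective)
  rw [← hUcard]
  exact Subgroup.orderOf_dvd_natCard _ (mem_torus_of_odd hout (fr.pgl_comm hxd htd (Subtype.ext (m.conf.comm_t_core hx)))
    (fr.pgl_odd hxd (m.over'.odd_order_core m.conf hr hr2 hx).choose_spec.2))

theorem Main.p_dvd_qm : p ∣ Model.qm fr.F := by
  have c := m.conf
  haveI := Fact.mk c.hp
  obtain ⟨x, hx, hx1, hxH, hxv⟩ := m.over'.exists_Q c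
  obtain ⟨hd, hdvd⟩ := m.core_dvd fr c.hp c.hp2 (x := ⟨x, hxH⟩) hx
  obtain ⟨k, hk, -⟩ := m.over'.odd_order_core c c.hp c.hp2 (x := ⟨x, hxH⟩) hx
  obtain ⟨j, -, hj⟩ := (Nat.dvd_prime_pow c.hp).mp
    (hk ▸ (orderOf_map_dvd fr.pgl _).trans (dvd_of_eq (Subgroup.orderOf_mk _ hd)) :
      orderOf (fr.pgl ⟨⟨x, hxH⟩, hd⟩) ∣ p ^ k)
  refine (dvd_pow_self p fun h0 => ?_).trans (hj ▸ hdvd)
  rw [h0, pow_zero, orderOf_eq_one_iff] at hj
  exact m.over'.Q_not_comm c hx hx1 hxv
    ((m.cent_iff c.hp c.hp2 ⟨hx, hxH⟩).mp (m.comp.mem_cent_iff.mp ((fr.pgl_eq_one_iff _).mp hj)))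

/-- `q ≥ 11`. -/
theorem Main.eleven_le : 11 ≤ Fintype.card fr.F := by
  obtain ⟨h4, -, -, -⟩ := Model.qm_qp_arith (F := fr.F) fr.odd
  have hp3 : 3 ≤ p := by
    have := m.conf.hp.two_le
    have := m.conf.hp2
    omega
  have h12 : 4 * p ∣ Model.qm fr.F :=
    Nat.Coprime.mul_dvd_of_dvd_of_dvd (by
      rw [show 4 = 2 ^ 2 by norm_num]
      exact Nat.Coprime.pow_left 2 ((Nat.coprime_primes Nat.prime_two m.conf.hp).mpr (Ne.symm m.conf.hp2))) h4
      (m.p_dvd_qm fr)
  have hpos : 0 < Model.qm fr.F := by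
    have := fr.three_lt
    unfold Model.qm
    split_ifs <;> omega
  have h := Nat.le_of_dvd hpos h12
  have := fr.three_lt
  unfold Model.qm at h
  split_ifs at h <;> omega

theorem Main.model_iso : Nonempty (↥(L.subgroupOf H) ⧸ Subgroup.center ↥(L.subgroupOf H) ≃*
    Matrix.ProjectiveSpecialLinearGroup (Fin 2) fr.F) := by
  set f := fr.ψ.comp (L.subgroupOf H).subtype
  have hrange : f.range =
      (MulAut.conj : Matrix.ProjectiveSpecialLinearGroup (Fin 2) fr.F →* _).range := by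
    rw [← fr.map_L, MonoidHom.range_comp, Subgroup.range_subtype]
  have hker : f.ker = Subgroup.center ↥(L.subgroupOf H) := by
    ext x
    rw [MonoidHom.mem_ker, MonoidHom.comp_apply, ← MonoidHom.mem_ker, fr.ker_eq, Subgroup.mem_center_iff,
      Subgroup.mem_centralizer_iff]
    exact ⟨fun h l => Subtype.ext (h l l.2), fun h l hl => congrArg Subtype.val (h ⟨l, hl⟩)⟩
  exact ⟨((QuotientGroup.quotientMulEquivOfEq hker.symm).trans (QuotientGroup.quotientKerEquivRange f)).trans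
    ((MulEquiv.subgroupCongr hrange).trans (MonoidHom.ofInjective conj_psl_injective).symm)⟩

theorem Main.center_eq_bot : Subgroup.center ↥(L.subgroupOf H) = ⊥ := by
  haveI : Group.IsPerfect ↥(L.subgroupOf H) := m.comp.comp.2.1
  obtain ⟨e⟩ := m.model_iso fr
  obtain ⟨-, hLd, -⟩ := m.conf.hyp.component H m.over'.ne_top m.comp.comp
  exact IIbPsl.center_eq_bot_of_model hLd.center_odd (le_trans (by norm_num) (m.eleven_le fr)) e

/-- `L ∩ C(L) = 1`. -/
theorem Main.L_inf_cent {x : G} (hx : x ∈ L) (hxc : x ∈ Subgroup.centralizer (L : Set G)) : x = 1 := by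
  have h : (⟨⟨x, m.comp.le hx⟩, hx⟩ : ↥(L.subgroupOf H)) ∈ Subgroup.center ↥(L.subgroupOf H) :=
    Subgroup.mem_center_iff.mpr fun l =>
      Subtype.ext (Subtype.ext (Subgroup.mem_centralizer_iff.mp hxc ((l : H) : G) l.2))
  rw [m.center_eq_bot fr, Subgroup.mem_bot] at h
  exact congrArg (fun z : ↥(L.subgroupOf H) => ((z : H) : G)) h

/-- `C_L(⟨t, v⟩) = ⟨t, v⟩`. -/
theorem Main.L_four {u : G} (hu : u ∈ L) (hut : u * t = t * u) (huv : u * v = v * u) :
    u ∈ fourOf m.conf.tt m.conf.vv m.conf.comm_tv := by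
  have c := m.conf
  obtain ⟨e⟩ := m.model_iso fr
  set f : ↥(L.subgroupOf H) →* Matrix.ProjectiveSpecialLinearGroup (Fin 2) fr.F :=
    e.toMonoidHom.comp (QuotientGroup.mk' (Subgroup.center ↥(L.subgroupOf H)))
  have hf : Function.Injective f := by
    refine e.injective.comp ?_
    intro a b h
    have := (QuotientGroup.eq (s := Subgroup.center ↥(L.subgroupOf H))).mp h
    rw [m.center_eq_bot fr, Subgroup.mem_bot, inv_mul_eq_one] at this
    exact this
  let t' : ↥(L.subgroupOf H) := ⟨⟨t, m.comp.le m.t_mem⟩, m.t_mem⟩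
  let v' : ↥(L.subgroupOf H) := ⟨⟨v, m.comp.le m.v_mem⟩, m.v_mem⟩
  let u' : ↥(L.subgroupOf H) := ⟨⟨u, m.comp.le hu⟩, hu⟩
  have ht1 : t' ≠ 1 := fun h => by
    have h' : t = 1 := congrArg (fun z : ↥(L.subgroupOf H) => ((z : H) : G)) h
    have := c.ht; rw [h', orderOf_one] at this; omega
  have hv1 : v' ≠ 1 := fun h => by
    have h' : v = 1 := congrArg (fun z : ↥(L.subgroupOf H) => ((z : H) : G)) h
    have := c.hv; rw [h', orderOf_one] at this; omega
  have key := Model.psl_centralizer_pair fr.odd fr.three_lt (x := f t') (y := f v') (z := f u')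
    (by rw [← map_mul, show t' * t' = 1 from Subtype.ext (Subtype.ext c.tt), map_one])
    (fun h => ht1 (hf (h.trans (map_one f).symm)))
    (by rw [← map_mul, show v' * v' = 1 from Subtype.ext (Subtype.ext c.vv), map_one])
    (fun h => hv1 (hf (h.trans (map_one f).symm)))
    (fun h => c.hvt (congrArg (fun z : ↥(L.subgroupOf H) => ((z : H) : G)) (hf h)))
    (by rw [← map_mul, ← map_mul]; exact congrArg f (Subtype.ext (Subtype.ext c.comm_tv.symm)))
    (by rw [← map_mul, ← map_mul]; exact congrArg f (Subtype.ext (Subtype.ext hut)))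
    (by rw [← map_mul, ← map_mul]; exact congrArg f (Subtype.ext (Subtype.ext huv)))
  refine (mem_fourOf _ _ _).mpr ?_
  rcases key with h | h | h | h
  · exact Or.inl (congrArg (fun z : ↥(L.subgroupOf H) => ((z : H) : G)) (hf (h.trans (map_one f).symm)))
  · exact Or.inr (Or.inl (congrArg (fun z : ↥(L.subgroupOf H) => ((z : H) : G)) (hf h)))
  · exact Or.inr (Or.inr (Or.inl (congrArg (fun z : ↥(L.subgroupOf H) => ((z : H) : G)) (hf h))))
  · exact Or.inr (Or.inr (Or.inr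
      (congrArg (fun z : ↥(L.subgroupOf H) => ((z : H) : G)) (hf (h.trans (map_mul f t' v').symm)))))

/-- The remaining facts. -/
theorem Main.extra : ExtraFacts S t H L := by
  refine ⟨fun r hr hr2 w hwH hwo hwt hne x hx =>
    psl_refl m.over' m.conf m.comp fr hr hr2 hwH hwo hwt hne hx, fun h4 => ?_⟩
  classical
  have c := m.conf
  haveI : Fact (Nat.Prime 2) := ⟨Nat.prime_two⟩
  have hT := isKleinFour_fourOf c.ht c.hv (Ne.symm c.hvt) c.comm_tv
  set T := fourOf c.tt c.vv c.comm_tv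
  have hTS : T = (S : Subgroup G) := by
    refine Subgroup.eq_of_le_of_card_ge ?_ (by rw [hT.card_four, show Nat.card (S : Subgroup G) = 4 from h4])
    intro x hx
    rcases (mem_fourOf _ _ _).mp hx with rfl | rfl | rfl | rfl
    exacts [one_mem _, c.htS, c.hvS, mul_mem c.htS c.hvS]
  have hTL : T ≤ L := fun x hx => by
    rcases (mem_fourOf _ _ _).mp hx with rfl | rfl | rfl | rfl
    exacts [one_mem _, m.t_mem, m.v_mem, mul_mem m.t_mem m.v_mem]
  -- `T` is not lacking in `L`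
  haveI : Group.IsPerfect L := m.comp.perfect
  have hLd : GWDihedral L := c.hyp.dihedral.perfect_sub L m.comp.ne
  set T' := T.subgroupOf L
  have hT' : IsKleinFour T' := by haveI := hT; exact isKleinFour_of_equiv (Subgroup.subgroupOfEquivOfLe hTL).symm
  have hnl : ¬ Lacking T' := by
    intro hl
    obtain ⟨P, hP⟩ := (isPGroup_klein hT').exists_le_sylow
    obtain ⟨n, hn, ⟨eP⟩⟩ := hLd.shape P
    obtain ⟨J, hJ⟩ := exists_index_two_of_lacking eP hn hP hT' hl
    exact CfsgLib.GW.index_ne_two J hJ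
  rw [Lacking] at hnl
  push Not at hnl
  obtain ⟨g, hg, hgodd, hgC⟩ := hnl
  have hgN : ∀ a ∈ T, (g : G) * a * (g : G)⁻¹ ∈ T := fun a ha =>
    (Subgroup.mem_normalizer_iff.mp hg ⟨a, hTL ha⟩).mp ha
  have htT : t ∈ T := Or.inr (Or.inl rfl)
  have hvT : v ∈ T := Or.inr (Or.inr (Or.inl rfl))
  have hgt : (g : G) * t * (g : G)⁻¹ ≠ t := by
    intro e
    have ev : (g : G) * v * (g : G)⁻¹ = v := by
      rcases (mem_fourOf _ _ _).mp (hgN v hvT) with h | h | h | h
      · exact absurd c.hv (by rw [conj_eq_one_iff.mp h, orderOf_one]; norm_num)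
      · exact absurd (mul_left_cancel (mul_right_cancel (h.trans e.symm))) c.hvt
      · exact h
      · exfalso
        have h2 : ((g : G) ^ 2) * v * ((g : G) ^ 2)⁻¹ = v := by
          calc (g : G) ^ 2 * v * ((g : G) ^ 2)⁻¹ = (g : G) * ((g : G) * v * (g : G)⁻¹) * (g : G)⁻¹ := by
                rw [sq]; group
            _ = (g : G) * t * (g : G)⁻¹ * ((g : G) * v * (g : G)⁻¹) := by nth_rewrite 1 [h]; group
            _ = v := by rw [e, h, ← mul_assoc, c.tt, one_mul]
        obtain ⟨j, hj⟩ := hgodd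
        rw [← Subgroup.orderOf_coe] at hj
        have h3 := (show Commute ((g : G) ^ 2) v from comm_of_conj_eq h2).pow_left (j + 1)
        rw [← pow_mul, show 2 * (j + 1) = orderOf (g : G) + 1 by omega, pow_succ, pow_orderOf_eq_one, one_mul] at h3
        rw [conj_eq_of_comm h3.eq] at h
        exact absurd c.ht (by
          rw [show t = 1 from mul_right_cancel (h.symm.trans (one_mul v).symm), orderOf_one]; norm_num)
    refine hgC (Subgroup.mem_centralizer_iff.mpr fun a ha => Subtype.ext ?_)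
    show (a : G) * g = g * a
    refine (comm_of_conj_eq ?_).symm
    rcases (mem_fourOf _ _ _).mp (show (a : G) ∈ T from ha) with h | h | h | h <;> rw [h]
    · group
    · exact e
    · exact ev
    · calc (g : G) * (t * v) * (g : G)⁻¹ = (g : G) * t * (g : G)⁻¹ * ((g : G) * v * (g : G)⁻¹) := by group
        _ = t * v := by rw [e, ev]
  refine ⟨g, ?_, hgt, fun x hx hxH hxS => ?_⟩
  · rw [← hTS]
    exact Subgroup.mem_normalizer_fintype hgN
  set u := x * g * x⁻¹ * (g : G)⁻¹ with hu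
  have huL : u ∈ L := mul_mem (m.comp.conj_mem hxH g.2) (inv_mem g.2)
  have hxT : ∀ a ∈ T, x * a * x⁻¹ = a := fun a ha => conj_eq_of_comm (hxS a (hTS ▸ ha))
  have huT : ∀ a ∈ T, u * a * u⁻¹ = a := by
    intro a ha
    have hb : (g : G)⁻¹ * a * g ∈ T := by
      have h0 : g⁻¹ * ⟨a, hTL ha⟩ * g ∈ T' := by
        simpa using
          (Subgroup.mem_normalizer_iff.mp ((Subgroup.normalizer (T' : Set L)).inv_mem hg) ⟨a, hTL ha⟩).mp ha
      exact Subgroup.mem_subgroupOf.mp h0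
    have hxi : x⁻¹ * ((g : G)⁻¹ * a * g) * x = (g : G)⁻¹ * a * g := by
      nth_rewrite 1 [← hxT _ hb]; group
    calc u * a * u⁻¹ = x * ((g : G) * (x⁻¹ * ((g : G)⁻¹ * a * g) * x) * (g : G)⁻¹) * x⁻¹ := by rw [hu]; group
      _ = x * a * x⁻¹ := by rw [hxi]; group
      _ = a := hxT a ha
  have hu4 : u ∈ T := m.L_four fr huL (comm_of_conj_eq (huT t htT)) (comm_of_conj_eq (huT v hvT))
  have hxu : x * u * x⁻¹ = u := hxT u hu4
  have hit : ∀ n : ℕ, x ^ n * g * (x ^ n)⁻¹ = u ^ n * g := by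
    intro n
    induction n with
    | zero => simp
    | succ n ih =>
      calc x ^ (n + 1) * g * (x ^ (n + 1))⁻¹ = x * (x ^ n * g * (x ^ n)⁻¹) * x⁻¹ := by rw [pow_succ']; group
        _ = x * u ^ n * x⁻¹ * (x * g * x⁻¹) := by rw [ih]; group
        _ = u ^ n * (u * g) := by rw [← conj_pow, hxu]; congr 1; rw [hu]; group
        _ = u ^ (n + 1) * g := by rw [pow_succ]; exact (mul_assoc _ _ _).symm
  have h1 := hit (orderOf x)
  rw [pow_orderOf_eq_one] at h1
  have hun : u ^ orderOf x = 1 := by simpa using h1.symm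
  have hu2 : u ^ 2 = 1 := by
    haveI := hT
    rw [sq]
    exact congrArg Subtype.val (IsKleinFour.mul_self (⟨u, hu4⟩ : T))
  have hu1 : u = 1 := orderOf_eq_one_iff.mp (Nat.eq_one_of_dvd_coprimes
    (Nat.coprime_two_left.mpr ((mem_coreC c.hyp.dihedral c.ht).mp hx).2)
    (orderOf_dvd_of_pow_eq_one hu2) (orderOf_dvd_of_pow_eq_one hun))
  rw [hu, mul_inv_eq_one] at hu1
  exact (comm_of_conj_eq hu1).symm

end CfsgLib.GW
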