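import Cfsg.Agent.Lib.GW.IIb.LocalComp

/-!
(IIb): what steps 3 and 4 say about the model, as a property of the group.
-/

set_option autoImplicit false
set_option linter.unusedSectionVars false

namespace CfsgLib.GW

open Cfsg
open CfsgLib.BenderMax (OO)

universe u

variable {G : Type u} [Group G] [Finite G]

/-- `C_P(v)`. -/
noncomputable def fixA (t v : G) (p : ℕ) : Subgroup G :=
  OO p (centI t) ⊓ Subgroup.centralizer ({v} : Set G)

theorem mem_fixA {t v : G} {p : ℕ} {x : G} : x ∈ fixA t v p ↔ x ∈ OO p (centI t) ∧ x * v = v * x :=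
  and_congr_right' Subgroup.mem_centralizer_singleton_iff

variable (G) in
/-- Steps 3 and 4 of the blueprint. -/
structure ModelFacts : Prop where
  /-- elements of `O_r(C) ∩ H` centralising `v` centralise the component -/
  cent : ∀ (S : Sylow 2 G) (t v : G) (p : ℕ) (A₀ H L : Subgroup G), IIb S t v p → Over t v p A₀ H →
    CompData H L → ∀ r : ℕ, r.Prime → r ≠ 2 →
      ∀ x ∈ OO r (centI t) ⊓ H, x * v = v * x → x ∈ Subgroup.centralizer (L : Set G)
  /-- for the full `A` the four group lies in the component -/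
  mem_L : ∀ (S : Sylow 2 G) (t v : G) (p : ℕ) (H L : Subgroup G), IIb S t v p → Over t v p (fixA t v p) H →
    CompData H L → t ∈ L ∧ v ∈ L
  /-- `O_r(C) ∩ H` acts on the component as a cyclic group -/
  cyc : ∀ (S : Sylow 2 G) (t v : G) (p : ℕ) (A₀ H L : Subgroup G), IIb S t v p → Over t v p A₀ H →
    CompData H L → t ∈ L → v ∈ L → ∀ r : ℕ, r.Prime → r ≠ 2 →
      ∃ (Z : Type) (_ : Group Z) (f : ↥(OO r (centI t) ⊓ H) →* Z), IsCyclic Z ∧
        ∀ x, f x = 1 ↔ (x : G) ∈ Subgroup.centralizer (L : Set G)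

/-- Facts on the component used once the component is known not to be `A₇`. -/
structure ExtraFacts (S : Sylow 2 G) (t : G) (H L : Subgroup G) : Prop where
  /-- a reflection at `t` inverts `O_r(C) ∩ H` modulo the centraliser of the component -/
  refl : ∀ r : ℕ, r.Prime → r ≠ 2 → ∀ w ∈ H, orderOf w = 2 → w * t = t * w → w ≠ t →
    ∀ x ∈ OO r (centI t) ⊓ H, w * x * w⁻¹ * x ∈ Subgroup.centralizer (L : Set G)
  /-- if `|S| = 4`, an element of `N(S)` moves `t` and centralises `C_O(S) ∩ H` -/
  four : Nat.card S = 4 → ∃ g ∈ Subgroup.normalizer ((S : Subgroup G) : Set G), g * t * g⁻¹ ≠ t ∧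
    ∀ x ∈ coreC t, x ∈ H → (∀ s ∈ (S : Subgroup G), x * s = s * x) → g * x = x * g

end CfsgLib.GW
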