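import Cfsg.Agent.Lib.GW.IIb.LocalOver
import Mathlib.GroupTheory.FixedPointFree

/-!
(IIb) step 2: `F*(H) ≠ F(H)`, so `H` has a component.
-/

set_option autoImplicit false
set_option linter.unusedSectionVars false

namespace CfsgLib.GW

open Cfsg
open CfsgLib.BenderMax (OO)

universe u

variable {G : Type u} [Group G] [Finite G]

/-- An involution without fixed points inverts. -/
theorem inverts_of_inf_centI {U : Subgroup G} {t : G} (ht : t * t = 1) (hU : ∀ x ∈ U, t * x * t⁻¹ ∈ U)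
    (h : U ⊓ centI t = ⊥) : ∀ x ∈ U, t * x * t⁻¹ = x⁻¹ := by
  let φ : U →* U :=
    { toFun := fun x => ⟨t * x * t⁻¹, hU x x.2⟩
      map_one' := Subtype.ext (by simp)
      map_mul' := fun a b => Subtype.ext (by simp [mul_assoc]) }
  have hfix : MonoidHom.FixedPointFree φ := fun g hg => by
    have e : (g : G) ∈ U ⊓ centI t :=
      ⟨g.2, Subgroup.mem_centralizer_singleton_iff.mpr (comm_of_conj_eq (congrArg Subtype.val hg)).symm⟩
    rw [h, Subgroup.mem_bot] at e
    exact Subtype.ext e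
  have hinv : Function.Involutive φ := fun g => Subtype.ext (by
    show t * (t * g * t⁻¹) * t⁻¹ = g
    rw [inv_eq_of_mul_eq_one_left ht]
    calc t * (t * (g : G) * t) * t = (t * t) * g * (t * t) := by group
      _ = g := by rw [ht, one_mul, mul_one])
  intro x hx
  exact congrArg Subtype.val (congrFun (hfix.coe_eq_inv_of_involutive hinv) ⟨x, hx⟩)

namespace Over

variable {S : Sylow 2 G} {t v : G} {p : ℕ} {A₀ H : Subgroup G} (o : Over t v p A₀ H) (c : IIb S t v p)

include o c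

theorem pCore_two_eq_bot : Cfsg.pCore 2 H = ⊥ := by
  by_contra hne
  haveI : Fact (Nat.Prime 2) := ⟨Nat.prime_two⟩
  haveI := c.hyp.simple
  obtain ⟨y, hy, hy1, hyH, hyt⟩ := o.exists_R c
  obtain ⟨x, hx, hx1, hxH, hxv⟩ := o.exists_Q c
  set V := OO 2 H with hV
  have hVC : V ≤ centI t := o.fit_le c Nat.prime_two c.two_dvd
  have htV : t ∉ V := by
    intro h
    have e : y * t * y⁻¹ = t * (y⁻¹ * y⁻¹) := by
      have e2 : y * t = t * y⁻¹ := by
        rw [← hyt, inv_eq_of_mul_eq_one_left c.tt]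
        calc y * t = (t * t) * (y * t) := by rw [c.tt, one_mul]
          _ = t * (t * y * t) := by group
      rw [e2, mul_assoc]
    have hm : y⁻¹ * y⁻¹ ∈ V := by
      have h' := BenderMax.conj_OO hyH h
      rw [e] at h'
      simpa using mul_mem (inv_mem h) h'
    obtain ⟨k, hk⟩ := IsPGroup.iff_orderOf.1 (BenderMax.OO_isPGroup 2 H) ⟨_, hm⟩
    rw [Subgroup.orderOf_mk] at hk
    haveI := Fact.mk c.hp
    obtain ⟨l, hl⟩ := IsPGroup.iff_orderOf.1 (BenderMax.OO_isPGroup p (centI v))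
      ⟨y⁻¹ * y⁻¹, mul_mem (inv_mem hy) (inv_mem hy)⟩
    rw [Subgroup.orderOf_mk] at hl
    have h1 : orderOf (y⁻¹ * y⁻¹) = 1 := Nat.eq_one_of_dvd_coprimes
      (Nat.Coprime.pow k l ((Nat.coprime_primes Nat.prime_two c.hp).mpr (Ne.symm c.hp2))) (hk ▸ dvd_rfl)
      (hl ▸ dvd_rfl)
    refine hy1 (inv_eq_one.mp ?_)
    exact eq_one_of_inv_eq c.hp c.hp2 (BenderMax.OO_isPGroup p (centI v)) (inv_mem hy) (orderOf_eq_one_iff.mp h1)
  haveI : Nontrivial V := by
    rw [Subgroup.nontrivial_iff_ne_bot, hV, OO, Ne, Subgroup.map_eq_bot_iff_of_injective _ H.subtype_injective]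
    exact hne
  haveI := (BenderMax.OO_isPGroup 2 H).center_nontrivial
  obtain ⟨⟨z₀, hz₀⟩, hz₀o⟩ := exists_prime_orderOf_dvd_card' (G := Subgroup.center V) 2 (by
    obtain ⟨k, hk⟩ := ((BenderMax.OO_isPGroup 2 H).to_subgroup (Subgroup.center V)).exists_card_eq
    rw [hk]
    refine dvd_pow_self 2 fun hk0 => ?_
    rw [hk0, pow_zero] at hk
    exact absurd hk (Finite.one_lt_card_iff_nontrivial.mpr inferInstance).ne')
  rw [Subgroup.orderOf_mk, ← Subgroup.orderOf_coe] at hz₀o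
  set z : G := (z₀ : G) with hz
  have hzV : z ∈ V := z₀.2
  have hzc : ∀ w ∈ V, z * w = w * z := fun w hw =>
    (congrArg Subtype.val (Subgroup.mem_center_iff.mp hz₀ ⟨w, hw⟩)).symm
  have huniq : ∀ w ∈ V, orderOf w = 2 → w = z := by
    intro w hw hwo
    by_contra hne'
    have hT := isKleinFour_fourOf hz₀o hwo (Ne.symm hne') (hzc w hw)
    have hm := c.hyp.dihedral.no_eight hT c.ht fun u hu => (c.comm_t (hVC ?_)).symm
    · rcases hm with e | e | e | e
      · exact absurd (e ▸ c.ht) (by simp)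
      · exact htV (e ▸ hzV)
      · exact htV (e ▸ hw)
      · exact htV (e ▸ mul_mem hzV hw)
    · rcases (mem_fourOf _ _ _).mp hu with rfl | rfl | rfl | rfl
      exacts [one_mem _, hzV, hw, mul_mem hzV hw]
  have hHz : H ≤ centI z := fun g hg => Subgroup.mem_centralizer_singleton_iff.mpr
    (comm_of_conj_eq (huniq _ (BenderMax.conj_OO hg hzV) ((MulEquiv.orderOf_eq (MulAut.conj g) z).trans hz₀o)))
  have hHe : H = centI z := by
    rcases eq_or_lt_of_le hHz with h | h
    · exact h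
    exfalso
    have htop := o.coatom.2 _ h
    have hzcen : z ∈ Subgroup.center G := Subgroup.mem_center_iff.mpr fun g =>
      Subgroup.mem_centralizer_singleton_iff.mp (htop ▸ Subgroup.mem_top g : g ∈ centI z)
    rcases (inferInstance : (Subgroup.center G).Normal).eq_bot_or_eq_top with e | e
    · rw [e, Subgroup.mem_bot] at hzcen
      rw [hzcen, orderOf_one] at hz₀o
      omega
    · exact c.na ⟨⟨fun a b => (Subgroup.mem_center_iff.mp (e ▸ Subgroup.mem_top a) b).symm⟩⟩
  have hzt : z * t = t * z := c.comm_t (hVC hzV)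
  have hzv : z * v = v * z :=
    (Subgroup.mem_centralizer_singleton_iff.mp (hHz (o.v_mem c))).symm
  have hm := c.hyp.dihedral.no_eight (isKleinFour_fourOf c.ht c.hv (Ne.symm c.hvt) c.comm_tv) hz₀o fun u hu => by
    rcases (mem_fourOf _ _ _).mp hu with rfl | rfl | rfl | rfl
    exacts [by rw [mul_one, one_mul], hzt, hzv, (Commute.mul_right (hzt : Commute z t) hzv).eq]
  rcases hm with e | e | e | e
  · rw [e, orderOf_one] at hz₀o
    omega
  · exact o.ne_centI c (e ▸ hHe)
  · exact o.ne_centI_v c (e ▸ hHe)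
  · refine o.Q_not_comm c hx hx1 hxv ?_
    have h1 : Commute x (t * v) := Subgroup.mem_centralizer_singleton_iff.mp (e ▸ hHe ▸ hxH : x ∈ centI (t * v))
    have h2 : Commute x t := c.comm_t_core hx
    have h3 := h2.mul_right h1
    rwa [← mul_assoc, c.tt, one_mul] at h3

/-- **Step 2**. -/
theorem fit_ne : Cfsg.generalizedFittingSubgroup H ≠ Cfsg.fittingSubgroup H := by
  intro hF
  obtain ⟨y, hy, hy1, hyH, hyt⟩ := o.exists_R c
  have htH := o.t_mem c
  have htt := c.tt
  set w : G := y⁻¹ * y⁻¹ with hwdef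
  have hconj : y * t * y⁻¹ = t * w := by
    have e2 : y * t = t * y⁻¹ := by
      rw [← hyt, inv_eq_of_mul_eq_one_left htt]
      calc y * t = (t * t) * (y * t) := by rw [htt, one_mul]
        _ = t * (t * y * t) := by group
    rw [e2, mul_assoc]
  -- `t` and `y t y⁻¹` act alike on every `O_r(H)`
  have hfix : ∀ r : ℕ, r.Prime → ∀ u ∈ OO r H, u * w = w * u := by
    intro r hr u hu
    have hu' : y⁻¹ * u * y ∈ OO r H := by simpa using BenderMax.conj_OO (inv_mem hyH) hu
    have hact : ∀ z ∈ OO r H, t * z * t⁻¹ = (y * t * y⁻¹) * z * (y * t * y⁻¹)⁻¹ := by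
      intro z hz
      have hz' : y⁻¹ * z * y ∈ OO r H := by simpa using BenderMax.conj_OO (inv_mem hyH) hz
      by_cases hd : r ∣ Nat.card (Cfsg.fittingSubgroup (centI t))
      · have h1 := c.comm_t (o.fit_le c hr hd hz)
        have h2 := c.comm_t (o.fit_le c hr hd hz')
        rw [conj_eq_of_comm h1.symm]
        calc z = y * (y⁻¹ * z * y) * y⁻¹ := by group
          _ = y * (t * (y⁻¹ * z * y) * t⁻¹) * y⁻¹ := by rw [conj_eq_of_comm h2.symm]
          _ = _ := by group
      · have h1 := inverts_of_inf_centI htt (fun z hz => BenderMax.conj_OO htH hz) (o.fit_meet c hr hd)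
        calc t * z * t⁻¹ = z⁻¹ := h1 z hz
          _ = y * (y⁻¹ * z * y)⁻¹ * y⁻¹ := by group
          _ = y * (t * (y⁻¹ * z * y) * t⁻¹) * y⁻¹ := by rw [h1 _ hz']
          _ = _ := by group
    refine (comm_of_conj_eq ?_).symm
    have h3 := hact u hu
    rw [hconj] at h3
    calc w * u * w⁻¹ = t⁻¹ * (t * w * u * (t * w)⁻¹) * t := by group
      _ = t⁻¹ * (t * u * t⁻¹) * t := by rw [← h3]
      _ = u := by group
  have hwH : w ∈ H := mul_mem (inv_mem hyH) (inv_mem hyH)
  have hwF : (⟨w, hwH⟩ : H) ∈ Cfsg.fittingSubgroup H := by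
    rw [← hF]
    refine CfsgLib.centralizer_generalizedFitting_le (Subgroup.mem_centralizer_iff.mpr ?_)
    rw [hF]
    have hle : Cfsg.fittingSubgroup H ≤ Subgroup.centralizer ({⟨w, hwH⟩} : Set H) := by
      rw [CfsgLib.fittingSubgroup_eq_iSup_pCore]
      refine iSup_le fun r z hz => Subgroup.mem_centralizer_singleton_iff.mpr (Subtype.ext ?_)
      exact hfix r r.2 z ⟨z, hz, rfl⟩
    exact fun z hz => Subgroup.mem_centralizer_singleton_iff.mp (hle hz)
  haveI := Fact.mk c.hp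
  obtain ⟨k, hk⟩ := IsPGroup.iff_orderOf.1 (BenderMax.OO_isPGroup p (centI v))
    ⟨w, mul_mem (inv_mem hy) (inv_mem hy)⟩
  rw [Subgroup.orderOf_mk] at hk
  have hpg : IsPGroup p (Subgroup.zpowers (⟨⟨w, hwH⟩, hwF⟩ : Cfsg.fittingSubgroup H)) :=
    IsPGroup.of_card (n := k) (by rw [Nat.card_zpowers, Subgroup.orderOf_mk, Subgroup.orderOf_mk, hk])
  obtain ⟨R, hR⟩ := hpg.exists_le_sylow
  have hwO : w ∈ OO p H := by
    rw [← BenderMax.sylow_fitting_eq H R]
    exact ⟨_, ⟨_, hR (Subgroup.mem_zpowers _), rfl⟩, rfl⟩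
  have hwt := c.comm_t (o.fit_le c c.hp c.p_dvd hwO)
  have e1 : t * w * t⁻¹ = w⁻¹ := by
    calc t * w * t⁻¹ = (t * y * t⁻¹)⁻¹ * (t * y * t⁻¹)⁻¹ := by rw [hwdef]; group
      _ = w⁻¹ := by rw [hyt, hwdef, mul_inv_rev]
  rw [conj_eq_of_comm hwt.symm] at e1
  have h1 : w = 1 := eq_one_of_inv_eq c.hp c.hp2 (BenderMax.OO_isPGroup p (centI v))
    (mul_mem (inv_mem hy) (inv_mem hy)) (eq_inv_iff_mul_eq_one.mp e1)
  exact hy1 (inv_eq_one.mp (eq_one_of_inv_eq c.hp c.hp2 (BenderMax.OO_isPGroup p (centI v)) (inv_mem hy) h1))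

/-- `H` has a component. -/
theorem exists_component : ∃ L : Subgroup H, Cfsg.IsComponent L :=
  c.hyp.exists_component H (o.fit_ne c)

end Over

end CfsgLib.GW
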