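import Cfsg.Agent.Lib.GW.IIb.LocalUnique
import Cfsg.Agent.Lib.GW.Model.Seven
import Cfsg.Agent.Lib.GW.Model.NoField

/-!
(IIb): the frames of the component of `H`, seen from `G`.
-/

set_option autoImplicit false
set_option linter.unusedSectionVars false

namespace CfsgLib.GW

open Cfsg
open CfsgLib.BenderMax (OO)

universe u

variable {G : Type u} [Group G] [Finite G]

omit [Finite G] in
/-- An involution in `N W`, `W` of odd order and `N` normal, lies in `N`. -/
theorem mem_of_sq_mem_sup {K : Type*} [Group K] [Finite K] {N W : Subgroup K} [N.Normal] (hW : Odd (Nat.card W))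
    {x : K} (hx : x * x = 1) (hmem : x ∈ N ⊔ W) : x ∈ N := by
  obtain ⟨n, hn, w, hw, e⟩ := Subgroup.mem_sup_of_normal_left.mp hmem
  set f := QuotientGroup.mk' N
  have h1 : f x = f w := by rw [← e, map_mul, show f n = 1 from (QuotientGroup.eq_one_iff n).mpr hn, one_mul]
  have h2 : orderOf (f x) ∣ 2 := orderOf_dvd_of_pow_eq_one (by rw [← map_pow, sq, hx, map_one])
  have h3 : orderOf (f x) ∣ Nat.card W := by
    rw [h1]; exact (orderOf_map_dvd f w).trans (Subgroup.orderOf_dvd_natCard W hw)
  exact (QuotientGroup.eq_one_iff x).mp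
    (orderOf_eq_one_iff.mp (Nat.eq_one_of_dvd_coprimes (Nat.coprime_two_left.mpr hW) h2 h3))

omit [Finite G] in
theorem odd_orderOf_map {K M : Type*} [Group K] [Finite K] [Group M] (f : K →* M) {x : K} (h : Odd (orderOf x)) :
    Odd (orderOf (f x)) := h.of_dvd_nat (orderOf_map_dvd f x)

namespace CompData

variable {H L : Subgroup G} (d : CompData H L)

include d

theorem mem_cent_iff {x : H} :
    x ∈ Subgroup.centralizer ((L.subgroupOf H : Subgroup H) : Set H) ↔ (x : G) ∈ Subgroup.centralizer (L : Set G) := by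
  simp only [Subgroup.mem_centralizer_iff]
  constructor
  · intro h l hl
    exact congrArg Subtype.val (h ⟨l, d.le hl⟩ hl)
  · intro h l hl
    exact Subtype.ext (h (l : G) hl)

theorem normal' : (L.subgroupOf H).Normal := (Subgroup.normal_subgroupOf_iff_le_normalizer d.le).mpr d.norm

theorem odd_cent : Odd (Nat.card (Subgroup.centralizer ((L.subgroupOf H : Subgroup H) : Set H))) := by
  refine d.W_odd.of_dvd_nat ?_
  rw [← Subgroup.card_map_of_injective H.subtype_injective]
  refine Subgroup.card_dvd_of_le ?_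
  rintro _ ⟨x, hx, rfl⟩
  exact ⟨x.2, d.mem_cent_iff.mp hx⟩

theorem not_cent_of_invol {x : H} (hx : orderOf x = 2) :
    x ∉ Subgroup.centralizer ((L.subgroupOf H : Subgroup H) : Set H) := fun h => by
  have h1 := Subgroup.orderOf_dvd_natCard _ h
  rw [hx] at h1
  exact (Nat.not_even_iff_odd.mpr d.odd_cent) (even_iff_two_dvd.mpr h1)

theorem exists_frame (h : GWHyp G) (hH : H ≠ ⊤) :
    Nonempty (PSLFrame H (L.subgroupOf H)) ∨ Nonempty (SevenFrame H (L.subgroupOf H)) :=
  (h.exists_frame H hH d.comp).1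

end CompData

namespace Over

variable {S : Sylow 2 G} {t v : G} {p : ℕ} {A₀ H : Subgroup G} (o : Over t v p A₀ H) (c : IIb S t v p)

/-- `t` in `H`. -/
def tH : H := ⟨t, o.t_mem c⟩

/-- `v` in `H`. -/
def vH : H := ⟨v, o.v_mem c⟩

include o c

theorem tH_order : orderOf (o.tH c) = 2 := by rw [Over.tH, Subgroup.orderOf_mk, c.ht]

theorem vH_order : orderOf (o.vH c) = 2 := by rw [Over.vH, Subgroup.orderOf_mk, c.hv]

theorem tvH_comm : o.tH c * o.vH c = o.vH c * o.tH c := Subtype.ext c.comm_tv

theorem tvH_order : orderOf (o.tH c * o.vH c) = 2 := by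
  rw [← Subgroup.orderOf_coe]; exact c.tv_order

/-- `O_r(C)` in `H` is normalised by `C_H(t)` and centralised by `t`. -/
theorem core_facts (r : ℕ) [Fact r.Prime] :
    IsPGroup r ((OO r (centI t)).subgroupOf H) ∧
      (OO r (centI t)).subgroupOf H ≤ Subgroup.centralizer ({o.tH c} : Set H) ∧
      Subgroup.centralizer ({o.tH c} : Set H) ≤ Subgroup.normalizer (((OO r (centI t)).subgroupOf H : Subgroup H) : Set H) := by
  refine ⟨(BenderMax.OO_isPGroup r (centI t)).comap_of_injective _ H.subtype_injective, fun x hx => ?_, fun g hg => ?_⟩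
  · exact Subgroup.mem_centralizer_singleton_iff.mpr (Subtype.ext (c.comm_t_core hx))
  · refine Subgroup.mem_normalizer_fintype fun x hx => ?_
    exact BenderMax.conj_OO (Subgroup.mem_centralizer_singleton_iff.mpr
      (congrArg Subtype.val (Subgroup.mem_centralizer_singleton_iff.mp hg))) hx

/-- `O_p(C(v))` in `H` is normalised by `C_H(v)` and centralised by `v`. -/
theorem core_v_facts :
    IsPGroup p ((OO p (centI v)).subgroupOf H) ∧
      (OO p (centI v)).subgroupOf H ≤ Subgroup.centralizer ({o.vH c} : Set H) ∧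
      Subgroup.centralizer ({o.vH c} : Set H) ≤ Subgroup.normalizer (((OO p (centI v)).subgroupOf H : Subgroup H) : Set H) := by
  refine ⟨(BenderMax.OO_isPGroup p (centI v)).comap_of_injective _ H.subtype_injective, fun x hx => ?_, fun g hg => ?_⟩
  · exact Subgroup.mem_centralizer_singleton_iff.mpr (Subtype.ext
      (Subgroup.mem_centralizer_singleton_iff.mp (Subgroup.map_subtype_le _ hx)))
  · refine Subgroup.mem_normalizer_fintype fun x hx => ?_
    exact BenderMax.conj_OO (Subgroup.mem_centralizer_singleton_iff.mpr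
      (congrArg Subtype.val (Subgroup.mem_centralizer_singleton_iff.mp hg))) hx

theorem odd_order_core {r : ℕ} (hr : r.Prime) (hr2 : r ≠ 2) {x : H} (hx : (x : G) ∈ OO r (centI t)) :
    ∃ k : ℕ, orderOf x = r ^ k ∧ Odd (orderOf x) := by
  haveI := Fact.mk hr
  obtain ⟨k, hk⟩ := IsPGroup.iff_orderOf.1 (BenderMax.OO_isPGroup r (centI t)) ⟨(x : G), hx⟩
  rw [Subgroup.orderOf_mk, Subgroup.orderOf_coe] at hk
  exact ⟨k, hk, hk ▸ (hr.odd_of_ne_two hr2).pow⟩

end Over

end CfsgLib.GW
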