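import Cfsg.Agent.Lib.GW.IIb.LocalUnique

/-!
(IIb) step 5, (U3) and (U4): the parts of `O_r(C) ∩ H`.
-/

set_option autoImplicit false
set_option linter.unusedSectionVars false

namespace CfsgLib.GW

open Cfsg
open CfsgLib.BenderMax (OO)

universe u

variable {G : Type u} [Group G]

/-- The elements of `U` inverted by `v` (for abelian `U`). -/
def invSub (U : Subgroup G) (v : G) : Subgroup G := Subgroup.closure {x | x ∈ U ∧ v * x * v⁻¹ = x⁻¹}

theorem invSub_le (U : Subgroup G) (v : G) : invSub U v ≤ U :=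
  (Subgroup.closure_le U).mpr fun _ hx => hx.1

theorem mem_invSub {U : Subgroup G} {v : G} (hU : ∀ x ∈ U, ∀ y ∈ U, x * y = y * x) {x : G} :
    x ∈ invSub U v ↔ x ∈ U ∧ v * x * v⁻¹ = x⁻¹ := by
  refine ⟨fun h => ?_, fun h => Subgroup.subset_closure h⟩
  refine ⟨invSub_le U v h, ?_⟩
  induction h using Subgroup.closure_induction with
  | mem x hx => exact hx.2
  | one => simp
  | mul x y hx hy ihx ihy =>
    calc v * (x * y) * v⁻¹ = v * x * v⁻¹ * (v * y * v⁻¹) := by group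
      _ = x⁻¹ * y⁻¹ := by rw [ihx, ihy]
      _ = (x * y)⁻¹ := by rw [← mul_inv_rev, hU y (invSub_le U v hy) x (invSub_le U v hx)]
  | inv x hx ih =>
    calc v * x⁻¹ * v⁻¹ = (v * x * v⁻¹)⁻¹ := by group
      _ = x⁻¹⁻¹ := by rw [ih]

variable [Finite G]

namespace IIb

variable {S : Sylow 2 G} {t v : G} {p : ℕ} (c : IIb S t v p)

include c

theorem normalizer_OO {r : ℕ} (hne : OO r (centI t) ≠ ⊥) :
    Subgroup.normalizer (OO r (centI t) : Set G) = centI t := by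
  haveI := c.hyp.simple
  have hle : centI t ≤ Subgroup.normalizer (OO r (centI t) : Set G) :=
    fun a ha => Subgroup.mem_normalizer_fintype fun x hx => BenderMax.conj_OO ha hx
  rcases eq_or_lt_of_le hle with h | h
  · exact h.symm
  exfalso
  haveI : (OO r (centI t)).Normal := Subgroup.normalizer_eq_top_iff.1 (c.maximal.2 _ h)
  rcases (inferInstance : (OO r (centI t)).Normal).eq_bot_or_eq_top with e | e
  · exact hne e
  · exact c.maximal.1 (top_le_iff.mp (e ▸ Subgroup.map_subtype_le _))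

theorem exists_not_mem {K : Subgroup G} (hK : IsCoatom K) (hne : K ≠ centI t) : ∃ x ∈ centI t, x ∉ K := by
  by_contra h
  push Not at h
  rcases eq_or_lt_of_le (show centI t ≤ K from h) with e | e
  · exact hne e.symm
  · exact hK.1 (c.maximal.2 _ e)

end IIb

namespace Main

variable {S : Sylow 2 G} {t v : G} {p : ℕ} {H L : Subgroup G} (m : Main S t v p H L)

/-- `Q_r`. -/
noncomputable def Qr (_m : Main S t v p H L) (r : ℕ) : Subgroup G := invSub (OO r (centI t) ⊓ L) v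

include m

theorem OL_le {r : ℕ} : OO r (centI t) ⊓ L ≤ OO r (centI t) ⊓ H := inf_le_inf_left _ m.comp.le

theorem OL_comm {r : ℕ} (hr : r.Prime) (hr2 : r ≠ 2) :
    ∀ x ∈ OO r (centI t) ⊓ L, ∀ y ∈ OO r (centI t) ⊓ L, x * y = y * x := by
  obtain ⟨Z, hZg, f, hcyc, hf⟩ :=
    m.facts.cyc S t v p _ H L m.conf m.over' m.comp m.t_mem m.v_mem r hr hr2
  haveI := hcyc
  let g : ↥(OO r (centI t) ⊓ L) →* Z := f.comp (Subgroup.inclusion m.OL_le)
  have hg : g.ker ≤ Subgroup.center ↥(OO r (centI t) ⊓ L) := fun x hx => Subgroup.mem_center_iff.mpr fun y => by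
    refine Subtype.ext ?_
    exact Subgroup.mem_centralizer_iff.mp ((hf _).mp hx) y y.2.2
  intro x hx y hy
  exact congrArg Subtype.val (commutative_of_cyclic_center_quotient g hg ⟨x, hx⟩ ⟨y, hy⟩)

theorem mem_Qr {r : ℕ} (hr : r.Prime) (hr2 : r ≠ 2) {x : G} :
    x ∈ m.Qr r ↔ (x ∈ OO r (centI t) ∧ x ∈ L) ∧ v * x * v⁻¹ = x⁻¹ :=
  mem_invSub (m.OL_comm hr hr2)

theorem Qr_le (r : ℕ) : m.Qr r ≤ OO r (centI t) ⊓ L := invSub_le _ _

theorem Qr_le_OH (r : ℕ) : m.Qr r ≤ OO r (centI t) ⊓ H := (m.Qr_le r).trans m.OL_le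

theorem Qr_meet {r : ℕ} (hr : r.Prime) (hr2 : r ≠ 2) {x : G} (hx : x ∈ m.Qr r)
    (hxL : x ∈ Subgroup.centralizer (L : Set G)) : x = 1 := by
  obtain ⟨hxO, hxv⟩ := (m.mem_Qr hr hr2).mp hx
  rw [conj_eq_of_comm (Subgroup.mem_centralizer_iff.mp hxL v m.v_mem)] at hxv
  exact eq_one_of_inv_eq hr hr2 (BenderMax.OO_isPGroup r (centI t)) hxO.1 (eq_inv_iff_mul_eq_one.mp hxv)

theorem split {r : ℕ} (hr : r.Prime) (hr2 : r ≠ 2) {x : G} (hx : x ∈ OO r (centI t) ⊓ H) :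
    ∃ a ∈ OO r (centI t) ⊓ H, a ∈ Subgroup.centralizer (L : Set G) ∧ ∃ z ∈ m.Qr r, x = a * z := by
  have c := m.conf
  haveI := Fact.mk hr
  have hvv := c.vv
  have hvi : v⁻¹ = v := inv_eq_of_mul_eq_one_left hvv
  set y := x⁻¹ * (v * x * v⁻¹) with hy
  have hvx : v * x * v⁻¹ ∈ OO r (centI t) := BenderMax.conj_OO c.v_mem hx.1
  have hyO : y ∈ OO r (centI t) := mul_mem (inv_mem hx.1) hvx
  have hyL : y ∈ L := by
    have h1 : x⁻¹ * v * x ∈ L := by simpa using m.comp.conj_mem (H.inv_mem hx.2) m.v_mem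
    rw [hy, hvi, show x⁻¹ * (v * x * v) = x⁻¹ * v * x * v by group]
    exact mul_mem h1 m.v_mem
  have hyv : v * y * v⁻¹ = y⁻¹ := by
    rw [hy, hvi]
    simp only [mul_inv_rev, inv_inv, hvi]
    calc v * (x⁻¹ * (v * x * v)) * v = v * x⁻¹ * v * x * (v * v) := by group
      _ = v * (x⁻¹ * v) * x := by rw [hvv, mul_one]; group
  obtain ⟨k, hk⟩ := IsPGroup.iff_orderOf.1 (BenderMax.OO_isPGroup r (centI t)) ⟨y, hyO⟩
  rw [Subgroup.orderOf_mk] at hk
  obtain ⟨j, hj⟩ := (hr.odd_of_ne_two hr2).pow (n := k)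
  have hzQ : y ^ (j + 1) ∈ m.Qr r :=
    pow_mem ((m.mem_Qr hr hr2).mpr ⟨⟨hyO, hyL⟩, hyv⟩) _
  have hzz : y ^ (j + 1) * y ^ (j + 1) = y := by
    rw [← pow_add, show j + 1 + (j + 1) = orderOf y + 1 by omega, pow_succ, pow_orderOf_eq_one, one_mul]
  set z := y ^ (j + 1) with hz
  have hzH := m.Qr_le_OH r hzQ
  have hzv : v * z * v⁻¹ = z⁻¹ := ((m.mem_Qr hr hr2).mp hzQ).2
  have haH : x * z ∈ OO r (centI t) ⊓ H := mul_mem hx hzH
  refine ⟨x * z, haH, (m.cent_iff hr hr2 haH).mpr (comm_of_conj_eq ?_).symm, z⁻¹, inv_mem hzQ, by group⟩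
  calc v * (x * z) * v⁻¹ = x * (x⁻¹ * (v * x * v⁻¹)) * (v * z * v⁻¹) := by group
    _ = x * y * z⁻¹ := by rw [hzv, hy]
    _ = x * (z * z) * z⁻¹ := by rw [hzz]
    _ = x * z := by group

theorem Qr_cyclic {r : ℕ} (hr : r.Prime) (hr2 : r ≠ 2) : IsCyclic (m.Qr r) := by
  obtain ⟨Z, hZg, f, hcyc, hf⟩ :=
    m.facts.cyc S t v p _ H L m.conf m.over' m.comp m.t_mem m.v_mem r hr hr2
  haveI := hcyc
  refine isCyclic_of_injective (f.comp (Subgroup.inclusion (m.Qr_le_OH r))) ?_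
  refine (injective_iff_map_eq_one _).mpr fun x hx => Subtype.ext ?_
  exact m.Qr_meet hr hr2 x.2 ((hf _).mp hx)

theorem Qr_ne {r : ℕ} (hr : r.Prime) (hr2 : r ≠ 2) (hne : OO r (centI t) ≠ ⊥) : m.Qr r ≠ ⊥ := by
  intro e
  have hR : ∀ x ∈ OO r (centI t) ⊓ H, x ∈ Subgroup.centralizer (L : Set G) := fun x hx => by
    obtain ⟨a, -, haL, z, hz, rfl⟩ := m.split hr hr2 hx
    rw [e, Subgroup.mem_bot] at hz
    rwa [hz, mul_one]
  by_cases hrp : r = p
  · subst hrp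
    obtain ⟨x, hx, hx1, hxH, hxv⟩ := m.over'.exists_Q m.conf
    exact m.over'.Q_not_comm m.conf hx hx1 hxv ((m.cent_iff hr hr2 ⟨hx, hxH⟩).mp (hR x ⟨hx, hxH⟩))
  · refine m.comp.not_le_solvable m.conf.solvable ?_
    rw [← m.conf.normalizer_OO hne]
    refine le_trans (Subgroup.le_centralizer_iff.mp fun x hx => ?_) (Subgroup.centralizer_le_normalizer _)
    exact hR x ⟨hx, m.over'.core_le m.conf hr hrp hx⟩

theorem exists_outside :
    ∃ x ∈ centI t, x ∉ H ∧ ∀ a ∈ fixA t v p, x * a * x⁻¹ ∈ OO p (centI t) ⊓ H := by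
  have c := m.conf
  haveI := Fact.mk c.hp
  by_cases hPH : OO p (centI t) ≤ H
  · obtain ⟨x, hx, hxH⟩ := c.exists_not_mem m.over'.coatom (m.over'.ne_centI c)
    exact ⟨x, hx, hxH, fun a ha =>
      ⟨BenderMax.conj_OO hx (mem_fixA.mp ha).1, hPH (BenderMax.conj_OO hx (mem_fixA.mp ha).1)⟩⟩
  · haveI := (BenderMax.OO_isPGroup p (centI t)).isNilpotent
    set B := (H.subgroupOf (OO p (centI t)))
    have hB : B < ⊤ := lt_top_iff_ne_top.mpr fun h => hPH (Subgroup.subgroupOf_eq_top.mp h)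
    obtain ⟨x, hxN, hxB⟩ := SetLike.exists_of_lt (Group.normalizerCondition_of_isNilpotent B hB)
    refine ⟨x, Subgroup.map_subtype_le _ x.2, fun h => hxB h, fun a ha => ?_⟩
    refine ⟨(OO p (centI t)).mul_mem ((OO p (centI t)).mul_mem x.2 (mem_fixA.mp ha).1) ((OO p (centI t)).inv_mem x.2), ?_⟩
    exact (Subgroup.mem_normalizer_iff.mp hxN ⟨a, (mem_fixA.mp ha).1⟩).mp (m.A_le_H ha)

/-- **(U3)**: `A` is cyclic. -/
theorem A_cyclic : IsCyclic (fixA t v p) := by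
  obtain ⟨x, hxC, hxH, hconj⟩ := m.exists_outside
  obtain ⟨Z, hZg, f, hcyc, hf⟩ :=
    m.facts.cyc S t v p _ H L m.conf m.over' m.comp m.t_mem m.v_mem p m.conf.hp m.conf.hp2
  haveI := hcyc
  let g : fixA t v p →* ↥(OO p (centI t) ⊓ H) :=
    ((MulAut.conj x).toMonoidHom.comp (fixA t v p).subtype).codRestrict _ fun a => hconj a a.2
  refine isCyclic_of_injective (f.comp g) ?_
  refine (injective_iff_map_eq_one _).mpr fun a ha => Subtype.ext ?_
  exact m.meet_conj hxH a.2 (m.A_eq.mpr ⟨hconj a a.2, (hf _).mp ha⟩)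

/-- `O_p(C) ∩ H` is abelian. -/
theorem PH_comm : ∀ x ∈ OO p (centI t) ⊓ H, ∀ y ∈ OO p (centI t) ⊓ H, x * y = y * x := by
  have hp := m.conf.hp
  have hp2 := m.conf.hp2
  haveI := m.A_cyclic
  intro x hx y hy
  obtain ⟨a, ha, haL, z, hz, rfl⟩ := m.split hp hp2 hx
  obtain ⟨b, hb, hbL, w, hw, rfl⟩ := m.split hp hp2 hy
  have haA : a ∈ fixA t v p := m.A_eq.mpr ⟨ha, haL⟩
  have hbA : b ∈ fixA t v p := m.A_eq.mpr ⟨hb, hbL⟩
  obtain ⟨g, hg⟩ := IsCyclic.exists_generator (α := fixA t v p)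
  obtain ⟨i, hi⟩ := Subgroup.mem_zpowers_iff.mp (hg ⟨a, haA⟩)
  obtain ⟨j, hj⟩ := Subgroup.mem_zpowers_iff.mp (hg ⟨b, hbA⟩)
  have hab : Commute a b := by
    have e1 := congrArg Subtype.val hi
    have e2 := congrArg Subtype.val hj
    simp only [SubgroupClass.coe_zpow] at e1 e2
    rw [← e1, ← e2]
    exact Commute.zpow_zpow_self _ _ _
  have haw : Commute a w := (Subgroup.mem_centralizer_iff.mp haL w ((m.Qr_le p hw).2)).symm
  have hzb : Commute z b := Subgroup.mem_centralizer_iff.mp hbL z ((m.Qr_le p hz).2)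
  have hzw : Commute z w := m.OL_comm hp hp2 z (m.Qr_le p hz) w (m.Qr_le p hw)
  exact ((hab.mul_right haw).mul_left (hzb.mul_right hzw)).eq

/-- `O_p(C) ∩ H` is the centraliser in `O_p(C)` of every non-trivial element of `A`. -/
theorem mem_PH_iff {a : G} (ha : a ∈ fixA t v p) (ha1 : a ≠ 1) {x : G} (hx : x ∈ OO p (centI t)) :
    x ∈ H ↔ x * a = a * x :=
  ⟨fun h => m.PH_comm x ⟨hx, h⟩ a ⟨(mem_fixA.mp ha).1, m.A_le_H ha⟩,
    fun h => m.centralizer_le ha ha1 (Subgroup.mem_centralizer_singleton_iff.mpr h)⟩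

/-- **(U4)**: a second mixed prime has the same `H` and forces `O_p(C) ≤ H`. -/
theorem mixed {r : ℕ} (hr : r.Prime) (hr2 : r ≠ 2) (hrp : r ≠ p) (hne : fixA t v r ≠ ⊥) :
    Main S t v r H L := by
  have c := m.conf
  have hOr : OO r (centI t) ≠ ⊥ := ne_bot_of_le_ne_bot hne inf_le_left
  have hmoved : ∃ x ∈ OO r (centI t), x * v ≠ v * x := by
    obtain ⟨z, hz, hz1⟩ := (Subgroup.bot_or_exists_ne_one (m.Qr r)).resolve_left (m.Qr_ne hr hr2 hOr)
    refine ⟨z, (m.Qr_le r hz).1, fun e => hz1 (m.Qr_meet hr hr2 hz ?_)⟩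
    exact (m.cent_iff hr hr2 (m.Qr_le_OH r hz)).mpr e
  obtain ⟨a, ha, ha1⟩ := (Subgroup.bot_or_exists_ne_one (fixA t v r)).resolve_left hne
  have c' : IIb S t v r := ⟨c.hyp, c.ht, c.htS, c.htZ, c.hv, c.hvS, c.hvt, c.maximal, hr, hr2,
    ⟨a, (mem_fixA.mp ha).1, ha1, (mem_fixA.mp ha).2⟩, hmoved⟩
  obtain ⟨H', L', m'⟩ := c'.exists_main m.facts
  have hPH' : OO p (centI t) ≤ H' := m'.over'.core_le c' c.hp (Ne.symm hrp)
  have h2 : L' ≤ H := by
    refine le_trans (Subgroup.le_centralizer_iff.mp fun b hb => ?_)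
      ((Subgroup.centralizer_le_normalizer _).trans m.over'.norm)
    exact (m'.cent_iff c.hp c.hp2 ⟨(mem_fixA.mp hb).1, hPH' (mem_fixA.mp hb).1⟩).mpr (mem_fixA.mp hb).2
  have h1 : L ≤ H' := by
    refine le_trans (Subgroup.le_centralizer_iff.mp fun b hb => ?_)
      ((Subgroup.centralizer_le_normalizer _).trans m'.over'.norm)
    exact (m.cent_iff hr hr2 ⟨(mem_fixA.mp hb).1, m.over'.core_le c hr hrp (mem_fixA.mp hb).1⟩).mpr
      (mem_fixA.mp hb).2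
  obtain ⟨e1, e2⟩ := m.comp.eq_of_le m'.comp c.hyp m.over'.coatom m'.over'.coatom h1 h2
  subst e1 e2
  exact m'

theorem P_le_of_mixed {r : ℕ} (hr : r.Prime) (hr2 : r ≠ 2) (hrp : r ≠ p) (hne : fixA t v r ≠ ⊥) :
    OO p (centI t) ≤ H :=
  (m.mixed hr hr2 hrp hne).over'.core_le (m.mixed hr hr2 hrp hne).conf m.conf.hp (Ne.symm hrp)

theorem fixA_cyclic {r : ℕ} (hr : r.Prime) (hr2 : r ≠ 2) : IsCyclic (fixA t v r) := by
  by_cases hrp : r = p
  · subst hrp; exact m.A_cyclic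
  by_cases hne : fixA t v r = ⊥
  · rw [hne]; infer_instance
  · exact (m.mixed hr hr2 hrp hne).A_cyclic

end Main

end CfsgLib.GW
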