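import Cfsg.Agent.Lib.GW.IIb.LocalFrame
import Cfsg.Agent.Lib.GW.IIb.LocalSplit

/-!
(IIb) steps 3 and 4 when the component is `A₇`.
-/

set_option autoImplicit false
set_option linter.unusedSectionVars false

namespace CfsgLib.GW

open Cfsg CfsgLib.DihedralFusion
open CfsgLib.BenderMax (OO)

universe u

variable {G : Type u} [Group G] [Finite G]

variable {S : Sylow 2 G} {t v : G} {p : ℕ} {A₀ H L : Subgroup G} (o : Over t v p A₀ H) (c : IIb S t v p)
  (d : CompData H L) (fr : SevenFrame H (L.subgroupOf H))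

include o c d fr

theorem seven_invol_mem {x : H} (hx : x * x = 1) : (x : G) ∈ L := by
  haveI := d.normal'
  refine Subgroup.mem_subgroupOf.mp (mem_of_sq_mem_sup (N := L.subgroupOf H) d.odd_cent hx ?_)
  obtain ⟨l, hl, e⟩ := fr.map_L.symm.le (Subgroup.mem_top (fr.π x))
  have hw : l⁻¹ * x ∈ Subgroup.centralizer ((L.subgroupOf H : Subgroup H) : Set H) := by
    rw [← fr.ker_eq, MonoidHom.mem_ker, map_mul, map_inv, e, inv_mul_cancel]
  simpa using Subgroup.mul_mem_sup hl hw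

theorem seven_t : fr.π (o.tH c) * fr.π (o.tH c) = 1 ∧ fr.π (o.tH c) ≠ 1 := by
  refine ⟨?_, fun e => d.not_cent_of_invol (o.tH_order c) (fr.ker_eq ▸ MonoidHom.mem_ker.mpr e)⟩
  rw [← map_mul, Involutions.mul_self_eq_one_of_orderOf (o.tH_order c), map_one]

theorem seven_cent_iff {x : H} : fr.π x = 1 ↔ (x : G) ∈ Subgroup.centralizer (L : Set G) := by
  rw [← d.mem_cent_iff, ← fr.ker_eq, MonoidHom.mem_ker]

theorem seven_pi_comm {x : H} (hx : (x : G) * t = t * x) : fr.π x * fr.π (o.tH c) = fr.π (o.tH c) * fr.π x := by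
  rw [← map_mul, ← map_mul]
  exact congrArg fr.π (Subtype.ext hx)

/-- An element of `O_r(C) ∩ H` centralising `v` centralises the component. -/
theorem seven_core_cent {r : ℕ} (hr : r.Prime) (hr2 : r ≠ 2) {x : G} (hx : x ∈ OO r (centI t) ⊓ H)
    (hxv : x * v = v * x) : x ∈ Subgroup.centralizer (L : Set G) := by
  obtain ⟨h2, h1⟩ := seven_t o c d fr
  have hvL : v ∈ L :=
    seven_invol_mem o c d fr (x := o.vH c) (Involutions.mul_self_eq_one_of_orderOf (o.vH_order c))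
  obtain ⟨y, hy, hy1, hyH, hyv⟩ := o.exists_Q c
  have hyne : fr.π ⟨y, hyH⟩ ≠ 1 := fun e => o.Q_not_comm c hy hy1 hyv
    (Subgroup.mem_centralizer_iff.mp ((seven_cent_iff o c d fr).mp e) v hvL).symm
  have hinv : fr.π (o.vH c) * fr.π ⟨y, hyH⟩ * (fr.π (o.vH c))⁻¹ = (fr.π ⟨y, hyH⟩)⁻¹ := by
    rw [← map_inv, ← map_mul, ← map_mul, ← map_inv]
    exact congrArg fr.π (Subtype.ext hyv)
  have h := Model.seven_inverted (a := fr.π (o.tH c)) (b := fr.π (o.vH c)) (x := fr.π ⟨y, hyH⟩)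
    (y := fr.π ⟨x, hx.2⟩) h2 h1 (seven_pi_comm o c d fr (c.comm_t_core hy))
    (odd_orderOf_map fr.π (o.odd_order_core c c.hp c.hp2 (x := ⟨y, hyH⟩) hy).choose_spec.2) hinv hyne
    (seven_pi_comm o c d fr (c.comm_t_core hx.1))
    (by rw [← map_mul, ← map_mul]; exact congrArg fr.π (Subtype.ext hxv))
    (odd_orderOf_map fr.π (o.odd_order_core c hr hr2 (x := ⟨x, hx.2⟩) hx.1).choose_spec.2)
  exact (seven_cent_iff o c d fr (x := ⟨x, hx.2⟩)).mp h

theorem seven_mem_L : t ∈ L ∧ v ∈ L :=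
  ⟨seven_invol_mem o c d fr (x := o.tH c) (Involutions.mul_self_eq_one_of_orderOf (o.tH_order c)),
    seven_invol_mem o c d fr (x := o.vH c) (Involutions.mul_self_eq_one_of_orderOf (o.vH_order c))⟩

/-- `O_r(C) ∩ H` acts as a cyclic group. -/
theorem seven_core_cyc {r : ℕ} (hr : r.Prime) (hr2 : r ≠ 2) :
    ∃ (Z : Type) (_ : Group Z) (f : ↥(OO r (centI t) ⊓ H) →* Z), IsCyclic Z ∧
      ∀ x, f x = 1 ↔ (x : G) ∈ Subgroup.centralizer (L : Set G) := by
  obtain ⟨h2, h1⟩ := seven_t o c d fr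
  obtain ⟨cc, b, -, -, -, -, -, -, hall⟩ := Model.seven_cent h2 h1
  let f : ↥(OO r (centI t) ⊓ H) →* alternatingGroup (Fin 7) := fr.π.comp (Subgroup.inclusion inf_le_right)
  have hmem : ∀ x, f x ∈ Subgroup.zpowers cc := by
    intro x
    rcases hall (f x) (seven_pi_comm o c d fr (c.comm_t_core x.2.1))
      (odd_orderOf_map fr.π (o.odd_order_core c hr hr2 x.2.1).choose_spec.2) with e | e | e <;> rw [e]
    exacts [one_mem _, Subgroup.mem_zpowers _, inv_mem (Subgroup.mem_zpowers _)]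
  refine ⟨Subgroup.zpowers cc, inferInstance, f.codRestrict _ hmem, inferInstance, fun x => ?_⟩
  rw [Subtype.ext_iff]
  exact seven_cent_iff o c d fr

end CfsgLib.GW
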