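import Cfsg.Agent.Lib.GW.IIb.LocalPslMem
import Cfsg.Agent.Lib.GW.IIb.LocalSeven

/-!
(IIb) steps 3 and 4 hold.
-/

set_option autoImplicit false
set_option linter.unusedSectionVars false

namespace CfsgLib.GW

open Cfsg

universe u

variable {G : Type u} [Group G] [Finite G]

theorem modelFacts : ModelFacts G where
  cent S t v p A₀ H L c o d r hr hr2 x hx hxv := by
    rcases d.exists_frame c.hyp o.ne_top with ⟨⟨fr⟩⟩ | ⟨⟨fr⟩⟩
    · exact psl_cent o c d fr hr hr2 hx hxv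
    · exact seven_core_cent o c d fr hr hr2 hx hxv
  mem_L S t v p H L c o d := by
    rcases d.exists_frame c.hyp o.ne_top with ⟨⟨fr⟩⟩ | ⟨⟨fr⟩⟩
    · exact psl_mem_L o c d fr rfl
    · exact seven_mem_L o c d fr
  cyc S t v p A₀ H L c o d _ _ r hr hr2 := by
    rcases d.exists_frame c.hyp o.ne_top with ⟨⟨fr⟩⟩ | ⟨⟨fr⟩⟩
    · exact psl_cyc o c d fr hr hr2
    · exact seven_core_cyc o c d fr hr hr2

end CfsgLib.GW
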