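import Cfsg.Agent.Lib.GW.IIb.LocalBasic

/-!
(IIb) step 1: the maximal subgroups over `N(A₀)`, `1 ≠ A₀ ≤ A`.
-/

set_option autoImplicit false
set_option linter.unusedSectionVars false

namespace CfsgLib.GW

open Cfsg
open CfsgLib.BenderMax (OO)

universe u

variable {G : Type u} [Group G] [Finite G]

/-- A `p`-element (`p` odd) equal to its inverse is trivial. -/
theorem eq_one_of_inv_eq {p : ℕ} {U : Subgroup G} (hp : p.Prime) (hp2 : p ≠ 2) (hU : IsPGroup p U) {x : G}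
    (hx : x ∈ U) (h : x * x = 1) : x = 1 := by
  haveI := Fact.mk hp
  obtain ⟨k, hk⟩ := IsPGroup.iff_orderOf.1 hU ⟨x, hx⟩
  rw [Subgroup.orderOf_mk] at hk
  have h2 : orderOf x ∣ 2 := orderOf_dvd_of_pow_eq_one (by rw [sq]; exact h)
  exact orderOf_eq_one_iff.mp (Nat.eq_one_of_dvd_coprimes
    (Nat.Coprime.pow_left k ((Nat.coprime_primes hp Nat.prime_two).mpr hp2)) (hk ▸ dvd_rfl) h2)

/-- `H` is a maximal subgroup over the normaliser of `A₀ ≤ C_P(v)`. -/
structure Over (t v : G) (p : ℕ) (A₀ H : Subgroup G) : Prop where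
  ne : A₀ ≠ ⊥
  le : A₀ ≤ OO p (centI t)
  comm : ∀ a ∈ A₀, a * v = v * a
  coatom : IsCoatom H
  norm : Subgroup.normalizer (A₀ : Set G) ≤ H

namespace IIb

variable {S : Sylow 2 G} {t v : G} {p : ℕ} (c : IIb S t v p)

include c

/-- A maximal subgroup over `N(A₀)` exists. -/
theorem exists_over {A₀ : Subgroup G} (hne : A₀ ≠ ⊥) (hle : A₀ ≤ OO p (centI t))
    (hcomm : ∀ a ∈ A₀, a * v = v * a) : ∃ H, Over t v p A₀ H := by
  haveI := c.hyp.simple
  rcases (IsCoatomic.eq_top_or_exists_le_coatom (Subgroup.normalizer (A₀ : Set G))) with h | ⟨H, hH, hle'⟩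
  · haveI : A₀.Normal := Subgroup.normalizer_eq_top_iff.1 h
    rcases (inferInstance : A₀.Normal).eq_bot_or_eq_top with e | e
    · exact absurd e hne
    · exact absurd (top_le_iff.mp ((e ▸ hle : (⊤ : Subgroup G) ≤ _).trans (Subgroup.map_subtype_le _)))
        c.maximal.1
  · exact ⟨H, hne, hle, hcomm, hH, hle'⟩

end IIb

namespace Over

variable {S : Sylow 2 G} {t v : G} {p : ℕ} {A₀ H : Subgroup G} (o : Over t v p A₀ H)

include o

theorem mem_of_comm {x : G} (h : ∀ a ∈ A₀, x * a = a * x) : x ∈ H :=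
  o.norm (Subgroup.centralizer_le_normalizer _ (Subgroup.mem_centralizer_iff.mpr fun a ha => (h a ha).symm))

theorem ne_top : H ≠ ⊤ := o.coatom.1

variable (c : IIb S t v p)

include c

theorem t_mem : t ∈ H := o.mem_of_comm fun _ ha => (c.comm_t_core (o.le ha)).symm

theorem v_mem : v ∈ H := o.mem_of_comm fun a ha => (o.comm a ha).symm

theorem isPGroup : IsPGroup p A₀ := (BenderMax.OO_isPGroup p (centI t)).to_le o.le

theorem mem_centI_v {a : G} (ha : a ∈ A₀) : a ∈ centI v :=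
  Subgroup.mem_centralizer_singleton_iff.mpr (o.comm a ha)

/-- `Q₀`: elements of `O_p(C) ∩ H` inverted by `v`. -/
theorem exists_Q : ∃ x ∈ OO p (centI t), x ≠ 1 ∧ x ∈ H ∧ v * x * v⁻¹ = x⁻¹ := by
  obtain ⟨x, hx, hx1, hxA, hxv⟩ := exists_inverted c.hp c.hp2 (o.isPGroup c) (BenderMax.OO_isPGroup p (centI t))
    c.hv o.comm (fun a ha y hy => BenderMax.conj_OO (Subgroup.map_subtype_le _ (o.le ha)) hy)
    (fun y hy => BenderMax.conj_OO c.v_mem hy) c.exists_moved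
  exact ⟨x, hx, hx1, o.mem_of_comm fun a ha => (hxA a ha).symm, hxv⟩

/-- `R₀`: elements of `O_p(C(v)) ∩ H` inverted by `t`. -/
theorem exists_R : ∃ y ∈ OO p (centI v), y ≠ 1 ∧ y ∈ H ∧ t * y * t⁻¹ = y⁻¹ := by
  have htv : t ∈ centI v := Subgroup.mem_centralizer_singleton_iff.mpr c.comm_tv
  obtain ⟨x, hx, hx1, hxA, hxv⟩ := exists_inverted c.hp c.hp2 (o.isPGroup c) (BenderMax.OO_isPGroup p (centI v))
    c.ht (fun a ha => c.comm_t_core (o.le ha)) (fun a ha y hy => BenderMax.conj_OO (o.mem_centI_v c ha) hy)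
    (fun y hy => BenderMax.conj_OO htv hy) c.t_moves
  exact ⟨x, hx, hx1, o.mem_of_comm fun a ha => (hxA a ha).symm, hxv⟩

theorem R_not_comm {y : G} (hy : y ∈ OO p (centI v)) (hy1 : y ≠ 1) (hyt : t * y * t⁻¹ = y⁻¹) :
    y * t ≠ t * y := fun e => hy1 <| eq_one_of_inv_eq c.hp c.hp2 (BenderMax.OO_isPGroup p (centI v)) hy <| by
  rw [conj_eq_of_comm e.symm] at hyt
  exact eq_inv_iff_mul_eq_one.mp hyt

theorem Q_not_comm {x : G} (hx : x ∈ OO p (centI t)) (hx1 : x ≠ 1) (hxv : v * x * v⁻¹ = x⁻¹) :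
    x * v ≠ v * x := fun e => hx1 <| eq_one_of_inv_eq c.hp c.hp2 (BenderMax.OO_isPGroup p (centI t)) hx <| by
  rw [conj_eq_of_comm e.symm] at hxv
  exact eq_inv_iff_mul_eq_one.mp hxv

theorem ne_centI : H ≠ centI t := by
  obtain ⟨y, hy, hy1, hyH, hyt⟩ := o.exists_R c
  intro e
  exact o.R_not_comm c hy hy1 hyt (c.comm_t (e ▸ hyH))

theorem ne_centI_v : H ≠ centI v := by
  obtain ⟨x, hx, hx1, hxH, hxv⟩ := o.exists_Q c
  intro e
  rw [e] at hxH
  exact o.Q_not_comm c hx hx1 hxv (Subgroup.mem_centralizer_singleton_iff.mp hxH)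

theorem leadsTo : Cfsg.leadsTo (centI t) H := by
  refine ⟨A₀, o.ne, fun a ha => ?_, inf_le_right.trans o.norm⟩
  obtain ⟨y, hy, rfl⟩ := o.le ha
  exact ⟨y, CfsgLib.pCore_le_fittingSubgroup c.hp hy, rfl⟩

/-- `O_r(C) ≤ H` for `r ≠ p`. -/
theorem core_le {r : ℕ} (hr : r.Prime) (hrp : r ≠ p) : OO r (centI t) ≤ H := by
  intro x hx
  refine o.mem_of_comm fun a ha => ?_
  obtain ⟨x', hx', rfl⟩ := hx
  obtain ⟨a', ha', rfl⟩ := o.le ha
  haveI := Fact.mk hr
  haveI := Fact.mk c.hp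
  exact congrArg (centI t).subtype (Subgroup.commute_of_normal_of_disjoint _ _ inferInstance inferInstance
    (IsPGroup.disjoint_of_coprime (CfsgLib.isPGroup_pCore r) (CfsgLib.isPGroup_pCore p)
      ((Nat.coprime_primes hr c.hp).2 hrp)) x' a' hx' ha')

theorem fit_le {q : ℕ} (hq : q.Prime) (hd : q ∣ Nat.card (Cfsg.fittingSubgroup (centI t))) :
    OO q H ≤ centI t := by
  haveI := c.hyp.simple
  by_cases h2 : q = 2
  · exact (BenderMax.leadsTo_facts c.na c.maximal (o.leadsTo c)).2.2 q p hq c.hp (h2 ▸ c.hp2) hd c.p_dvd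
  · exact (BenderMax.leadsTo_facts c.na c.maximal (o.leadsTo c)).2.2 q 2 hq Nat.prime_two (Ne.symm h2) hd c.two_dvd

theorem fit_meet {q : ℕ} (hq : q.Prime) (hd : ¬ q ∣ Nat.card (Cfsg.fittingSubgroup (centI t))) :
    OO q H ⊓ centI t = ⊥ := by
  haveI := c.hyp.simple
  exact (BenderMax.leadsTo_facts c.na c.maximal (o.leadsTo c)).1 q hq hd

end Over

end CfsgLib.GW
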