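import Cfsg.Agent.Lib.GW.IIb.LocalFrame
import Cfsg.Agent.Lib.GW.IIb.LocalSplit

/-!
(IIb) steps 3 and 4 when the component is `PSL₂(q)`.
-/

set_option autoImplicit false
set_option linter.unusedSectionVars false

namespace CfsgLib.GW

open Cfsg CfsgLib.DihedralFusion CfsgLib.PSL2Max
open CfsgLib.BenderMax (OO)
open scoped MatrixGroups

universe u

variable {G : Type u} [Group G] [Finite G]

/-- In `PGL₂` an element of odd order commuting with an involution lies in its torus. -/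
theorem mem_torus_of_odd {M : Type*} [Group M] {U : Subgroup M} {τ x : M}
    (hout : ∀ y ∈ Subgroup.centralizer ({τ} : Set M), y ∉ U → y * y = 1 ∧ ∀ u ∈ U, y * u * y⁻¹ = u⁻¹)
    (hx : x * τ = τ * x) (hxo : Odd (orderOf x)) : x ∈ U := by
  by_contra hxU
  have hxx := (hout x (Subgroup.mem_centralizer_singleton_iff.mpr hx) hxU).1
  have h1 : orderOf x = 1 :=
    Nat.eq_one_of_dvd_coprimes (Nat.coprime_two_left.mpr hxo) (orderOf_dvd_of_pow_eq_one (by rw [sq, hxx])) dvd_rfl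
  rw [orderOf_eq_one_iff] at h1
  exact hxU (h1 ▸ one_mem U)

section

variable {K : Type u} [Group K] [Finite K] {L : Subgroup K} (fr : PSLFrame K L)

/-- An involution outside `C_K(L)` in `diag`. -/
theorem PSLFrame.pgl_invol {x : K} (hx : orderOf x = 2) (hxW : x ∉ Subgroup.centralizer (L : Set K)) :
    ∃ hd : x ∈ fr.diag, fr.pgl ⟨x, hd⟩ * fr.pgl ⟨x, hd⟩ = 1 ∧ fr.pgl ⟨x, hd⟩ ≠ 1 := by
  have hxx := Involutions.mul_self_eq_one_of_orderOf hx
  refine ⟨fr.mem_diag_of_sq hxx, ?_, fun e => hxW ((fr.pgl_eq_one_iff _).mp e)⟩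
  rw [← map_mul, show (⟨x, fr.mem_diag_of_sq hxx⟩ : fr.diag) * ⟨x, fr.mem_diag_of_sq hxx⟩ = 1 from Subtype.ext hxx,
    map_one]

theorem PSLFrame.pgl_comm {x y : K} (hx : x ∈ fr.diag) (hy : y ∈ fr.diag) (h : x * y = y * x) :
    fr.pgl ⟨x, hx⟩ * fr.pgl ⟨y, hy⟩ = fr.pgl ⟨y, hy⟩ * fr.pgl ⟨x, hx⟩ := by
  rw [← map_mul, ← map_mul]
  exact congrArg fr.pgl (Subtype.ext h)

theorem PSLFrame.pgl_odd {x : K} (hx : x ∈ fr.diag) (h : Odd (orderOf x)) : Odd (orderOf (fr.pgl ⟨x, hx⟩)) :=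
  odd_orderOf_map fr.pgl (by rwa [Subgroup.orderOf_mk])

end

variable {S : Sylow 2 G} {t v : G} {p : ℕ} {A₀ H L : Subgroup G} (o : Over t v p A₀ H) (c : IIb S t v p)
  (d : CompData H L) (fr : PSLFrame H (L.subgroupOf H))

include o c d

theorem psl_core_diag {r : ℕ} (hr : r.Prime) (hr2 : r ≠ 2) {x : H} (hx : (x : G) ∈ OO r (centI t)) :
    x ∈ fr.diag := by
  haveI := Fact.mk hr
  obtain ⟨h1, h2, h3⟩ := o.core_facts c r
  exact fr.mem_diag.mpr (fr.no_field d.odd_cent (Involutions.mul_self_eq_one_of_orderOf (o.tH_order c))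
    (d.not_cent_of_invol (o.tH_order c)) hr hr2 h1 h2 h3 x hx)

theorem psl_core_v_diag {x : H} (hx : (x : G) ∈ OO p (centI v)) : x ∈ fr.diag := by
  haveI := Fact.mk c.hp
  obtain ⟨h1, h2, h3⟩ := o.core_v_facts c
  exact fr.mem_diag.mpr (fr.no_field d.odd_cent (Involutions.mul_self_eq_one_of_orderOf (o.vH_order c))
    (d.not_cent_of_invol (o.vH_order c)) c.hp c.hp2 h1 h2 h3 x hx)

include fr

/-- An element of `O_r(C) ∩ H` centralising `v` centralises the component. -/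
theorem psl_cent {r : ℕ} (hr : r.Prime) (hr2 : r ≠ 2) {x : G} (hx : x ∈ OO r (centI t) ⊓ H) (hxv : x * v = v * x) :
    x ∈ Subgroup.centralizer (L : Set G) := by
  set x' : H := ⟨x, hx.2⟩
  have hxd : x' ∈ fr.diag := psl_core_diag o c d fr hr hr2 hx.1
  obtain ⟨htd, ht2, ht1⟩ := fr.pgl_invol (o.tH_order c) (d.not_cent_of_invol (o.tH_order c))
  obtain ⟨hvd, hv2, hv1⟩ := fr.pgl_invol (o.vH_order c) (d.not_cent_of_invol (o.vH_order c))
  obtain ⟨htvd, htv2, htv1⟩ := fr.pgl_invol (o.tvH_order c) (d.not_cent_of_invol (o.tvH_order c))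
  set τ := fr.pgl ⟨o.tH c, htd⟩
  set σ := fr.pgl ⟨o.vH c, hvd⟩
  have hτσ : τ * σ = σ * τ := fr.pgl_comm htd hvd (o.tvH_comm c)
  have hτo : orderOf τ = 2 := orderOf_eq_prime (by rw [sq]; exact ht2) ht1
  have hσo : orderOf σ = 2 := orderOf_eq_prime (by rw [sq]; exact hv2) hv1
  have hne : τ ≠ σ := fun e => htv1 (by
    rw [show (⟨o.tH c * o.vH c, htvd⟩ : fr.diag) = ⟨o.tH c, htd⟩ * ⟨o.vH c, hvd⟩ from rfl, map_mul]
    show τ * σ = 1
    rw [← e, ht2])
  haveI : Finite (Matrix.ProjGenLinGroup (Fin 2) fr.F) :=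
    Finite.of_surjective _ (Matrix.ProjGenLinGroup.mk_surjective)
  have hodd : Odd (orderOf (fr.pgl ⟨x', hxd⟩)) := fr.pgl_odd hxd (o.odd_order_core c hr hr2 hx.1).choose_spec.2
  have h1 := Model.klein_odd_trivial fr.odd fr.three_lt (isKleinFour_fourOf hτo hσo hne hτσ)
    (x := fr.pgl ⟨x', hxd⟩) (fun k hk => by
      have e1 : fr.pgl ⟨x', hxd⟩ * τ = τ * fr.pgl ⟨x', hxd⟩ :=
        fr.pgl_comm hxd htd (Subtype.ext (c.comm_t_core hx.1))
      have e2 : fr.pgl ⟨x', hxd⟩ * σ = σ * fr.pgl ⟨x', hxd⟩ := fr.pgl_comm hxd hvd (Subtype.ext hxv)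
      rcases (mem_fourOf _ _ _).mp hk with rfl | rfl | rfl | rfl
      exacts [(Commute.one_right _).eq, e1, e2, (Commute.mul_right (e1 : Commute _ τ) e2).eq]) hodd
  exact d.mem_cent_iff.mp ((fr.pgl_eq_one_iff _).mp h1)

/-- `O_r(C) ∩ H` acts as a cyclic group. -/
theorem psl_cyc {r : ℕ} (hr : r.Prime) (hr2 : r ≠ 2) :
    ∃ (Z : Type) (_ : Group Z) (f : ↥(OO r (centI t) ⊓ H) →* Z), IsCyclic Z ∧
      ∀ x, f x = 1 ↔ (x : G) ∈ Subgroup.centralizer (L : Set G) := by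
  obtain ⟨htd, ht2, ht1⟩ := fr.pgl_invol (o.tH_order c) (d.not_cent_of_invol (o.tH_order c))
  obtain ⟨U, hUc, -, -, -, -, -, -, -, hout, -⟩ := Model.invol_cent fr.odd fr.three_lt ht2 ht1
  let j : ↥(OO r (centI t) ⊓ H) →* fr.diag :=
    (Subgroup.inclusion (inf_le_right : OO r (centI t) ⊓ H ≤ H)).codRestrict _ fun x =>
      psl_core_diag o c d fr hr hr2 x.2.1
  have hU : ∀ x, fr.pgl (j x) ∈ U := fun x => mem_torus_of_odd hout
    (fr.pgl_comm (j x).2 htd (Subtype.ext (c.comm_t_core x.2.1)))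
    (fr.pgl_odd (j x).2 (o.odd_order_core c hr hr2 x.2.1).choose_spec.2)
  refine ⟨U, inferInstance, (fr.pgl.comp j).codRestrict U hU, hUc, fun x => ?_⟩
  rw [Subtype.ext_iff]
  exact (fr.pgl_eq_one_iff (j x)).trans d.mem_cent_iff

/-- A reflection inverts `O_r(C) ∩ H` modulo the centraliser. -/
theorem psl_refl {r : ℕ} (hr : r.Prime) (hr2 : r ≠ 2) {w : G} (hwH : w ∈ H) (hwo : orderOf w = 2)
    (hwt : w * t = t * w) (hne : w ≠ t) {x : G} (hx : x ∈ OO r (centI t) ⊓ H) :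
    w * x * w⁻¹ * x ∈ Subgroup.centralizer (L : Set G) := by
  set x' : H := ⟨x, hx.2⟩
  set w' : H := ⟨w, hwH⟩
  have hxd : x' ∈ fr.diag := psl_core_diag o c d fr hr hr2 hx.1
  have hwo' : orderOf w' = 2 := by rw [Subgroup.orderOf_mk, hwo]
  obtain ⟨htd, ht2, ht1⟩ := fr.pgl_invol (o.tH_order c) (d.not_cent_of_invol (o.tH_order c))
  obtain ⟨hwd, hw2, hw1⟩ := fr.pgl_invol hwo' (d.not_cent_of_invol hwo')
  obtain ⟨U, hUc, -, htU, -, -, -, -, -, hout, -⟩ := Model.invol_cent fr.odd fr.three_lt ht2 ht1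
  have hwτ : fr.pgl ⟨w', hwd⟩ * fr.pgl ⟨o.tH c, htd⟩ = fr.pgl ⟨o.tH c, htd⟩ * fr.pgl ⟨w', hwd⟩ :=
    fr.pgl_comm hwd htd (Subtype.ext hwt)
  have hwU : fr.pgl ⟨w', hwd⟩ ∉ U := by
    intro hwU
    haveI := hUc
    haveI : Finite (Matrix.ProjGenLinGroup (Fin 2) fr.F) :=
      Finite.of_surjective _ (Matrix.ProjGenLinGroup.mk_surjective)
    haveI : Finite U := inferInstance
    classical
    haveI := Fintype.ofFinite U
    set a : U := ⟨_, htU⟩
    set b : U := ⟨_, hwU⟩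
    have hab : a = b := by
      by_contra hab
      have h2 := IsCyclic.card_pow_eq_one_le (α := U) (n := 2) two_pos
      have h3 : ({1, a, b} : Finset U) ⊆ Finset.univ.filter (fun z : U => z ^ 2 = 1) := by
        intro z hz
        simp only [Finset.mem_insert, Finset.mem_singleton] at hz
        refine Finset.mem_filter.mpr ⟨Finset.mem_univ _, ?_⟩
        rcases hz with rfl | rfl | rfl
        · exact one_pow 2
        · exact Subtype.ext ((sq _).trans ht2)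
        · exact Subtype.ext ((sq _).trans hw2)
      have h4 : ({1, a, b} : Finset U).card = 3 := by
        rw [Finset.card_insert_of_notMem, Finset.card_pair hab]
        simp only [Finset.mem_insert, Finset.mem_singleton, not_or]
        exact ⟨fun e => ht1 (congrArg Subtype.val e).symm, fun e => hw1 (congrArg Subtype.val e).symm⟩
      have := Finset.card_le_card h3
      omega
    have h := congrArg Subtype.val hab
    change fr.pgl ⟨o.tH c, htd⟩ = fr.pgl ⟨w', hwd⟩ at h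
    have hmem := (fr.pgl_eq_one_iff (⟨o.tH c, htd⟩ * ⟨w', hwd⟩)).mp (by rw [map_mul, h, hw2])
    have hprod : o.tH c * w' ≠ 1 := fun e => hne (by
      have e' : t * w = 1 := congrArg Subtype.val e
      rw [← inv_eq_of_mul_eq_one_right e', inv_eq_of_mul_eq_one_left c.tt])
    refine d.not_cent_of_invol (orderOf_eq_prime ?_ hprod) hmem
    have e1 : Commute (o.tH c) w' := Subtype.ext hwt.symm
    rw [e1.mul_pow, sq, sq, Involutions.mul_self_eq_one_of_orderOf (o.tH_order c),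
      Involutions.mul_self_eq_one_of_orderOf hwo', one_mul]
  have hxU := mem_torus_of_odd hout (fr.pgl_comm hxd htd (Subtype.ext (c.comm_t_core hx.1)))
    (fr.pgl_odd hxd (o.odd_order_core c hr hr2 hx.1).choose_spec.2)
  have hinv := (hout _ (Subgroup.mem_centralizer_singleton_iff.mpr hwτ) hwU).2 _ hxU
  have h1 := (fr.pgl_eq_one_iff (⟨w', hwd⟩ * ⟨x', hxd⟩ * ⟨w', hwd⟩⁻¹ * ⟨x', hxd⟩)).mp (by
    rw [map_mul, map_mul, map_mul, map_inv, hinv, inv_mul_cancel])
  exact d.mem_cent_iff.mp h1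

end CfsgLib.GW
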