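import Cfsg.Agent.Lib.GW.IIb.LocalPsl

/-!
(IIb) step 4: `⟨t, v⟩` lies in the component.
-/

set_option autoImplicit false
set_option linter.unusedSectionVars false

namespace CfsgLib.GW

open Cfsg CfsgLib.DihedralFusion CfsgLib.PSL2Max DihedralGroup
open CfsgLib.BenderMax (OO)
open scoped MatrixGroups

universe u

variable {G : Type u} [Group G] [Finite G]

theorem eight_dvd {H L : Subgroup G} (d : CompData H L) (h : GWHyp G) (hH : H ≠ ⊤) {x : H} (hx : x * x = 1)
    (hxL : x ∉ L.subgroupOf H) : 8 ∣ Nat.card H := by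
  haveI : Fact (Nat.Prime 2) := ⟨Nat.prime_two⟩
  haveI := d.normal'
  obtain ⟨-, hLd, -⟩ := h.component H hH d.comp
  have h4 : 4 ∣ Nat.card (L.subgroupOf H) := by
    obtain ⟨P, k, hk, ⟨e⟩⟩ := hLd
    have h1 := (P : Subgroup (L.subgroupOf H)).card_subgroup_dvd_card
    rw [Nat.card_congr e.toEquiv, DihedralGroup.nat_card] at h1
    obtain ⟨i, hi⟩ := P.2.exists_card_eq
    rw [Nat.card_congr e.toEquiv, DihedralGroup.nat_card] at hi
    refine dvd_trans ?_ h1
    rcases i with _ | _ | i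
    · simp at hi
    · omega
    · rw [hi, pow_succ, pow_succ]; exact ⟨2 ^ i, by ring⟩
  have h2 : 2 ∣ (L.subgroupOf H).index := by
    have hne : QuotientGroup.mk' (L.subgroupOf H) x ≠ 1 := fun e => hxL ((QuotientGroup.eq_one_iff x).mp e)
    have ho := orderOf_eq_prime (by rw [sq, ← map_mul, hx, map_one]) hne
    rw [Subgroup.index, ← ho]
    exact orderOf_dvd_natCard _
  rw [← (L.subgroupOf H).card_mul_index]
  exact mul_dvd_mul h4 h2

variable {S : Sylow 2 G} {t v : G} {p : ℕ} {A₀ H L : Subgroup G} (o : Over t v p A₀ H) (c : IIb S t v p)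
  (d : CompData H L) (fr : PSLFrame H (L.subgroupOf H))

include o c d fr

/-- An involution of `H` maps into `PSL₂` exactly when it lies in `L`. -/
theorem psl_range_iff {x : H} (hx : orderOf x = 2) (hd : x ∈ fr.diag) :
    fr.pgl ⟨x, hd⟩ ∈ (phi (F := fr.F)).range ↔ (x : G) ∈ L := by
  haveI := d.normal'
  constructor
  · intro h
    obtain ⟨l, hl, w, hw, e⟩ := (fr.pgl_mem_range_iff ⟨x, hd⟩).mp h
    refine Subgroup.mem_subgroupOf.mp (mem_of_sq_mem_sup (N := L.subgroupOf H) d.odd_cent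
      (Involutions.mul_self_eq_one_of_orderOf hx) ?_)
    change x = l * w at e
    rw [e]
    exact Subgroup.mul_mem_sup hl hw
  · intro h
    exact (fr.pgl_mem_range_iff ⟨x, hd⟩).mpr ⟨x, h, 1, one_mem _, (mul_one x).symm⟩

/-- **Step 4** for `PSL₂(q)`. -/
theorem psl_mem_L (hA : A₀ = fixA t v p) : t ∈ L ∧ v ∈ L := by
  classical
  haveI := Fact.mk c.hp
  haveI : Fact (Nat.Prime 2) := ⟨Nat.prime_two⟩
  haveI := d.normal'
  by_contra hcon
  -- `|S| ≥ 8`
  have h8 : 8 ∣ Nat.card H := by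
    by_cases ht : t ∈ L
    · exact eight_dvd d c.hyp o.ne_top (x := o.vH c)
        (Involutions.mul_self_eq_one_of_orderOf (o.vH_order c)) fun h => hcon ⟨ht, h⟩
    · exact eight_dvd d c.hyp o.ne_top (x := o.tH c)
        (Involutions.mul_self_eq_one_of_orderOf (o.tH_order c)) fun h => ht h
  have hS4 : Nat.card S ≠ 4 := by
    intro h4
    obtain ⟨P, hP⟩ := Sylow.exists_subgroup_card_pow_prime 2 (n := 3)
      (show 2 ^ 3 ∣ Nat.card G from h8.trans H.card_subgroup_dvd_card)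
    obtain ⟨g, hg⟩ := exists_conj_le (S := S) (IsPGroup.of_card hP)
    have h1 := Subgroup.card_le_of_le hg
    rw [Subgroup.card_map_of_injective (f := (MulAut.conj g).toMonoidHom) (MulAut.conj g).injective, hP,
      show Nat.card (S : Subgroup G) = 4 from h4] at h1
    norm_num at h1
  -- an element of `S` exchanging `v` and `tv`
  obtain ⟨s, hsS, hswap⟩ : ∃ s ∈ (S : Subgroup G), s * v * s⁻¹ = t * v := by
    obtain ⟨n, hn, ⟨eS⟩⟩ := c.hyp.dihedral.shape S
    haveI : NeZero n := ⟨by omega⟩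
    have hn4 : 4 ≤ n := by
      by_contra h
      exact hS4 ((card_eq_four_iff eS hn).mpr h)
    have hT := isKleinFour_fourOf c.ht c.hv (Ne.symm c.hvt) c.comm_tv
    have hTS : fourOf c.tt c.vv c.comm_tv ≤ (S : Subgroup G) := fun x hx => by
      rcases (mem_fourOf _ _ _).mp hx with rfl | rfl | rfl | rfl
      exacts [one_mem _, c.htS, c.hvS, mul_mem c.htS c.hvS]
    obtain ⟨s, hs, hsN, hne, -⟩ := exists_moving eS hn4 hTS hT
    refine ⟨s, hs, ?_⟩
    have hst : s * t * s⁻¹ = t := conj_eq_of_comm (c.htZ s hs)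
    have hvm : s * v * s⁻¹ ∈ fourOf c.tt c.vv c.comm_tv :=
      (Subgroup.mem_normalizer_iff.mp hsN v).mp (Or.inr (Or.inr (Or.inl rfl)))
    rcases (mem_fourOf _ _ _).mp hvm with e | e | e | e
    · rw [conj_eq_one_iff] at e
      exact absurd c.hv (by rw [e, orderOf_one]; norm_num)
    · exact absurd (mul_left_cancel (mul_right_cancel (e.trans hst.symm))) c.hvt
    · exfalso
      refine hne (MulEquiv.ext fun x => Subtype.ext ?_)
      show s * (x : G) * s⁻¹ = x
      rcases (mem_fourOf _ _ _).mp x.2 with h | h | h | h <;> rw [h]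
      · group
      · exact hst
      · exact e
      · calc s * (t * v) * s⁻¹ = s * t * s⁻¹ * (s * v * s⁻¹) := by group
          _ = t * v := by rw [hst, e]
    · exact e
  have hsH : s ∈ H := by
    refine o.norm (Subgroup.mem_normalizer_fintype fun a ha => ?_)
    rw [hA] at ha ⊢
    obtain ⟨ha1, ha2⟩ := mem_fixA.mp ha
    refine mem_fixA.mpr ⟨BenderMax.conj_OO (c.S_le hsS) ha1, ?_⟩
    have hst : s * t * s⁻¹ = t := conj_eq_of_comm (c.htZ s hsS)
    have hstv : s * (t * v) * s⁻¹ = v := by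
      calc s * (t * v) * s⁻¹ = s * t * s⁻¹ * (s * v * s⁻¹) := by group
        _ = v := by rw [hst, hswap, ← mul_assoc, c.tt, one_mul]
    have hatv : a * (t * v) = t * v * a :=
      (Commute.mul_right (show Commute a t from c.comm_t_core ha1) (show Commute a v from ha2)).eq
    calc s * a * s⁻¹ * v = s * a * s⁻¹ * (s * (t * v) * s⁻¹) := by rw [hstv]
      _ = s * (a * (t * v)) * s⁻¹ := by group
      _ = s * (t * v * a) * s⁻¹ := by rw [hatv]
      _ = s * (t * v) * s⁻¹ * (s * a * s⁻¹) := by group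
      _ = v * (s * a * s⁻¹) := by rw [hstv]
  have hiff : v ∈ L ↔ t * v ∈ L := by
    refine ⟨fun h => hswap ▸ d.conj_mem hsH h, fun h => ?_⟩
    have h2 := d.conj_mem (H.inv_mem hsH) h
    rw [← hswap] at h2
    simpa [mul_assoc] using h2
  have hv : v ∉ L := fun h => hcon ⟨by
    have := mul_mem (hiff.mp h) h
    rwa [mul_assoc, c.vv, mul_one] at this, h⟩
  have htvH : orderOf (o.tH c * o.vH c) = 2 := o.tvH_order c
  obtain ⟨htd, ht2, ht1⟩ := fr.pgl_invol (o.tH_order c) (d.not_cent_of_invol (o.tH_order c))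
  obtain ⟨hvd, hv2, hv1⟩ := fr.pgl_invol (o.vH_order c) (d.not_cent_of_invol (o.vH_order c))
  obtain ⟨htvd, -, -⟩ := fr.pgl_invol htvH (d.not_cent_of_invol htvH)
  have hvout : fr.pgl ⟨o.vH c, hvd⟩ ∉ (phi (F := fr.F)).range := fun h =>
    hv ((psl_range_iff o c d fr (o.vH_order c) hvd).mp h)
  have htvout : fr.pgl ⟨o.tH c * o.vH c, htvd⟩ ∉ (phi (F := fr.F)).range := fun h =>
    hv (hiff.mpr ((psl_range_iff o c d fr htvH htvd).mp h))
  have hidx := index_range (F := fr.F) fr.p (Model.p_ne_two fr.p fr.odd)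
  have htin : fr.pgl ⟨o.tH c, htd⟩ ∈ (phi (F := fr.F)).range := by
    have e : fr.pgl ⟨o.tH c * o.vH c, htvd⟩ = fr.pgl ⟨o.tH c, htd⟩ * fr.pgl ⟨o.vH c, hvd⟩ :=
      (map_mul fr.pgl ⟨o.tH c, htd⟩ ⟨o.vH c, hvd⟩)
    rw [e, Subgroup.mul_mem_iff_of_index_two hidx] at htvout
    by_contra h
    exact htvout (iff_of_false h hvout)
  have ht : t ∈ L := (psl_range_iff o c d fr (o.tH_order c) htd).mp htin
  -- the two tori
  obtain ⟨U, -, hUcard, -, -, -, -, -, -, hout, -⟩ := Model.invol_cent fr.odd fr.three_lt ht2 ht1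
  obtain ⟨U', -, hU'card, -, -, -, -, -, -, hout', -⟩ := Model.invol_cent fr.odd fr.three_lt hv2 hv1
  rw [Model.torusOrder, if_pos htin] at hUcard
  rw [Model.torusOrder, if_neg hvout] at hU'card
  haveI : Finite (Matrix.ProjGenLinGroup (Fin 2) fr.F) :=
    Finite.of_surjective _ (Matrix.ProjGenLinGroup.mk_surjective)
  obtain ⟨y, hy, hy1, hyH, hyt⟩ := o.exists_R c
  set y' : H := ⟨y, hyH⟩
  have hyd : y' ∈ fr.diag := psl_core_v_diag o c d fr hy
  obtain ⟨i, hi⟩ := IsPGroup.iff_orderOf.1 (BenderMax.OO_isPGroup p (centI v)) ⟨y, hy⟩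
  rw [Subgroup.orderOf_mk] at hi
  have hyo : orderOf y' = p ^ i := by rw [Subgroup.orderOf_mk, hi]
  have hyne : fr.pgl ⟨y', hyd⟩ ≠ 1 := fun e => o.R_not_comm c hy hy1 hyt
    (Subgroup.mem_centralizer_iff.mp (d.mem_cent_iff.mp ((fr.pgl_eq_one_iff _).mp e)) t ht).symm
  have hyU : fr.pgl ⟨y', hyd⟩ ∈ U' := mem_torus_of_odd hout'
    (fr.pgl_comm hyd hvd (Subtype.ext (Subgroup.mem_centralizer_singleton_iff.mp (Subgroup.map_subtype_le _ hy))))
    (fr.pgl_odd hyd (hyo ▸ (c.hp.odd_of_ne_two c.hp2).pow))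
  have hp_qp : p ∣ Model.qp fr.F := by
    obtain ⟨j, -, hj⟩ := (Nat.dvd_prime_pow c.hp).mp
      (show orderOf (fr.pgl ⟨y', hyd⟩) ∣ p ^ i from
        hyo ▸ (orderOf_map_dvd fr.pgl _).trans (dvd_of_eq (Subgroup.orderOf_mk y' hyd)))
    have hj0 : j ≠ 0 := fun h => hyne (orderOf_eq_one_iff.mp (by rw [hj, h, pow_zero]))
    exact (dvd_pow_self p hj0).trans (hj ▸ hU'card ▸ Subgroup.orderOf_dvd_natCard _ hyU)
  have hp_qm : ¬ p ∣ Model.qm fr.F := by
    intro h
    obtain ⟨-, -, -, hsum⟩ := Model.qm_qp_arith (F := fr.F) fr.odd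
    have h2 : p ∣ 2 * Fintype.card fr.F := hsum ▸ dvd_add h hp_qp
    have hq : p ∣ Fintype.card fr.F :=
      (c.hp.dvd_mul.mp h2).resolve_left fun h => c.hp2 ((Nat.prime_dvd_prime_iff_eq c.hp Nat.prime_two).mp h)
    have h3 := fr.three_lt
    unfold Model.qm at h
    split_ifs at h with h4
    · have := Nat.dvd_sub hq h
      rw [show Fintype.card fr.F - (Fintype.card fr.F - 1) = 1 by omega] at this
      exact c.hp.not_dvd_one this
    · exact c.hp.not_dvd_one ((Nat.dvd_add_right hq).mp h)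
  -- `O_p(C) ∩ H` centralises `L`
  have hPW : ∀ x ∈ OO p (centI t), x ∈ H → x ∈ Subgroup.centralizer (L : Set G) := by
    intro x hx hxH
    have hxd : (⟨x, hxH⟩ : H) ∈ fr.diag := psl_core_diag o c d fr c.hp c.hp2 hx
    obtain ⟨k, hk, hko⟩ := o.odd_order_core c c.hp c.hp2 (x := ⟨x, hxH⟩) hx
    have hxU := mem_torus_of_odd hout (fr.pgl_comm hxd htd (Subtype.ext (c.comm_t_core hx))) (fr.pgl_odd hxd hko)
    have h1 : orderOf (fr.pgl ⟨⟨x, hxH⟩, hxd⟩) ∣ Model.qm fr.F := hUcard ▸ Subgroup.orderOf_dvd_natCard _ hxU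
    have h2 : orderOf (fr.pgl ⟨⟨x, hxH⟩, hxd⟩) ∣ p ^ k :=
      hk ▸ (orderOf_map_dvd fr.pgl _).trans (dvd_of_eq (Subgroup.orderOf_mk _ hxd))
    have h3 := Nat.eq_one_of_dvd_coprimes (Nat.Coprime.pow_left k (c.hp.coprime_iff_not_dvd.mpr hp_qm)) h2 h1
    exact d.mem_cent_iff.mp ((fr.pgl_eq_one_iff _).mp (orderOf_eq_one_iff.mp h3))
  -- so `L` normalises the centre of `P`
  haveI := c.hyp.simple
  obtain ⟨Z, hZne, hZO, hZc, hZN, hZG⟩ := BenderMax.center_OO (centI t) c.hp c.p_dvd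
  refine d.not_le_solvable c.solvable ?_
  rw [← BenderMax.normalizer_eq_of_coatom c.na c.maximal hZne hZc hZN]
  refine le_trans (Subgroup.le_centralizer_iff.mp fun z hz => ?_) (Subgroup.centralizer_le_normalizer _)
  refine hPW z (hZO hz) (o.mem_of_comm fun a ha => ?_)
  exact hZG z hz a (BenderMax.OO_le_GG c.hp _ (o.le ha))

end CfsgLib.GW
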