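import Cfsg.Agent.Lib.GW.IIb.LocalFacts

/-!
(IIb) step 5, (U1) and (U2): `H` is the only maximal subgroup over `N(A₀)`, `1 ≠ A₀ ≤ A`.
-/

set_option autoImplicit false
set_option linter.unusedSectionVars false

namespace CfsgLib.GW

open Cfsg
open CfsgLib.BenderMax (OO)

universe u

variable {G : Type u} [Group G] [Finite G]

/-- A maximal subgroup over `N(A)` with its component. -/
structure Main (S : Sylow 2 G) (t v : G) (p : ℕ) (H L : Subgroup G) : Prop where
  conf : IIb S t v p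
  facts : ModelFacts G
  over' : Over t v p (fixA t v p) H
  comp : CompData H L

theorem IIb.fixA_ne {S : Sylow 2 G} {t v : G} {p : ℕ} (c : IIb S t v p) : fixA t v p ≠ ⊥ := by
  obtain ⟨x, hx, hx1, hxv⟩ := c.exists_fixed
  intro e
  have h : x ∈ fixA t v p := mem_fixA.mpr ⟨hx, hxv⟩
  rw [e, Subgroup.mem_bot] at h
  exact hx1 h

theorem IIb.exists_main {S : Sylow 2 G} {t v : G} {p : ℕ} (c : IIb S t v p) (F : ModelFacts G) :
    ∃ H L : Subgroup G, Main S t v p H L := by
  obtain ⟨H, o⟩ := c.exists_over c.fixA_ne inf_le_left fun a ha => (mem_fixA.mp ha).2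
  obtain ⟨L, d⟩ := o.exists_compData c
  exact ⟨H, L, c, F, o, d⟩

namespace Main

variable {S : Sylow 2 G} {t v : G} {p : ℕ} {H L : Subgroup G} (m : Main S t v p H L)

include m

theorem t_mem : t ∈ L := (m.facts.mem_L S t v p H L m.conf m.over' m.comp).1

theorem v_mem : v ∈ L := (m.facts.mem_L S t v p H L m.conf m.over' m.comp).2

theorem A_le_H : fixA t v p ≤ H := Subgroup.le_normalizer.trans m.over'.norm

theorem A_le_cent : fixA t v p ≤ Subgroup.centralizer (L : Set G) := fun a ha =>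
  m.facts.cent S t v p _ H L m.conf m.over' m.comp p m.conf.hp m.conf.hp2 a ⟨(mem_fixA.mp ha).1, m.A_le_H ha⟩
    (mem_fixA.mp ha).2

theorem L_le_cent : L ≤ Subgroup.centralizer (fixA t v p : Set G) :=
  Subgroup.le_centralizer_iff.mp m.A_le_cent

/-- `C(A) ∩ O_r(C)`-part centralised by `v` is the part centralising `L`. -/
theorem cent_iff {r : ℕ} (hr : r.Prime) (hr2 : r ≠ 2) {x : G} (hx : x ∈ OO r (centI t) ⊓ H) :
    x ∈ Subgroup.centralizer (L : Set G) ↔ x * v = v * x :=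
  ⟨fun h => (Subgroup.mem_centralizer_iff.mp h v m.v_mem).symm,
    fun h => m.facts.cent S t v p _ H L m.conf m.over' m.comp r hr hr2 x hx h⟩

/-- Any other maximal subgroup over `N(A₀)` coincides with `H`, given that the normalisers of larger
subgroups of `A` lie in `H`. -/
theorem over_eq {A₀ H₀ : Subgroup G} (hle : A₀ ≤ fixA t v p) (o₀ : Over t v p A₀ H₀)
    (hup : ∀ A₁ : Subgroup G, A₁ ≤ fixA t v p → A₀ < A₁ → Subgroup.normalizer (A₁ : Set G) ≤ H) :
    H₀ = H := by
  have c := m.conf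
  haveI := Fact.mk c.hp
  obtain ⟨L₀, d₀⟩ := o₀.exists_compData c
  have h1 : L ≤ H₀ := fun l hl => o₀.mem_of_comm fun a ha =>
    (Subgroup.mem_centralizer_iff.mp (m.L_le_cent hl) a (hle ha)).symm
  have h2 : L₀ ≤ H := by
    set A₁ := fixA t v p ⊓ Subgroup.normalizer (A₀ : Set G) with hA₁
    have hA₁H : A₁ ≤ H₀ := inf_le_right.trans o₀.norm
    have hA₁L : L₀ ≤ Subgroup.normalizer (A₁ : Set G) := by
      refine le_trans (Subgroup.le_centralizer_iff.mp fun a ha => ?_) (Subgroup.centralizer_le_normalizer _)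
      exact m.facts.cent S t v p A₀ H₀ L₀ c o₀ d₀ p c.hp c.hp2 a ⟨(mem_fixA.mp ha.1).1, hA₁H ha⟩
        (mem_fixA.mp ha.1).2
    have hA₀A₁ : A₀ ≤ A₁ := le_inf hle Subgroup.le_normalizer
    rcases eq_or_lt_of_le hA₀A₁ with e | hlt
    · -- `A₀` is self-normalising in the `p`-group `A`, hence equal to it
      have hA : A₀ = fixA t v p := by
        have hpA : IsPGroup p (fixA t v p) := (BenderMax.OO_isPGroup p (centI t)).to_le inf_le_left
        haveI := hpA.isNilpotent
        by_contra hne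
        set B := A₀.subgroupOf (fixA t v p)
        have hB : B < ⊤ := lt_top_iff_ne_top.mpr fun h =>
          hne (le_antisymm hle (Subgroup.subgroupOf_eq_top.mp h))
        obtain ⟨x, hxN, hxB⟩ := SetLike.exists_of_lt (Group.normalizerCondition_of_isNilpotent B hB)
        refine hxB (Subgroup.mem_subgroupOf.mpr ?_)
        have hx : (x : G) ∈ A₁ := by
          refine ⟨x.2, Subgroup.mem_normalizer_fintype fun y hy => ?_⟩
          exact (Subgroup.mem_normalizer_iff.mp hxN ⟨y, hle hy⟩).mp hy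
        rwa [← e] at hx
      refine fun x hx => m.over'.norm ?_
      rw [← hA, e]
      exact hA₁L hx
    · exact hA₁L.trans (hup A₁ inf_le_left hlt)
  exact (m.comp.eq_of_le d₀ c.hyp m.over'.coatom o₀.coatom h1 h2).2

/-- **(U1)**. -/
theorem normalizer_le {A₀ : Subgroup G} (hle : A₀ ≤ fixA t v p) (hne : A₀ ≠ ⊥) :
    Subgroup.normalizer (A₀ : Set G) ≤ H := by
  have key : ∀ n : ℕ, ∀ A₀ : Subgroup G, A₀ ≤ fixA t v p → A₀ ≠ ⊥ → Nat.card (fixA t v p) - Nat.card A₀ = n →
      Subgroup.normalizer (A₀ : Set G) ≤ H := by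
    intro n
    induction n using Nat.strong_induction_on with
    | _ n ih =>
      intro A₀ hle hne hn
      obtain ⟨H₀, o₀⟩ := m.conf.exists_over hne (hle.trans inf_le_left) fun a ha => (mem_fixA.mp (hle ha)).2
      have e := m.over_eq hle o₀ fun A₁ h1 hlt => ih _ (by
        have h2 := Subgroup.card_le_of_le h1
        have h3 : Nat.card A₀ < Nat.card A₁ := lt_of_le_of_ne (Subgroup.card_le_of_le hlt.le)
          fun e => hlt.ne (Subgroup.eq_of_le_of_card_ge hlt.le e.ge)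
        omega) A₁ h1 (ne_bot_of_le_ne_bot hne hlt.le) rfl
      exact e ▸ o₀.norm
  exact key _ A₀ hle hne rfl

theorem centralizer_le {a : G} (ha : a ∈ fixA t v p) (ha1 : a ≠ 1) : Subgroup.centralizer ({a} : Set G) ≤ H := by
  refine le_trans ?_ (m.normalizer_le ((Subgroup.zpowers_le).mpr ha)
    (fun e => ha1 (Subgroup.zpowers_eq_bot.mp e)))
  refine le_trans (fun x hx => ?_) (Subgroup.centralizer_le_normalizer _)
  refine Subgroup.mem_centralizer_iff.mpr fun y hy => ?_
  obtain ⟨k, rfl⟩ := Subgroup.mem_zpowers_iff.mp hy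
  exact (Commute.zpow_left (Subgroup.mem_centralizer_singleton_iff.mp hx : Commute x a).symm k).eq

/-- `A = O_p(C) ∩ H ∩ C(L)`. -/
theorem A_eq {x : G} : x ∈ fixA t v p ↔ x ∈ OO p (centI t) ⊓ H ∧ x ∈ Subgroup.centralizer (L : Set G) := by
  constructor
  · exact fun h => ⟨⟨(mem_fixA.mp h).1, m.A_le_H h⟩, m.A_le_cent h⟩
  · rintro ⟨h1, h2⟩
    exact mem_fixA.mpr ⟨h1.1, (m.cent_iff m.conf.hp m.conf.hp2 h1).mp h2⟩

/-- `C ∩ H = N_C(A)`. -/
theorem mem_H_iff {x : G} (hx : x ∈ centI t) : x ∈ H ↔ x ∈ Subgroup.normalizer (fixA t v p : Set G) := by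
  refine ⟨fun hxH => Subgroup.mem_normalizer_fintype fun a ha => ?_, fun h => m.over'.norm h⟩
  obtain ⟨⟨ha1, ha2⟩, ha3⟩ := m.A_eq.mp ha
  refine m.A_eq.mpr ⟨⟨BenderMax.conj_OO hx ha1, H.mul_mem (H.mul_mem hxH ha2) (H.inv_mem hxH)⟩, ?_⟩
  refine Subgroup.mem_centralizer_iff.mpr fun l hl => ?_
  have h := Subgroup.mem_centralizer_iff.mp ha3 (x⁻¹ * l * x) (by
    simpa using m.comp.conj_mem (H.inv_mem hxH) hl)
  calc l * (x * a * x⁻¹) = x * (x⁻¹ * l * x * a) * x⁻¹ := by group
    _ = x * (a * (x⁻¹ * l * x)) * x⁻¹ := by rw [h]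
    _ = x * a * x⁻¹ * l := by group

/-- **(U2)**. -/
theorem meet_conj {x : G} (hxH : x ∉ H) {a : G} (ha : a ∈ fixA t v p) (hxa : x * a * x⁻¹ ∈ fixA t v p) :
    a = 1 := by
  by_contra ha1
  refine hxH ?_
  have hLx : ∀ l ∈ L, x * l * x⁻¹ ∈ H := fun l hl =>
    m.centralizer_le hxa (fun e => ha1 (conj_eq_one_iff.mp e)) <| Subgroup.mem_centralizer_singleton_iff.mpr <| by
      have h : a * l = l * a := Subgroup.mem_centralizer_iff.mp (m.L_le_cent hl) a ha
      calc x * l * x⁻¹ * (x * a * x⁻¹) = x * (l * a) * x⁻¹ := by group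
        _ = x * (a * l) * x⁻¹ := by rw [h]
        _ = x * a * x⁻¹ * (x * l * x⁻¹) := by group
  haveI : Group.IsPerfect L := m.comp.perfect
  haveI : Group.IsPerfect (L.map (MulAut.conj x).toMonoidHom) := Group.IsPerfect.map _
  have hle : L.map (MulAut.conj x).toMonoidHom ≤ L := m.comp.perfect_le _ (by
    rintro _ ⟨l, hl, rfl⟩
    exact hLx l hl) inferInstance
  rw [← m.comp.normalizer_eq m.conf.hyp m.over'.coatom]
  exact Subgroup.mem_normalizer_fintype fun l hl => hle ⟨l, hl, rfl⟩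

end Main

end CfsgLib.GW
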