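import Cfsg.Agent.Lib.GW.IIb.LocalMain
import Cfsg.Agent.Lib.GW.IIb.Final
import Cfsg.Agent.Lib.GW.LChar.Frame

/-!
The configuration (IIb) does not occur: `IIb.exists_data` (local analysis) and `IIbData.false` (final count).
-/

set_option autoImplicit false

namespace CfsgLib.GW

open Cfsg

universe u

variable {G : Type u} [Group G] [Finite G]

/-- If `C(t)` is maximal, no reflection neither centralises nor inverts a primary part of `F(C(t))`. -/
protected theorem IIb.false {S : Sylow 2 G} {t v : G} {p : ℕ} (c : IIb S t v p) : False := by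
  obtain ⟨D, -⟩ := c.exists_data
  exact D.false

/-- The case "C(t) maximal" always satisfies `SplitHyp`. -/
theorem GWHyp.splitHyp (h : GWHyp G) (S : Sylow 2 G) {t : G} (ht : orderOf t = 2) (htS : t ∈ (S : Subgroup G))
    (htZ : ∀ s ∈ (S : Subgroup G), s * t = t * s) (hmax : IsCoatom (centI t)) : SplitHyp S t :=
  ⟨h, ht, htS, htZ, hmax, fun _ _ c => c.false⟩

end CfsgLib.GW
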