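import Mathlib

/-!
An odd abelian group of matrices `X ⊆ GL₂(p)` of order prime to `p`, inverted by `diag(1, -1)`, has order at most
`(p + 1) / 2`.
-/

set_option autoImplicit false
set_option linter.unusedSectionVars false

namespace CfsgLib.GW.IIbFinal

open Matrix

universe u

/-- Endomorphisms of a group of exponent `n` as linear maps. -/
noncomputable def endHom {n : ℕ} {C : Type u} [Monoid C] {V : Type u} [CommGroup V]
    [Module (ZMod n) (Additive V)] (f : C →* Monoid.End V) : C →* Module.End (ZMod n) (Additive V) where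
  toFun g := (MonoidHom.toAdditive (f g)).toZModLinearMap n
  map_one' := LinearMap.ext fun w => by
    show Additive.ofMul ((f 1) w.toMul) = w
    rw [map_one]; rfl
  map_mul' g h := LinearMap.ext fun w => by
    show Additive.ofMul (f (g * h) w.toMul) = Additive.ofMul (f g (f h w.toMul))
    rw [map_mul]; rfl

variable {p : ℕ} [Fact p.Prime]

theorem two_card_le (hp2 : p ≠ 2) {X : Type u} [Group X] [Finite X] (hcomm : ∀ x y : X, x * y = y * x)
    (hodd : Odd (Nat.card X)) (hpX : ¬ p ∣ Nat.card X) (M : X →* Matrix (Fin 2) (Fin 2) (ZMod p))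
    (hM : Function.Injective M)
    (hinv : ∀ x, M x⁻¹ = !![M x 0 0, -M x 0 1; -M x 1 0, M x 1 1]) :
    2 * Nat.card X ≤ p + 1 := by
  classical
  have hp : p.Prime := Fact.out
  have h2 : (2 : ZMod p) ≠ 0 := by
    intro e
    have : ((2 : ℕ) : ZMod p) = 0 := by exact_mod_cast e
    rw [ZMod.natCast_eq_zero_iff] at this
    exact hp2 ((Nat.prime_dvd_prime_iff_eq hp Nat.prime_two).1 this)
  have hcop : Nat.Coprime (2 * p) (Nat.card X) :=
    Nat.Coprime.mul_left (Nat.coprime_two_left.2 hodd) (hp.coprime_iff_not_dvd.2 hpX)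
  have heq : ∀ x : X, M x 0 0 * M x 0 0 - M x 0 1 * M x 1 0 = 1 ∧ M x 0 1 * (M x 1 1 - M x 0 0) = 0 ∧
      M x 1 0 * (M x 0 0 - M x 1 1) = 0 ∧ M x 1 1 * M x 1 1 - M x 0 1 * M x 1 0 = 1 := by
    intro x
    have h : M x * !![M x 0 0, -M x 0 1; -M x 1 0, M x 1 1] = 1 := by
      rw [← hinv, ← map_mul, mul_inv_cancel, map_one]
    have e00 := congrFun (congrFun h 0) 0
    have e01 := congrFun (congrFun h 0) 1
    have e10 := congrFun (congrFun h 1) 0
    have e11 := congrFun (congrFun h 1) 1
    simp [Matrix.mul_apply, Fin.sum_univ_two] at e00 e01 e10 e11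
    exact ⟨by linear_combination e00, by linear_combination e01, by linear_combination e10,
      by linear_combination e11⟩
  -- unipotent elements are trivial
  have htriv : ∀ x : X, (M x 0 1 = 0 ∨ M x 1 0 = 0) → x = 1 := by
    intro x hx
    obtain ⟨h1, -, -, h4⟩ := heq x
    have hbg : M x 0 1 * M x 1 0 = 0 := by rcases hx with h | h <;> rw [h] <;> simp
    have ha : M x 0 0 * M x 0 0 = 1 := by linear_combination h1 + hbg
    have hd : M x 1 1 * M x 1 1 = 1 := by linear_combination h4 + hbg
    set u : ZMod p := M x 0 1 * (M x 0 0 + M x 1 1) with hu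
    set w : ZMod p := M x 1 0 * (M x 0 0 + M x 1 1) with hw
    have hsq : M (x * x) = !![1, u; w, 1] := by
      rw [map_mul]
      ext i j
      fin_cases i <;> fin_cases j <;> simp [Matrix.mul_apply, Fin.sum_univ_two, hu, hw]
      · linear_combination ha + hbg
      · ring
      · ring
      · linear_combination hd + hbg
    have huw : u * w = 0 := by rw [hu, hw]; linear_combination (M x 0 0 + M x 1 1) ^ 2 * hbg
    have hpow : ∀ n : ℕ, M (x * x) ^ n = !![1, (n : ZMod p) * u; (n : ZMod p) * w, 1] := by
      intro n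
      induction n with
      | zero => ext i j; fin_cases i <;> fin_cases j <;> simp
      | succ n ih =>
        rw [pow_succ, ih, hsq]
        ext i j
        fin_cases i <;> fin_cases j <;> simp [Matrix.mul_apply, Fin.sum_univ_two]
        · rcases mul_eq_zero.1 huw with e | e <;> simp [e]
        · ring
        · ring
        · rcases mul_eq_zero.1 huw with e | e <;> simp [e]
    have h : x ^ (2 * p) = 1 := by
      apply hM
      rw [pow_mul, sq, map_pow, hpow, ZMod.natCast_self, map_one]
      ext i j; fin_cases i <;> fin_cases j <;> simp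
    have hd1 := Nat.eq_one_of_dvd_coprimes hcop (orderOf_dvd_of_pow_eq_one h) (orderOf_dvd_natCard x)
    exact orderOf_eq_one_iff.1 hd1
  have hp3 : 3 ≤ p := by have := hp.two_le; omega
  by_cases htr : ∀ x : X, x = 1
  · haveI : Subsingleton X := ⟨fun a b => by rw [htr a, htr b]⟩
    rw [Nat.card_of_subsingleton (1 : X)]
    omega
  push Not at htr
  obtain ⟨x₀, hx₀⟩ := htr
  set c : ZMod p := M x₀ 1 0 / M x₀ 0 1 with hc
  have hb0 : M x₀ 0 1 ≠ 0 := fun e => hx₀ (htriv x₀ (Or.inl e))
  have hg0 : M x₀ 1 0 ≠ 0 := fun e => hx₀ (htriv x₀ (Or.inr e))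
  have hc0 : c ≠ 0 := div_ne_zero hg0 hb0
  have hshape : ∀ x : X, M x 1 1 = M x 0 0 ∧ M x 1 0 = c * M x 0 1 := by
    intro x
    constructor
    · by_cases hx : x = 1
      · simp [hx]
      · have := (mul_eq_zero.1 (heq x).2.1).resolve_left fun e => hx (htriv x (Or.inl e))
        linear_combination this
    · have h : M x * M x₀ = M x₀ * M x := by rw [← map_mul, ← map_mul, hcomm]
      have e := congrFun (congrFun h 0) 0
      simp [Matrix.mul_apply, Fin.sum_univ_two] at e
      rw [hc, div_mul_eq_mul_div, eq_div_iff hb0]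
      linear_combination -e
  let sol : Type := {q : ZMod p × ZMod p // q.1 * q.1 - c * q.2 * q.2 = 1}
  have hsol : Nat.card sol ≤ p + 1 := by
    let f : sol → Option (ZMod p) := fun q => if q.1.1 = 1 then none else some (q.1.2 / (q.1.1 - 1))
    have hf : Function.Injective f := by
      rintro ⟨⟨a, b⟩, hab⟩ ⟨⟨a', b'⟩, hab'⟩ h
      simp only at hab hab'
      have hz : ∀ {a b : ZMod p}, a * a - c * b * b = 1 → a = 1 → b = 0 := fun {a b} h e => by
        subst e
        have : c * (b * b) = 0 := by linear_combination -h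
        simpa [hc0] using this
      simp only [f] at h
      by_cases ha : a = 1 <;> by_cases ha' : a' = 1
      · exact Subtype.ext (Prod.ext (ha.trans ha'.symm) ((hz hab ha).trans (hz hab' ha').symm))
      · simp [ha, ha'] at h
      · simp [ha, ha'] at h
      · rw [if_neg ha, if_neg ha'] at h
        simp only [Option.some.injEq] at h
        set s := b / (a - 1) with hs
        have hb : b = s * (a - 1) := by rw [hs, div_mul_cancel₀ _ (sub_ne_zero.2 ha)]
        have hb' : b' = s * (a' - 1) := by rw [h, div_mul_cancel₀ _ (sub_ne_zero.2 ha')]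
        have key : ∀ {a : ZMod p}, a ≠ 1 → a * a - c * (s * (a - 1)) * (s * (a - 1)) = 1 →
            a * (1 - c * s ^ 2) = -(1 + c * s ^ 2) := fun {a} ha h => by
          have : (a - 1) * (a * (1 - c * s ^ 2) + (1 + c * s ^ 2)) = 0 := by linear_combination h
          linear_combination (mul_eq_zero.1 this).resolve_left (sub_ne_zero.2 ha)
        rw [hb] at hab
        rw [hb'] at hab'
        have e1 := key ha hab
        have e2 := key ha' hab'
        have hne : 1 - c * s ^ 2 ≠ 0 := fun e => h2 (by rw [e, mul_zero] at e1; linear_combination e1 + e)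
        have hae : a = a' := mul_right_cancel₀ hne (e1.trans e2.symm)
        subst hae
        exact Subtype.ext (Prod.ext rfl (hb.trans hb'.symm))
    calc Nat.card sol ≤ Nat.card (Option (ZMod p)) := Nat.card_le_card_of_injective f hf
      _ = p + 1 := by rw [Finite.card_option, Nat.card_zmod]
  let g : X × Bool → sol := fun q => ⟨(if q.2 then 1 else -1 : ZMod p) • ((M q.1 0 0, M q.1 0 1) : ZMod p × ZMod p), by
    obtain ⟨h1, -, -, -⟩ := heq q.1
    rw [(hshape q.1).2] at h1
    cases q.2 <;> simp <;> linear_combination h1⟩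
  have hext : ∀ x y : X, M x 0 0 = M y 0 0 → M x 0 1 = M y 0 1 → x = y := fun x y e1 e2 => hM (by
    ext i j
    fin_cases i <;> fin_cases j <;> simp [(hshape x).1, (hshape x).2, (hshape y).1, (hshape y).2, e1, e2])
  have hopp : ∀ x y : X, ¬ (M x 0 0 = -M y 0 0 ∧ M x 0 1 = -M y 0 1) := by
    rintro x y ⟨e1, e2⟩
    have hxy : M x = -M y := by
      ext i j
      fin_cases i <;> fin_cases j <;> simp [(hshape x).1, (hshape x).2, (hshape y).1, (hshape y).2, e1, e2]
    have hm : M (x * y⁻¹) = -1 := by rw [map_mul, hxy, neg_mul, ← map_mul, mul_inv_cancel, map_one]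
    have hsq : (x * y⁻¹) ^ 2 = 1 := hM (by rw [map_pow, hm, map_one, neg_one_sq])
    have h1 : x * y⁻¹ = 1 := orderOf_eq_one_iff.1
      (Nat.eq_one_of_dvd_coprimes (Nat.coprime_two_left.2 hodd) (orderOf_dvd_of_pow_eq_one hsq) (orderOf_dvd_natCard _))
    rw [h1, map_one] at hm
    have := congrFun (congrFun hm 0) 0
    simp at this
    exact h2 (by linear_combination this)
  have hg : Function.Injective g := by
    rintro ⟨x, b⟩ ⟨y, b'⟩ h
    have h' := congrArg Subtype.val h
    simp only [g, Prod.smul_mk, smul_eq_mul, Prod.mk.injEq] at h'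
    cases b <;> cases b' <;> simp at h'
    · exact Prod.ext (hext x y h'.1 h'.2) rfl
    · exact absurd ⟨h'.1.symm, h'.2.symm⟩ (hopp y x)
    · exact absurd h' (hopp x y)
    · exact Prod.ext (hext x y h'.1 h'.2) rfl
  have := Nat.card_le_card_of_injective g hg
  rw [Nat.card_prod, Nat.card_eq_fintype_card (α := Bool), Fintype.card_bool, mul_comm] at this
  omega

/-- `exists_matrix` for a given module structure. -/
theorem exists_matrix_aux (hp2 : p ≠ 2) {C : Type u} [Monoid C] {V : Type u} [CommGroup V] [Finite V]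
    [Module (ZMod p) (Additive V)] (hcard : Nat.card V = p ^ 2) (f : C →* Monoid.End V) (s : C) {ea ey : V}
    (hsa : f s ea = ea) (hsy : f s ey = ey⁻¹) (ha : ea ≠ 1) (hy : ey ≠ 1) :
    (∀ x : V, ∃ i j : ℕ, x = ea ^ i * ey ^ j) ∧
      ∃ M : C →* Matrix (Fin 2) (Fin 2) (ZMod p),
        M s = !![1, 0; 0, -1] ∧ ∀ c d, M c = M d ↔ f c = f d := by
  classical
  have hp : p.Prime := Fact.out
  let ρ : C →* Module.End (ZMod p) (Additive V) := endHom f
  have hρ : ∀ (c : C) (x : V), ρ c (Additive.ofMul x) = Additive.ofMul (f c x) := fun c x => rfl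
  set a' := Additive.ofMul ea with ha'
  set y' := Additive.ofMul ey with hy'
  have hsa' : ρ s a' = a' := by rw [ha', hρ, hsa]
  have hsy' : ρ s y' = -y' := by rw [hy', hρ, hsy, ofMul_inv]
  have h2 : (2 : ZMod p) ≠ 0 := by
    intro e
    have : ((2 : ℕ) : ZMod p) = 0 := by exact_mod_cast e
    rw [ZMod.natCast_eq_zero_iff] at this
    exact hp2 ((Nat.prime_dvd_prime_iff_eq hp Nat.prime_two).1 this)
  have hli : LinearIndependent (ZMod p) ![a', y'] := by
    rw [LinearIndependent.pair_iff]
    intro i j hij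
    have h' := congrArg (ρ s) hij
    rw [map_add, map_smul, map_smul, hsa', hsy', map_zero, smul_neg] at h'
    have h2i : (2 * i) • a' = 0 := by
      rw [two_mul, add_smul]
      calc i • a' + i • a' = (i • a' + j • y') + (i • a' + -(j • y')) := by abel
        _ = 0 := by rw [hij, h', add_zero]
    have hi : i = 0 := by
      rcases smul_eq_zero.1 h2i with h | h
      · exact (mul_eq_zero.1 h).resolve_left h2
      · exact absurd (ofMul_eq_zero.1 h) ha
    refine ⟨hi, ?_⟩
    rw [hi, zero_smul, zero_add] at hij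
    rcases smul_eq_zero.1 hij with h | h
    · exact h
    · exact absurd (ofMul_eq_zero.1 h) hy
  haveI : Finite (Additive V) := inferInstanceAs (Finite V)
  have hfr : Module.finrank (ZMod p) (Additive V) = 2 := by
    haveI : Module.Finite (ZMod p) (Additive V) := Module.Finite.of_finite
    have h := Module.natCard_eq_pow_finrank (K := ZMod p) (V := Additive V)
    rw [Nat.card_zmod, Nat.card_congr Additive.toMul, hcard] at h
    exact (Nat.pow_right_injective hp.two_le h).symm
  let b := basisOfLinearIndependentOfCardEqFinrank hli (by rw [hfr, Fintype.card_fin])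
  have hb : ∀ i, b i = ![a', y'] i := fun i => by simp [b]
  constructor
  · intro x
    have hsum := b.sum_repr (Additive.ofMul x)
    rw [Fin.sum_univ_two, hb, hb] at hsum
    set i := b.repr (Additive.ofMul x) 0
    set j := b.repr (Additive.ofMul x) 1
    rw [← ZMod.natCast_zmod_val i, ← ZMod.natCast_zmod_val j, Nat.cast_smul_eq_nsmul, Nat.cast_smul_eq_nsmul] at hsum
    exact ⟨i.val, j.val, (congrArg Additive.toMul hsum).symm⟩
  refine ⟨(LinearMap.toMatrixAlgEquiv b).toMulEquiv.toMonoidHom.comp ρ, ?_, fun c d => ?_⟩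
  · show LinearMap.toMatrixAlgEquiv b (ρ s) = _
    ext i j
    rw [LinearMap.toMatrixAlgEquiv_apply]
    have h0 : ρ s (b 0) = b 0 := by rw [hb]; exact hsa'
    have h1 : ρ s (b 1) = -b 1 := by rw [hb]; exact hsy'
    fin_cases i <;> fin_cases j <;> simp [h0, h1]
  · show LinearMap.toMatrixAlgEquiv b (ρ c) = LinearMap.toMatrixAlgEquiv b (ρ d) ↔ _
    rw [(LinearMap.toMatrixAlgEquiv b).injective.eq_iff]
    refine ⟨fun h => MonoidHom.ext fun x => ?_, fun h => LinearMap.ext fun w => ?_⟩
    · exact congrArg Additive.toMul ((hρ c x).symm.trans ((LinearMap.congr_fun h _).trans (hρ d x)))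
    · show Additive.ofMul (f c w.toMul) = Additive.ofMul (f d w.toMul)
      rw [h]

/-- Matrices for an action on a group of order `p²` and exponent `p`, in a basis adapted to an element `s` with
eigenvalues `1`, `-1`. -/
theorem exists_matrix (hp2 : p ≠ 2) {C : Type u} [Monoid C] {V : Type u} [CommGroup V] [Finite V]
    (hcard : Nat.card V = p ^ 2) (hexp : ∀ x : V, x ^ p = 1) (f : C →* Monoid.End V) (s : C) {ea ey : V}
    (hsa : f s ea = ea) (hsy : f s ey = ey⁻¹) (ha : ea ≠ 1) (hy : ey ≠ 1) :
    (∀ x : V, ∃ i j : ℕ, x = ea ^ i * ey ^ j) ∧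
      ∃ M : C →* Matrix (Fin 2) (Fin 2) (ZMod p),
        M s = !![1, 0; 0, -1] ∧ ∀ c d, M c = M d ↔ f c = f d := by
  letI : Module (ZMod p) (Additive V) :=
    AddCommGroup.zmodModule fun x => congrArg Additive.ofMul (hexp x.toMul)
  exact exists_matrix_aux hp2 hcard f s hsa hsy ha hy

end CfsgLib.GW.IIbFinal
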