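import Cfsg.Agent.Lib.GW.IIb.RotationCore
import Cfsg.Agent.Lib.GW.IIb.RotationPure

/-!
(IIb), the left case: the action of `O = O(C(t))` on `P / Z(P)` as matrices over `ZMod p`, and its kernel.
-/

set_option autoImplicit false
set_option linter.style.haveILetI false
set_option linter.unusedSectionVars false

namespace CfsgLib.GW

open Cfsg
open CfsgLib.BenderMax (OO)

universe u

variable {G : Type u} [Group G] [Finite G]

set_option maxHeartbeats 1000000 in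
theorem IIbData.exists_action (D : IIbData G) (hP : ¬ OO D.p (centI D.t) ≤ D.H)
    (hX : coreC D.t ⊓ Subgroup.centralizer ({D.v} : Set G) = D.A)
    (hAp : Nat.card D.A = D.p)
    (hQc : ∀ y ∈ D.Q D.p, ∀ w ∈ OO D.p (centI D.t), w * y = y * w)
    (hPcard : Nat.card (OO D.p (centI D.t)) = D.p ^ 2 * Nat.card (D.Q D.p)) :
    ∃ a ∈ OO D.p (centI D.t), ∃ y ∈ OO D.p (centI D.t),
      (∀ c : G, c * a = a * c → c * y = y * c → (∀ q ∈ D.Q D.p, c * q = q * c) →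
        ∀ x ∈ OO D.p (centI D.t), c * x = x * c) ∧
      (∀ w ∈ OO D.p (centI D.t), ∀ x ∈ OO D.p (centI D.t), x⁻¹ * (w * x * w⁻¹) ∈ D.Q D.p) ∧
      (∀ x ∈ OO D.p (centI D.t), x ^ D.p ∈ D.Q D.p) ∧
      ∃ MO : coreC D.t →* Matrix (Fin 2) (Fin 2) (ZMod D.p),
        (∀ o : coreC D.t, o ∈ MO.ker ↔ ∀ x ∈ OO D.p (centI D.t), x⁻¹ * ((o : G) * x * (o : G)⁻¹) ∈ D.Q D.p) ∧
        ∀ o o' : coreC D.t, (o' : G) = D.v * o * D.v⁻¹ → MO o' = !![1, 0; 0, -1] * MO o * !![1, 0; 0, -1] := by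
  classical
  obtain ⟨a, -, haA, hao, -, -, -, -, hPc, -, -⟩ := D.nonab hP
  set p := D.p with hpdef
  set t := D.t with htdef
  set v := D.v with hvdef
  set C := centI t with hCdef
  set P := OO p C with hPdef
  have hp := D.conf.hp
  have hp2 := D.conf.hp2
  haveI : Fact p.Prime := ⟨hp⟩
  have hPO : P ≤ coreC t := D.OO_le_core hp hp2
  have hPC : P ≤ C := D.OO_le_C p
  have hOC : coreC t ≤ C := D.core_le_C
  have hQP : D.Q p ≤ P := fun y hy => (D.Q_le p hp hp2 hy).1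
  have haPm : a ∈ P := by have h := haA; rw [D.A_eq] at h; exact h.1
  have haX : a ∈ coreC t ⊓ Subgroup.centralizer ({v} : Set G) := by rw [hX]; exact haA
  have hvC : v ∈ C := D.conf.v_mem
  have hv2 : v * v = 1 := D.conf.vv
  have hvi : v⁻¹ = v := inv_eq_of_mul_eq_one_right hv2
  have hvv : ∀ g : G, v * (v * g * v⁻¹) * v⁻¹ = g := fun g => by
    calc v * (v * g * v⁻¹) * v⁻¹ = (v * v) * g * (v * v)⁻¹ := by group
      _ = g := by rw [hv2]; group
  have hQinv : ∀ y ∈ D.Q p, v * y * v⁻¹ = y⁻¹ :=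
    D.refl_inv p hp hp2 v (D.L_le D.v_mem) D.conf.hv (D.conf.htZ v D.conf.hvS) D.conf.hvt
  have hoddO : ∀ g ∈ coreC t, Odd (orderOf g) := fun g hg =>
    ((mem_coreC D.conf.hyp.dihedral D.conf.ht).1 hg).2
  -- square roots
  have hroot : ∀ n ∈ coreC t, ∃ r ∈ Subgroup.zpowers n, r * r = n := fun n hn => by
    obtain ⟨j, hj⟩ := hoddO n hn
    refine ⟨n ^ (j + 1), pow_mem (Subgroup.mem_zpowers n) _, ?_⟩
    rw [← pow_add, show j + 1 + (j + 1) = orderOf n + 1 by omega, pow_succ, pow_orderOf_eq_one, one_mul]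
  -- `V = P / Q`
  set Qs := (D.Q p).subgroupOf P with hQs
  haveI hQsn : Qs.Normal := ⟨fun x hx g => by
    show ((g * x * g⁻¹ : P) : G) ∈ D.Q p
    push_cast
    have hx' : (x : G) ∈ D.Q p := hx
    rw [hQc _ hx' _ g.2, mul_inv_cancel_right]
    exact hx'⟩
  have hcardV : Nat.card (↥P ⧸ Qs) = p ^ 2 := by
    have h := Subgroup.card_eq_card_quotient_mul_card_subgroup Qs
    rw [hPcard, Nat.card_congr (Subgroup.subgroupOfEquivOfLe hQP).toEquiv] at h
    exact (Nat.eq_of_mul_eq_mul_right Nat.card_pos h).symm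
  have hnc : ∃ y ∈ P, y * a ≠ a * y := by
    by_contra hc
    push Not at hc
    have haQ := hPc a haPm hc
    have := (D.Q_meet p hp hp2).le ⟨haQ, D.A_le_W haA⟩
    rw [Subgroup.mem_bot] at this
    rw [this, orderOf_one] at hao
    exact hp.ne_one hao.symm
  have hexp : ∀ x : ↥P ⧸ Qs, x ^ p = 1 := by
    intro x
    obtain ⟨i, hi, hxi⟩ := (Nat.dvd_prime_pow hp).1 (hcardV ▸ orderOf_dvd_natCard x)
    have hi2 : i ≠ 2 := by
      rintro rfl
      haveI : IsCyclic (↥P ⧸ Qs) := isCyclic_of_orderOf_eq_card x (by rw [hxi, hcardV])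
      haveI := (QuotientGroup.mk' Qs).isMulCommutative_of_isCyclic_of_ker_le_center (by
        rw [QuotientGroup.ker_mk']
        exact fun y hy => Subgroup.mem_center_iff.2 fun g => Subtype.ext (hQc _ hy _ g.2))
      obtain ⟨y, hy, hya⟩ := hnc
      exact hya (congrArg Subtype.val (mul_comm' (⟨y, hy⟩ : P) ⟨a, haPm⟩))
    refine orderOf_dvd_iff_pow_eq_one.1 ?_
    rw [hxi]
    exact (pow_dvd_pow p (by omega : i ≤ 1)).trans (pow_one p).dvd
  haveI hVc := IsPGroup.isMulCommutative_of_card_eq_prime_sq hcardV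
  letI : CommGroup (↥P ⧸ Qs) := { (inferInstance : Group (↥P ⧸ Qs)) with mul_comm := mul_comm' }
  -- the action of `C`
  let cV : C → ((↥P ⧸ Qs) →* (↥P ⧸ Qs)) := fun g => QuotientGroup.map Qs Qs
    { toFun := fun x => ⟨(g : G) * x * (g : G)⁻¹, BenderMax.conj_OO g.2 x.2⟩
      map_one' := Subtype.ext (by simp)
      map_mul' := fun x y => Subtype.ext (by simp [mul_assoc]) }
    (fun x hx => D.Q_conj hP hQc g.2 hx)
  let cE : C →* Monoid.End (↥P ⧸ Qs) :=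
    { toFun := cV
      map_one' := MonoidHom.ext fun w => by
        obtain ⟨x, rfl⟩ := QuotientGroup.mk_surjective w
        exact congrArg (QuotientGroup.mk (s := Qs)) (Subtype.ext (by simp))
      map_mul' := fun g h => MonoidHom.ext fun w => by
        obtain ⟨x, rfl⟩ := QuotientGroup.mk_surjective w
        exact congrArg (QuotientGroup.mk (s := Qs)) (Subtype.ext (by simp [mul_assoc])) }
  -- the basis
  obtain ⟨y, hyP, hyQ, hyv⟩ : ∃ y ∈ P, y ∉ D.Q p ∧ v * y * v⁻¹ = y⁻¹ := by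
    by_contra hc
    push Not at hc
    obtain ⟨y, hy, hya⟩ := hnc
    have hw : y⁻¹ * (v * y * v⁻¹) ∈ P := mul_mem (inv_mem hy) (BenderMax.conj_OO hvC hy)
    have hwinv : v * (y⁻¹ * (v * y * v⁻¹)) * v⁻¹ = (y⁻¹ * (v * y * v⁻¹))⁻¹ := by
      calc v * (y⁻¹ * (v * y * v⁻¹)) * v⁻¹ = (v * y * v⁻¹)⁻¹ * (v * (v * y * v⁻¹) * v⁻¹) := by group
        _ = _ := by rw [hvv]; group
    have hwQ : y⁻¹ * (v * y * v⁻¹) ∈ D.Q p := by_contra fun h => hc _ hw h hwinv
    obtain ⟨r, hr, hrr⟩ := hroot _ (hPO hw)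
    have hrQ : r ∈ D.Q p := Subgroup.zpowers_le.2 hwQ hr
    have hfix : v * (y * r) * v⁻¹ = y * r := by
      calc v * (y * r) * v⁻¹ = (v * y * v⁻¹) * (v * r * v⁻¹) := by group
        _ = y * (y⁻¹ * (v * y * v⁻¹)) * r⁻¹ := by rw [hQinv r hrQ]; group
        _ = y * (r * r) * r⁻¹ := by rw [hrr]
        _ = y * r := by group
    have hA : y * r ∈ D.A := by
      rw [← hX]
      exact ⟨hPO (mul_mem hy (hQP hrQ)), Subgroup.mem_centralizer_singleton_iff.2 (mul_inv_eq_iff_eq_mul.1 hfix).symm⟩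
    refine hya ?_
    have hAa : D.A = Subgroup.zpowers a := (Subgroup.eq_of_le_of_card_ge (Subgroup.zpowers_le.2 haA)
      (by rw [Nat.card_zpowers, hao, hAp])).symm
    rw [hAa] at hA
    obtain ⟨i, hi⟩ := Subgroup.mem_zpowers_iff.1 hA
    have hy' : y = a ^ i * r⁻¹ := by rw [hi]; group
    have hra : Commute r⁻¹ a := (show Commute a r from hQc r hrQ a haPm).symm.inv_left
    rw [hy']
    exact (((Commute.refl a).zpow_left i).mul_left hra).eq
  have haQ : a ∉ D.Q p := fun h => by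
    have := (D.Q_meet p hp hp2).le ⟨h, D.A_le_W haA⟩
    rw [Subgroup.mem_bot] at this
    rw [this, orderOf_one] at hao
    exact hp.ne_one hao.symm
  have hmk1 : ∀ (g : G) (hg : g ∈ P), ((⟨g, hg⟩ : P) : ↥P ⧸ Qs) = 1 ↔ g ∈ D.Q p := fun g hg =>
    QuotientGroup.eq_one_iff _
  set sv : C := ⟨v, hvC⟩ with hsv
  obtain ⟨hcoord, M₀, hMs, hMiff⟩ := IIbFinal.exists_matrix (p := p) hp2 hcardV hexp cE sv
    (ea := ((⟨a, haPm⟩ : P) : ↥P ⧸ Qs)) (ey := ((⟨y, hyP⟩ : P) : ↥P ⧸ Qs))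
    (by
      refine congrArg (QuotientGroup.mk (s := Qs)) (Subtype.ext ?_)
      show v * a * v⁻¹ = a
      rw [← Subgroup.mem_centralizer_singleton_iff.1 haX.2, mul_inv_cancel_right])
    (by
      rw [← QuotientGroup.mk_inv]
      exact congrArg (QuotientGroup.mk (s := Qs)) (Subtype.ext hyv))
    (fun h => haQ ((hmk1 a haPm).1 h)) (fun h => hyQ ((hmk1 y hyP).1 h))
  -- generation
  have hgen : ∀ c : G, c * a = a * c → c * y = y * c → (∀ q ∈ D.Q p, c * q = q * c) → ∀ x ∈ P, c * x = x * c := by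
    intro c hca hcy hcQ x hx
    obtain ⟨i, j, hij⟩ := hcoord ((⟨x, hx⟩ : P) : ↥P ⧸ Qs)
    rw [← QuotientGroup.mk_pow, ← QuotientGroup.mk_pow, ← QuotientGroup.mk_mul] at hij
    have hq : ((⟨a, haPm⟩ : P) ^ i * (⟨y, hyP⟩ : P) ^ j)⁻¹ * ⟨x, hx⟩ ∈ Qs := QuotientGroup.eq.1 hij.symm
    have hq' : (a ^ i * y ^ j)⁻¹ * x ∈ D.Q p := by
      have := hq
      rw [hQs, Subgroup.mem_subgroupOf] at this
      simpa using this
    have h : Commute c (a ^ i * y ^ j * ((a ^ i * y ^ j)⁻¹ * x)) :=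
      (((show Commute c a from hca).pow_right _).mul_right ((show Commute c y from hcy).pow_right _)).mul_right
        (hcQ _ hq')
    rwa [mul_inv_cancel_left] at h
  -- the action of `O` and its kernel
  let MO : coreC t →* Matrix (Fin 2) (Fin 2) (ZMod p) := M₀.comp (Subgroup.inclusion hOC)
  have hker : ∀ o : coreC t, o ∈ MO.ker ↔ ∀ (x : G) (hx : x ∈ P),
      x⁻¹ * ((o : G) * x * (o : G)⁻¹) ∈ D.Q p := by
    intro o
    rw [MonoidHom.mem_ker, show MO o = M₀ (Subgroup.inclusion hOC o) from rfl, ← map_one M₀, hMiff, map_one]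
    constructor
    · intro h x hx
      have h' : cE (Subgroup.inclusion hOC o) ((⟨x, hx⟩ : P) : ↥P ⧸ Qs) = ((⟨x, hx⟩ : P) : ↥P ⧸ Qs) := by
        rw [h]; rfl
      have h'' : ((⟨(o : G) * x * (o : G)⁻¹, BenderMax.conj_OO (hOC o.2) hx⟩ : P) : ↥P ⧸ Qs) = ((⟨x, hx⟩ : P) : ↥P ⧸ Qs) := h'
      exact (QuotientGroup.eq (s := Qs)).1 h''.symm
    · intro h
      refine MonoidHom.ext fun w => ?_
      obtain ⟨⟨x, hx⟩, rfl⟩ := QuotientGroup.mk_surjective w
      show ((⟨(o : G) * x * (o : G)⁻¹, BenderMax.conj_OO (hOC o.2) hx⟩ : P) : ↥P ⧸ Qs) = ((⟨x, hx⟩ : P) : ↥P ⧸ Qs)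
      exact ((QuotientGroup.eq (s := Qs)).2 (h x hx : (⟨x, hx⟩ : P)⁻¹ * ⟨(o : G) * x * (o : G)⁻¹, BenderMax.conj_OO (hOC o.2) hx⟩ ∈ Qs)).symm
  refine ⟨a, haPm, y, hyP, hgen, ?_, ?_, MO, hker, ?_⟩
  · intro w hw x hx
    have hcomm' : (((⟨x, hx⟩ : P)⁻¹ * (⟨w, hw⟩ * ⟨x, hx⟩ * (⟨w, hw⟩ : P)⁻¹) : P) : ↥P ⧸ Qs) = 1 := by
      rw [QuotientGroup.mk_mul, QuotientGroup.mk_mul, QuotientGroup.mk_mul, QuotientGroup.mk_inv, QuotientGroup.mk_inv,
        mul_comm' ((⟨w, hw⟩ : P) : ↥P ⧸ Qs), mul_inv_cancel_right, inv_mul_cancel]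
    have h := (QuotientGroup.eq_one_iff (N := Qs) _).1 hcomm'
    exact h
  · intro x hx
    have h0 := hexp ((⟨x, hx⟩ : P) : ↥P ⧸ Qs)
    rw [← QuotientGroup.mk_pow] at h0
    have h1 : ((⟨x, hx⟩ : P) ^ p) ∈ Qs := (QuotientGroup.eq_one_iff _).1 h0
    simpa [hQs, Subgroup.mem_subgroupOf] using h1
  · intro o o' ho'
    have e : Subgroup.inclusion hOC o' = sv * Subgroup.inclusion hOC o * sv⁻¹ := Subtype.ext ho'
    show M₀ (Subgroup.inclusion hOC o') = _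
    rw [e, map_mul, map_mul, show sv⁻¹ = sv from Subtype.ext hvi, hMs]
    rfl

end CfsgLib.GW
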